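import Groth.Agent.Sga3B.Parab.GeomFib147

/-!
# Reductive groups and parabolic subgroups: base change along étale morphisms and descent
along étale coverings
-/

set_option autoImplicit false

universe u

open CategoryTheory MonoidalCategory CartesianMonoidalCategory MonObj GrpObj AlgebraicGeometry

namespace Groth.Agent.Sga3B.Parab.RedCover147

open Groth.Agent.Sga3B GeomBC147 GeomFib147

variable {S : Scheme.{u}}

/-- A property of the structure morphism can be checked after base change along a covering. -/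
theorem hom_of_cover (P : MorphismProperty Scheme.{u}) [IsZariskiLocalAtTarget P]
    [P.IsStableUnderBaseChange]
    [P.DescendsAlong (@Surjective ⊓ @Flat ⊓ @LocallyOfFinitePresentation)]
    {J : Type u} {S' : J → Scheme.{u}} {f : ∀ i, S' i ⟶ S} (hf : EtHom.IsCov f) (X : Over S)
    (h : ∀ i, P (Red.bc (f i) X).hom) : P X.hom := by
  let φ : X ⟶ Over.mk (𝟙 S) := Over.homMk X.hom (by simp)
  change P φ.left
  refine EtHom.of_cover P hf φ fun i => ?_
  have h1 : ((Over.pullback (f i)).map φ).left ≫ (Red.bc (f i) (Over.mk (𝟙 S))).hom =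
      (Red.bc (f i) X).hom := Over.w _
  have h2 : IsIso (Red.bc (f i) (Over.mk (𝟙 S))).hom :=
    inferInstanceAs (IsIso (Limits.pullback.snd (𝟙 S) (f i)))
  have h3 := h i
  rw [← h1] at h3
  exact (P.cancel_right_of_respectsIso _ _).1 h3

section Etale

variable {S' : Scheme.{u}} (f : S' ⟶ S) [LocallyQuasiFinite f]

theorem isReductive_bc {G : Over S} [GrpObj G] (h : Red.IsReductive G) :
    Red.IsReductive (Red.bc f G) := by
  obtain ⟨h1, h2, h3⟩ := h
  have := h1
  have := h2
  exact ⟨MorphismProperty.pullback_snd (P := @IsAffineHom) _ _ h1,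
    inferInstanceAs (Smooth (Limits.pullback.snd G.hom f)),
    fun s' => (isReductiveOver_fibre_iff f s' G).2 (h3 (f s'))⟩

omit [LocallyQuasiFinite f] in
theorem isClosedImmersion_bc {A B : Over S} {i : A ⟶ B} (h : IsClosedImmersion i.left) :
    IsClosedImmersion ((Over.pullback f).map i).left :=
  MorphismProperty.of_isPullback (P := @IsClosedImmersion) (EtHom.isPullback_map f i) h

theorem isParabolic_bc {P G : Over S} [GrpObj P] [GrpObj G] {p : P ⟶ G} (h : Red.IsParabolic p) :
    Red.IsParabolic ((Over.pullback f).map p) := by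
  obtain ⟨h1, h2, h3, h4⟩ := h
  exact ⟨inferInstance, isClosedImmersion_bc f h2,
    inferInstanceAs (Smooth (Limits.pullback.snd P.hom f)),
    fun s' => (isGeom_isParabolicOver.fibre_iff f s' p).2 (h4 (f s'))⟩

theorem isBorel_bc {P G : Over S} [GrpObj P] [GrpObj G] {p : P ⟶ G} (h : Red.IsBorel p) :
    Red.IsBorel ((Over.pullback f).map p) := by
  obtain ⟨h1, h2, h3, h4⟩ := h
  exact ⟨inferInstance, isClosedImmersion_bc f h2,
    inferInstanceAs (Smooth (Limits.pullback.snd P.hom f)),
    fun s' => (isGeom_isBorelOver.fibre_iff f s' p).2 (h4 (f s'))⟩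

end Etale

/-- A family which is flat, locally of finite presentation, locally quasi-finite and jointly
surjective; for example an étale covering. -/
structure IsEtCov {J : Type u} {S' : J → Scheme.{u}} (f : ∀ i, S' i ⟶ S) : Prop where
  cov : EtHom.IsCov f
  qf : ∀ i, LocallyQuasiFinite (f i)

theorem IsEtCov.of_etale {J : Type u} {S' : J → Scheme.{u}} (f : ∀ i, S' i ⟶ S)
    (h : ∀ i, Etale (f i)) (hs : ∀ s : S, ∃ i, s ∈ Set.range (f i)) : IsEtCov f where
  cov := ⟨fun i => have := h i; inferInstance, fun i => have := h i; inferInstance, hs⟩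
  qf i := have := h i; Desc.LQF.of_etale (f i)

/-- From étale neighbourhoods of all points to an étale covering. -/
theorem exists_isEtCov {Q : ∀ (S' : Scheme.{u}), (S' ⟶ S) → Prop}
    (h : ∀ s : S, ∃ (S' : Scheme.{u}) (f : S' ⟶ S), Etale f ∧ s ∈ Set.range f ∧ Q S' f) :
    ∃ (J : Type u) (S' : J → Scheme.{u}) (f : ∀ i, S' i ⟶ S), (∀ i, Etale (f i)) ∧ IsEtCov f ∧
      ∀ i, Q (S' i) (f i) := by
  choose S' f h1 h2 h3 using h
  exact ⟨S, S', f, h1, IsEtCov.of_etale f h1 fun s => ⟨s, h2 s⟩, h3⟩

section Cover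

variable {J : Type u} {S' : J → Scheme.{u}} {f : ∀ i, S' i ⟶ S} (hf : IsEtCov f)

include hf

theorem isAffineHom_of_cover {X : Over S} (h : ∀ i, IsAffineHom (Red.bc (f i) X).hom) :
    IsAffineHom X.hom :=
  have := Etbase.FpqcDescent.descendsAlong_isAffineHom.{u}
  hom_of_cover @IsAffineHom hf.cov X h

theorem smooth_of_cover {X : Over S} (h : ∀ i, Smooth (Red.bc (f i) X).hom) : Smooth X.hom :=
  hom_of_cover @Smooth hf.cov X h

theorem quasiCompact_of_cover {X : Over S} (h : ∀ i, QuasiCompact (Red.bc (f i) X).hom) :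
    QuasiCompact X.hom :=
  have := Etbase.FpqcDescent.descendsAlong_quasiCompact.{u}
  hom_of_cover @QuasiCompact hf.cov X h

theorem isClosedImmersion_of_cover {A B : Over S} {i : A ⟶ B}
    (h : ∀ j, IsClosedImmersion ((Over.pullback (f j)).map i).left) : IsClosedImmersion i.left :=
  have := Etbase.FpqcDescent.descendsAlong_isClosedImmersion.{u}
  EtHom.of_cover @IsClosedImmersion hf.cov i h

theorem isOpenImmersion_of_cover {A B : Over S} {i : A ⟶ B}
    (h : ∀ j, IsOpenImmersion ((Over.pullback (f j)).map i).left) : IsOpenImmersion i.left :=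
  EtHom.of_cover @IsOpenImmersion hf.cov i h

theorem isIso_of_cover {A B : Over S} {i : A ⟶ B}
    (h : ∀ j, IsIso ((Over.pullback (f j)).map i)) : IsIso i := by
  have h1 : IsIso i.left := EtHom.of_cover (MorphismProperty.isomorphisms Scheme.{u}) hf.cov i
    fun j => by
      have := h j
      exact (inferInstanceAs (IsIso ((Over.forget _).map ((Over.pullback (f j)).map i))))
  have h2 : IsIso ((Over.forget S).map i) := h1
  exact isIso_of_reflects_iso i (Over.forget S)

theorem isReductive_of_cover {G : Over S} [GrpObj G] (h : ∀ i, Red.IsReductive (Red.bc (f i) G)) :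
    Red.IsReductive G := by
  refine ⟨isAffineHom_of_cover hf fun i => (h i).1, smooth_of_cover hf fun i => (h i).2.1,
    fun s => ?_⟩
  obtain ⟨i, s', rfl⟩ := hf.cov.surj s
  have := hf.qf i
  exact (isReductiveOver_fibre_iff (f i) s' G).1 ((h i).2.2 s')

theorem isParabolic_of_cover {P G : Over S} [GrpObj P] [GrpObj G] {p : P ⟶ G} (hp : IsMonHom p)
    (h : ∀ i, Red.IsParabolic ((Over.pullback (f i)).map p)) : Red.IsParabolic p := by
  refine ⟨hp, isClosedImmersion_of_cover hf fun i => (h i).2.1,
    smooth_of_cover hf fun i => (h i).2.2.1, fun s => ?_⟩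
  obtain ⟨i, s', rfl⟩ := hf.cov.surj s
  have := hf.qf i
  exact (isGeom_isParabolicOver.fibre_iff (f i) s' p).1 ((h i).2.2.2 s')

theorem isBorel_of_cover {P G : Over S} [GrpObj P] [GrpObj G] {p : P ⟶ G} (hp : IsMonHom p)
    (h : ∀ i, Red.IsBorel ((Over.pullback (f i)).map p)) : Red.IsBorel p := by
  refine ⟨hp, isClosedImmersion_of_cover hf fun i => (h i).2.1,
    smooth_of_cover hf fun i => (h i).2.2.1, fun s => ?_⟩
  obtain ⟨i, s', rfl⟩ := hf.cov.surj s
  have := hf.qf i
  exact (isGeom_isBorelOver.fibre_iff (f i) s' p).1 ((h i).2.2.2 s')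

end Cover

end Groth.Agent.Sga3B.Parab.RedCover147
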