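import Groth.Prelude.Def_Par
import Groth.Prelude.Def_Red2
import Groth.Agent.Sga3B.DSPts
import Groth.Agent.Sga3B.Pts
import Groth.Agent.Sga3B.BcIso
import Groth.Agent.Sga3B.TorusAlgClosed
import Mathlib.Algebra.Polynomial.Laurent

/-!
# The dynamic method over a base scheme: definitions

`G` is an `S`-group and `lam : 𝔾_{m,S} ⟶ G` a homomorphism.  For a ring `C` and `c : Spec C ⟶ S`
the orbit of `g ∈ G(Spec C)` is the `Spec C[T;T⁻¹]`-valued point `λ(T) g λ(T)⁻¹`.
-/

set_option autoImplicit false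

universe u

open CategoryTheory MonoidalCategory CartesianMonoidalCategory MonObj GrpObj AlgebraicGeometry
open scoped LaurentPolynomial Polynomial

namespace Groth.Agent.Sga3B.Parab

variable {S S' : Scheme.{u}}

section Test

variable (C : Type u) [CommRing C] (c : Spec (CommRingCat.of C) ⟶ S)

/-- `Spec C` over `S`. -/
noncomputable abbrev aff : Over S := Over.mk c

/-- `Spec C[T]` over `S`. -/
noncomputable abbrev lin : Over S := Over.mk (Spec.map (CommRingCat.ofHom (algebraMap C C[X])) ≫ c)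

/-- `Spec C[T;T⁻¹]` over `S`. -/
noncomputable abbrev gmo : Over S :=
  Over.mk (Spec.map (CommRingCat.ofHom (algebraMap C C[T;T⁻¹])) ≫ c)

/-- The projection `Spec C[T] ⟶ Spec C`. -/
noncomputable def linPr : lin C c ⟶ aff C c :=
  Over.homMk (Spec.map (CommRingCat.ofHom (algebraMap C C[X]))) rfl

/-- The projection `Spec C[T;T⁻¹] ⟶ Spec C`. -/
noncomputable def gmPr : gmo C c ⟶ aff C c :=
  Over.homMk (Spec.map (CommRingCat.ofHom (algebraMap C C[T;T⁻¹]))) rfl

/-- The inclusion `Spec C[T;T⁻¹] ⟶ Spec C[T]`. -/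
noncomputable def toLin : gmo C c ⟶ lin C c :=
  Over.homMk (Spec.map (CommRingCat.ofHom (Polynomial.toLaurentAlg (R := C)).toRingHom)) (by
    change Spec.map _ ≫ Spec.map _ ≫ c = Spec.map _ ≫ c
    rw [← Category.assoc, ← Spec.map_comp, ← CommRingCat.ofHom_comp]
    congr 3
    exact (Polynomial.toLaurentAlg (R := C)).comp_algebraMap)

/-- The zero section `Spec C ⟶ Spec C[T]`. -/
noncomputable def zeroSec : aff C c ⟶ lin C c :=
  Over.homMk (Spec.map (CommRingCat.ofHom (Polynomial.aeval (R := C) (0 : C)).toRingHom)) (by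
    change Spec.map _ ≫ Spec.map _ ≫ c = c
    rw [← Category.assoc, ← Spec.map_comp, ← CommRingCat.ofHom_comp]
    have : (Polynomial.aeval (R := C) (0 : C)).toRingHom.comp (algebraMap C C[X]) = RingHom.id C :=
      (Polynomial.aeval (R := C) (0 : C)).comp_algebraMap
    rw [this]
    change Spec.map (𝟙 _) ≫ c = c
    rw [Spec.map_id, Category.id_comp])

/-- The character `n ↦ Tⁿ` with values in the functions on `Spec C[T;T⁻¹]`. -/
noncomputable def tChar : Multiplicative ℤ →* Γ((gmo C c).left, ⊤) where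
  toFun n := (Scheme.ΓSpecIso (CommRingCat.of C[T;T⁻¹])).inv (LaurentPolynomial.T n.toAdd)
  map_one' := by
    rw [toAdd_one, LaurentPolynomial.T_zero]
    exact map_one (Scheme.ΓSpecIso (CommRingCat.of C[T;T⁻¹])).inv.hom
  map_mul' m n := by
    rw [toAdd_mul, LaurentPolynomial.T_add]
    exact map_mul (Scheme.ΓSpecIso (CommRingCat.of C[T;T⁻¹])).inv.hom _ _

/-- The tautological point `T` of `𝔾_m` over `Spec C[T;T⁻¹]`. -/
noncomputable def tPt : gmo C c ⟶ Red.Gm S := DSPts.dsEquiv (gmo C c) ℤ (tChar C c)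

end Test

section Orbit

variable {G : Over S} [GrpObj G] (lam : Red.Gm S ⟶ G)
variable {C : Type u} [CommRing C] {c : Spec (CommRingCat.of C) ⟶ S}

/-- The conjugated orbit `λ(T) g λ(T)⁻¹`. -/
noncomputable def orb (g : aff C c ⟶ G) : gmo C c ⟶ G :=
  (tPt C c ≫ lam) * (gmPr C c ≫ g) * (tPt C c ≫ lam)⁻¹

/-- The limit of `λ(t) g λ(t)⁻¹` for `t → 0` exists. -/
def LimEx (g : aff C c ⟶ G) : Prop := ∃ h : lin C c ⟶ G, toLin C c ≫ h = orb lam g

/-- The limit of `λ(t) g λ(t)⁻¹` for `t → 0` exists and is the identity. -/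
def LimOne (g : aff C c ⟶ G) : Prop :=
  ∃ h : lin C c ⟶ G, toLin C c ≫ h = orb lam g ∧ zeroSec C c ≫ h = 1

/-- The orbit is constant. -/
def OrbConst (g : aff C c ⟶ G) : Prop := orb lam g = gmPr C c ≫ g

/-- The point `g` of `G` belongs to `P_G(λ)`. -/
def PtP {X : Over S} (g : X ⟶ G) : Prop :=
  ∀ (C : Type u) [CommRing C] (c : Spec (CommRingCat.of C) ⟶ S) (x : aff C c ⟶ X), LimEx lam (x ≫ g)

/-- The point `g` of `G` belongs to `U_G(λ)`. -/
def PtU {X : Over S} (g : X ⟶ G) : Prop :=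
  ∀ (C : Type u) [CommRing C] (c : Spec (CommRingCat.of C) ⟶ S) (x : aff C c ⟶ X), LimOne lam (x ≫ g)

/-- The point `g` of `G` belongs to `Z_G(λ)`. -/
def PtZ {X : Over S} (g : X ⟶ G) : Prop :=
  ∀ (C : Type u) [CommRing C] (c : Spec (CommRingCat.of C) ⟶ S) (x : aff C c ⟶ X),
    OrbConst lam (x ≫ g)

/-- `p : P ⟶ G` is the subgroup `P_G(λ)`. -/
structure IsDynP {P : Over S} [GrpObj P] (p : P ⟶ G) : Prop where
  isMonHom : IsMonHom p
  mono : Mono p
  iff_ptP : ∀ (X : Over S) (g : X ⟶ G), (∃ x : X ⟶ P, x ≫ p = g) ↔ PtP lam g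

/-- `p : U ⟶ G` is the subgroup `U_G(λ)`. -/
structure IsDynU {U : Over S} [GrpObj U] (p : U ⟶ G) : Prop where
  isMonHom : IsMonHom p
  mono : Mono p
  iff_ptU : ∀ (X : Over S) (g : X ⟶ G), (∃ x : X ⟶ U, x ≫ p = g) ↔ PtU lam g

/-- `p : Z ⟶ G` is the subgroup `Z_G(λ)` (equivalently `Red.IsCentralizerOf lam p`). -/
structure IsDynZ {Z : Over S} [GrpObj Z] (p : Z ⟶ G) : Prop where
  isMonHom : IsMonHom p
  mono : Mono p
  iff_ptZ : ∀ (X : Over S) (g : X ⟶ G), (∃ x : X ⟶ Z, x ≫ p = g) ↔ PtZ lam g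

/-- The base change of a cocharacter. -/
noncomputable def bcLam (f : S' ⟶ S) : Red.Gm S' ⟶ Red.bc f G :=
  (TorusAlgClosed.dsBcIso f ℤ).inv.hom.hom ≫ (Over.pullback f).map lam

instance (f : S' ⟶ S) [IsMonHom lam] : IsMonHom (bcLam lam f) := by
  unfold bcLam
  infer_instance

/-- The opposite cocharacter. -/
noncomputable def negLam : Red.Gm S ⟶ G := Red.DSmap S (-(AddMonoidHom.id ℤ)) ≫ lam

lemma isMonHom_DSmap {M N : Type} [AddCommGroup M] [AddCommGroup N] (φ : M →+ N) :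
    IsMonHom (Red.DSmap S φ) := by
  apply Pts.isMonHom_of_points
  intro X x y
  rw [← DSPts.dsEquiv_dsChar ((x * y) ≫ Red.DSmap S φ),
    ← DSPts.dsEquiv_dsChar (x ≫ Red.DSmap S φ), ← DSPts.dsEquiv_dsChar (y ≫ Red.DSmap S φ),
    ← map_mul]
  congr 1
  rw [DSPts.dsChar_DSmap, DSPts.dsChar_DSmap, DSPts.dsChar_DSmap, DSPts.dsChar_mul]
  rfl

instance [IsMonHom lam] : IsMonHom (negLam lam) := by
  have := isMonHom_DSmap (S := S) (-(AddMonoidHom.id ℤ))
  unfold negLam
  infer_instance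

end Orbit

end Groth.Agent.Sga3B.Parab
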