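import Groth.Agent.Sga3B.Parab.DynExist998

/-!
# Base change of `P_G(λ)`, `U_G(λ)`, `Z_G(λ)`
-/

set_option autoImplicit false
universe u

open CategoryTheory MonoidalCategory CartesianMonoidalCategory MonObj GrpObj AlgebraicGeometry Limits

open Groth.Agent.Sga3B.Parab.Chart998 Groth.Agent.Sga3B.Parab.AffPts998
open Groth.Agent.Sga3B.Parab.Dyn998 Groth.Agent.Sga3B.Parab.DynExist998

namespace Groth.Agent.Sga3B.Parab.DynBc998

variable {S S' S'' : Scheme.{u}}

lemma pullbackComp_left (q : S'' ⟶ S') (g : S' ⟶ S) (X : Over S) :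
    ((Over.pullbackComp q g).hom.app X).left ≫ pullback.fst (pullback.snd X.hom g) q ≫
      pullback.fst X.hom g = pullback.fst X.hom (q ≫ g) := by
  have h := conjugateEquiv_counit (Over.mapPullbackAdj (q ≫ g))
    ((Over.mapPullbackAdj q).comp (Over.mapPullbackAdj g)) (Over.mapComp q g).inv X
  have h2 := congrArg (fun z => z.left) h
  simp at h2
  exact h2

lemma bcCongrIso_left {f g : S' ⟶ S} (h : f = g) (G : Over S) [GrpObj G] :
    (BcIso.bcCongrIso h G).hom.hom.hom.left ≫ pullback.fst G.hom g = pullback.fst G.hom f := by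
  subst h
  exact Category.id_comp _

lemma bcCongrIso_inv_left {f g : S' ⟶ S} (h : f = g) (G : Over S) [GrpObj G] :
    (BcIso.bcCongrIso h G).inv.hom.hom.left ≫ pullback.fst G.hom f = pullback.fst G.hom g := by
  subst h
  exact Category.id_comp _

lemma bcCompIso_left (q : S'' ⟶ S') (g : S' ⟶ S) (G : Over S) [GrpObj G] :
    (BcIso.bcCompIso q g G).hom.hom.hom.left ≫ pullback.fst (Red.bc g G).hom q ≫
      pullback.fst G.hom g = pullback.fst G.hom (q ≫ g) := by
  have h1 : (BcIso.bcCompIso q g G).hom.hom.hom.left = ((Over.pullbackComp q g).hom.app G).left := by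
    change ((Over.pullbackComp q g).hom.app G).left ≫ 𝟙 _ = _
    rw [Category.comp_id]
  rw [h1]
  exact pullbackComp_left q g G

lemma dsBcIso_left (f : S' ⟶ S) (M : Type) [AddCommGroup M] :
    (TorusAlgClosed.dsBcIso f M).inv.hom.hom.left ≫ pullback.fst (Red.DS S M).hom f ≫
      pullback.fst (Red.diag (ULift.{u} ℤ) M).hom (specULiftZIsTerminal.from S) =
      pullback.fst (Red.diag (ULift.{u} ℤ) M).hom (specULiftZIsTerminal.from S') := by
  have h1 : (TorusAlgClosed.dsBcIso f M).inv.hom.hom.left =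
    (BcIso.bcCongrIso (specULiftZIsTerminal.hom_ext _ _)
      (Red.diag (ULift.{u} ℤ) M)).inv.hom.hom.left ≫
    (BcIso.bcCompIso f (specULiftZIsTerminal.from S) (Red.diag (ULift.{u} ℤ) M)).hom.hom.hom.left :=
    rfl
  rw [h1, Category.assoc]
  refine (congrArg (fun z => (BcIso.bcCongrIso (specULiftZIsTerminal.hom_ext _ _)
      (Red.diag (ULift.{u} ℤ) M)).inv.hom.hom.left ≫ z)
      (bcCompIso_left f (specULiftZIsTerminal.from S) (Red.diag (ULift.{u} ℤ) M))).trans ?_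
  exact bcCongrIso_inv_left _ _

section Dn

variable (f : S' ⟶ S) {G : Over S} [GrpObj G]

/-- points of the base change, with a comparison isomorphism -/
noncomputable def dnI {T : Over S'} {T' : Over S} (i : T' ≅ (Over.map f).obj T) :
    (T ⟶ Red.bc f G) ≃* (T' ⟶ G) where
  toFun g := i.hom ≫ (DSPts.bcEquiv f T G).symm g
  invFun g := DSPts.bcEquiv f T G (i.inv ≫ g)
  left_inv g := by simp
  right_inv g := by simp
  map_mul' g h := by rw [map_mul, MonObj.comp_mul]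

lemma dnI_left {T : Over S'} {T' : Over S} (i : T' ≅ (Over.map f).obj T) (g : T ⟶ Red.bc f G) :
    (dnI f i g).left = i.hom.left ≫ g.left ≫ pullback.fst G.hom f := by
  change (i.hom ≫ (DSPts.bcEquiv f T G).symm g).left = _
  rw [Over.comp_left, DSPts.bcEquiv_symm_left]

lemma dnI_comp {T₁ T₂ : Over S'} {T₁' T₂' : Over S} (i₁ : T₁' ≅ (Over.map f).obj T₁)
    (i₂ : T₂' ≅ (Over.map f).obj T₂) (t : T₁ ⟶ T₂) (t' : T₁' ⟶ T₂')
    (h : i₁.hom.left ≫ t.left = t'.left ≫ i₂.hom.left) (g : T₂ ⟶ Red.bc f G) :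
    dnI f i₁ (t ≫ g) = t' ≫ dnI f i₂ g := by
  ext1
  rw [dnI_left, Over.comp_left, Over.comp_left, dnI_left, Category.assoc, reassoc_of% h]

variable {C : Type u} [CommRing C] (c : Spec (CommRingCat.of C) ⟶ S')

/-- comparison for `Spec C` -/
noncomputable def affI : aff C (c ≫ f) ≅ (Over.map f).obj (aff C c) := Iso.refl _

/-- comparison for `Spec C[T;T⁻¹]` -/
noncomputable def gmoI : gmo C (c ≫ f) ≅ (Over.map f).obj (gmo C c) :=
  Over.isoMk (Iso.refl _) (by
    change 𝟙 _ ≫ (_ ≫ c) ≫ f = _ ≫ c ≫ f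
    rw [Category.id_comp, Category.assoc])

/-- comparison for `Spec C[T]` -/
noncomputable def linI : lin C (c ≫ f) ≅ (Over.map f).obj (lin C c) :=
  Over.isoMk (Iso.refl _) (by
    change 𝟙 _ ≫ (_ ≫ c) ≫ f = _ ≫ c ≫ f
    rw [Category.id_comp, Category.assoc])

variable {c}

lemma dn_gmPr (g : aff C c ⟶ Red.bc f G) :
    dnI f (gmoI f c) (gmPr C c ≫ g) = gmPr C (c ≫ f) ≫ dnI f (affI f c) g :=
  dnI_comp f _ _ _ _ ((Category.id_comp _).trans (Category.comp_id _).symm) g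

lemma dn_toLin (g : lin C c ⟶ Red.bc f G) :
    dnI f (gmoI f c) (toLin C c ≫ g) = toLin C (c ≫ f) ≫ dnI f (linI f c) g :=
  dnI_comp f _ _ _ _ ((Category.id_comp _).trans (Category.comp_id _).symm) g

lemma dn_zeroSec (g : lin C c ⟶ Red.bc f G) :
    dnI f (affI f c) (zeroSec C c ≫ g) = zeroSec C (c ≫ f) ≫ dnI f (linI f c) g :=
  dnI_comp f _ _ _ _ ((Category.id_comp _).trans (Category.comp_id _).symm) g

lemma dn_tPt (lam : Red.Gm S ⟶ G) :
    dnI f (gmoI f c) (tPt C c ≫ bcLam lam f) = tPt C (c ≫ f) ≫ lam := by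
  have h1 : tPt C (c ≫ f) = dnI f (gmoI f c)
      (tPt C c ≫ (TorusAlgClosed.dsBcIso f ℤ).inv.hom.hom) := by
    apply DSPts.ds_ext
    have h2 : DSPts.dsFst (tPt C (c ≫ f)) = DSPts.dsFst (tPt C c) := by
      rw [tPt, tPt, DSPts.dsFst_dsEquiv, DSPts.dsFst_dsEquiv]
      rfl
    refine h2.trans ?_
    have h3 : (dnI f (gmoI f c) (tPt C c ≫ (TorusAlgClosed.dsBcIso f ℤ).inv.hom.hom)).left =
        (tPt C c).left ≫ (TorusAlgClosed.dsBcIso f ℤ).inv.hom.hom.left ≫
          pullback.fst (Red.DS S ℤ).hom f := by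
      refine (dnI_left f _ _).trans ?_
      change 𝟙 _ ≫ ((tPt C c).left ≫ _) ≫ _ = _
      rw [Category.id_comp, Category.assoc]
    have h4 : DSPts.dsFst (dnI f (gmoI f c)
      (tPt C c ≫ (TorusAlgClosed.dsBcIso f ℤ).inv.hom.hom)) =
        ((tPt C c).left ≫ (TorusAlgClosed.dsBcIso f ℤ).inv.hom.hom.left ≫
          pullback.fst (Red.DS S ℤ).hom f) ≫
          pullback.fst (Red.diag (ULift.{u} ℤ) ℤ).hom (specULiftZIsTerminal.from S) :=
      congrArg (fun z => z ≫
        pullback.fst (Red.diag (ULift.{u} ℤ) ℤ).hom (specULiftZIsTerminal.from S)) h3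
    refine Eq.trans ?_ h4.symm
    refine Eq.trans ?_ ((Category.assoc _ _ _).trans
      (congrArg (fun z => (tPt C c).left ≫ z) (Category.assoc _ _ _))).symm
    exact congrArg (fun z => (tPt C c).left ≫ z) (dsBcIso_left f ℤ).symm
  rw [h1]
  ext1
  rw [Over.comp_left, dnI_left, dnI_left, Over.comp_left, Over.comp_left, bcLam, Over.comp_left]
  have h5 : ((Over.pullback f).map lam).left ≫ pullback.fst G.hom f =
    pullback.fst (Red.Gm S).hom f ≫ lam.left := pullback.lift_fst _ _ _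
  change 𝟙 _ ≫ ((tPt C c).left ≫ _ ≫ ((Over.pullback f).map lam).left) ≫ _ =
    (𝟙 _ ≫ ((tPt C c).left ≫ _) ≫ _) ≫ _
  rw [Category.id_comp, Category.id_comp, Category.assoc, Category.assoc, Category.assoc,
    Category.assoc, h5]

lemma dn_orb (lam : Red.Gm S ⟶ G) (g : aff C c ⟶ Red.bc f G) :
    dnI f (gmoI f c) (orb (bcLam lam f) g) = orb lam (dnI f (affI f c) g) := by
  rw [orb, orb, map_mul, map_mul, map_inv, dn_tPt, dn_gmPr]

lemma limEx_bc_iff (lam : Red.Gm S ⟶ G) (g : aff C c ⟶ Red.bc f G) :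
    LimEx (bcLam lam f) g ↔ LimEx lam (dnI f (affI f c) g) := by
  constructor
  · rintro ⟨h, hh⟩
    exact ⟨dnI f (linI f c) h, by rw [← dn_toLin, hh, dn_orb]⟩
  · rintro ⟨h, hh⟩
    obtain ⟨h, rfl⟩ := (dnI f (linI f c) (G := G)).surjective h
    refine ⟨h, (dnI f (gmoI f c) (G := G)).injective ?_⟩
    rw [dn_toLin, hh, dn_orb]

lemma limOne_bc_iff (lam : Red.Gm S ⟶ G) (g : aff C c ⟶ Red.bc f G) :
    LimOne (bcLam lam f) g ↔ LimOne lam (dnI f (affI f c) g) := by
  constructor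
  · rintro ⟨h, hh, h0⟩
    exact ⟨dnI f (linI f c) h, by rw [← dn_toLin, hh, dn_orb], by rw [← dn_zeroSec, h0, map_one]⟩
  · rintro ⟨h, hh, h0⟩
    obtain ⟨h, rfl⟩ := (dnI f (linI f c) (G := G)).surjective h
    refine ⟨h, (dnI f (gmoI f c) (G := G)).injective ?_,
      (dnI f (affI f c) (G := G)).injective ?_⟩
    · rw [dn_toLin, hh, dn_orb]
    · rw [dn_zeroSec, h0, map_one]

lemma orbConst_bc_iff (lam : Red.Gm S ⟶ G) (g : aff C c ⟶ Red.bc f G) :
    OrbConst (bcLam lam f) g ↔ OrbConst lam (dnI f (affI f c) g) := by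
  rw [OrbConst, OrbConst, ← dn_orb, ← dn_gmPr, EmbeddingLike.apply_eq_iff_eq]

lemma dnI_affI (g : aff C c ⟶ Red.bc f G) :
    dnI f (affI f c) g = (DSPts.bcEquiv f (aff C c) G).symm g := by
  change 𝟙 _ ≫ (DSPts.bcEquiv f (aff C c) G).symm g = _
  exact Category.id_comp _

/-- conditions on points of the base change -/
lemma forall_bc_iff {X : Over S'} (g : X ⟶ Red.bc f G)
    (F : ∀ (C : Type u) [CommRing C] (c : Spec (CommRingCat.of C) ⟶ S), (aff C c ⟶ G) → Prop)
    (F' : ∀ (C : Type u) [CommRing C] (c : Spec (CommRingCat.of C) ⟶ S'),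
      (aff C c ⟶ Red.bc f G) → Prop)
    (hF : ∀ (C : Type u) [CommRing C] (c : Spec (CommRingCat.of C) ⟶ S')
      (g : aff C c ⟶ Red.bc f G), F' C c g ↔ F C (c ≫ f) (dnI f (affI f c) g)) :
    (∀ (C : Type u) [CommRing C] (c : Spec (CommRingCat.of C) ⟶ S') (x : aff C c ⟶ X),
      F' C c (x ≫ g)) ↔
    (∀ (C : Type u) [CommRing C] (c : Spec (CommRingCat.of C) ⟶ S)
      (x : aff C c ⟶ (Over.map f).obj X), F C c (x ≫ (DSPts.bcEquiv f X G).symm g)) := by
  constructor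
  · intro h C _ c x
    obtain ⟨y, hy, rfl⟩ : ∃ (y : Spec (CommRingCat.of C) ⟶ X.left) (hy : (y ≫ X.hom) ≫ f = c),
      x = Over.homMk y ((Category.assoc _ _ _).symm.trans hy) :=
      ⟨x.left, (Category.assoc _ _ _).trans (Over.w x), rfl⟩
    subst hy
    have h1 := (hF C _ _).1 (h C (y ≫ X.hom) (Over.homMk y rfl))
    rw [dnI_affI, ← DSPts.bcEquiv_symm_naturality] at h1
    exact h1
  · intro h C _ c x
    rw [hF, dnI_affI, ← DSPts.bcEquiv_symm_naturality]
    exact h C (c ≫ f) ((Over.map f).map x)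

lemma ptP_bc_iff (lam : Red.Gm S ⟶ G) {X : Over S'} (g : X ⟶ Red.bc f G) :
    PtP (bcLam lam f) g ↔ PtP lam ((DSPts.bcEquiv f X G).symm g) :=
  forall_bc_iff f g (fun _ _ _ g => LimEx lam g) (fun _ _ _ g => LimEx (bcLam lam f) g)
    fun _ _ _ g => limEx_bc_iff f lam g

lemma ptU_bc_iff (lam : Red.Gm S ⟶ G) {X : Over S'} (g : X ⟶ Red.bc f G) :
    PtU (bcLam lam f) g ↔ PtU lam ((DSPts.bcEquiv f X G).symm g) :=
  forall_bc_iff f g (fun _ _ _ g => LimOne lam g) (fun _ _ _ g => LimOne (bcLam lam f) g)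
    fun _ _ _ g => limOne_bc_iff f lam g

lemma ptZ_bc_iff (lam : Red.Gm S ⟶ G) {X : Over S'} (g : X ⟶ Red.bc f G) :
    PtZ (bcLam lam f) g ↔ PtZ lam ((DSPts.bcEquiv f X G).symm g) :=
  forall_bc_iff f g (fun _ _ _ g => OrbConst lam g) (fun _ _ _ g => OrbConst (bcLam lam f) g)
    fun _ _ _ g => orbConst_bc_iff f lam g

lemma exists_bc_iff {P : Over S} [GrpObj P] (p : P ⟶ G) {X : Over S'} (g : X ⟶ Red.bc f G) :
    (∃ x : X ⟶ Red.bc f P, x ≫ (Over.pullback f).map p = g) ↔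
      ∃ x : (Over.map f).obj X ⟶ P, x ≫ p = (DSPts.bcEquiv f X G).symm g := by
  constructor
  · rintro ⟨x, rfl⟩
    refine ⟨(DSPts.bcEquiv f X P).symm x, (DSPts.bcEquiv f X G).injective ?_⟩
    rw [← DSPts.bcEquiv_comp, MulEquiv.apply_symm_apply, MulEquiv.apply_symm_apply]
  · rintro ⟨x, hx⟩
    refine ⟨DSPts.bcEquiv f X P x, ?_⟩
    rw [DSPts.bcEquiv_comp, hx, MulEquiv.apply_symm_apply]

variable {lam : Red.Gm S ⟶ G} {P : Over S} [GrpObj P] {p : P ⟶ G}

/-- **Base change of `P_G(λ)`.** -/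
theorem _root_.Groth.Agent.Sga3B.Parab.IsDynP.bc (h : IsDynP lam p) :
    IsDynP (bcLam lam f) ((Over.pullback f).map p) where
  isMonHom := by
    have := h.isMonHom
    infer_instance
  mono := by
    have := h.mono
    infer_instance
  iff_ptP X g := by rw [exists_bc_iff, h.iff_ptP, ptP_bc_iff]

/-- **Base change of `U_G(λ)`.** -/
theorem _root_.Groth.Agent.Sga3B.Parab.IsDynU.bc (h : IsDynU lam p) :
    IsDynU (bcLam lam f) ((Over.pullback f).map p) where
  isMonHom := by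
    have := h.isMonHom
    infer_instance
  mono := by
    have := h.mono
    infer_instance
  iff_ptU X g := by rw [exists_bc_iff, h.iff_ptU, ptU_bc_iff]

/-- **Base change of `Z_G(λ)`.** -/
theorem _root_.Groth.Agent.Sga3B.Parab.IsDynZ.bc (h : IsDynZ lam p) :
    IsDynZ (bcLam lam f) ((Over.pullback f).map p) where
  isMonHom := by
    have := h.isMonHom
    infer_instance
  mono := by
    have := h.mono
    infer_instance
  iff_ptZ X g := by rw [exists_bc_iff, h.iff_ptZ, ptZ_bc_iff]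

end Dn

end Groth.Agent.Sga3B.Parab.DynBc998
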