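import Groth.Agent.Sga3B.Parab.GeomBC147
import Groth.Agent.Desc.LQF
import Groth.Agent.Etbase.FpqcDescent

/-!
# Geometric fibres and base change along (étale) morphisms with algebraic residue extensions
-/

set_option autoImplicit false

universe u

open CategoryTheory MonoidalCategory CartesianMonoidalCategory MonObj GrpObj AlgebraicGeometry

namespace Groth.Agent.Sga3B.Parab.GeomFib147

open Groth.Agent.Sga3B GeomBC147

section Comp

variable {S S' S'' : Scheme.{u}}

theorem bcCompIso_hom (q : S'' ⟶ S') (g : S' ⟶ S) (G : Over S) [GrpObj G] :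
    (BcIso.bcCompIso q g G).hom.hom.hom = (Over.pullbackComp q g).hom.app G := by
  simp [BcIso.bcCompIso, Functor.mapGrpNatIso, Functor.mapGrpCompIso]
  exact Category.comp_id _

theorem bcCompIso_natural (q : S'' ⟶ S') (g : S' ⟶ S) {A B : Over S} [GrpObj A] [GrpObj B]
    (i : A ⟶ B) :
    (BcIso.bcCompIso q g A).hom.hom.hom ≫ (Over.pullback q).map ((Over.pullback g).map i) =
      (Over.pullback (q ≫ g)).map i ≫ (BcIso.bcCompIso q g B).hom.hom.hom := by
  rw [bcCompIso_hom, bcCompIso_hom]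
  exact ((Over.pullbackComp q g).hom.naturality i).symm

theorem bcCongrIso_natural {f g : S' ⟶ S} (h : f = g) {A B : Over S} [GrpObj A] [GrpObj B]
    (i : A ⟶ B) :
    (BcIso.bcCongrIso h A).hom.hom.hom ≫ (Over.pullback g).map i =
      (Over.pullback f).map i ≫ (BcIso.bcCongrIso h B).hom.hom.hom := by
  subst h
  change 𝟙 _ ≫ _ = _ ≫ 𝟙 _
  rw [Category.id_comp, Category.comp_id]

/-- The base changes of a group along the two sides of a commutative square. -/
noncomputable def sqIso {T S₁ S₂ : Scheme.{u}} {q : T ⟶ S₁} {g : S₁ ⟶ S} {q' : T ⟶ S₂} {g' : S₂ ⟶ S}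
    (h : q ≫ g = q' ≫ g') (G : Over S) [GrpObj G] :
    Grp.mk (Red.bc q (Red.bc g G)) ≅ Grp.mk (Red.bc q' (Red.bc g' G)) :=
  (BcIso.bcCompIso q g G).symm ≪≫ BcIso.bcCongrIso h G ≪≫ BcIso.bcCompIso q' g' G

theorem sqIso_natural {T S₁ S₂ : Scheme.{u}} {q : T ⟶ S₁} {g : S₁ ⟶ S} {q' : T ⟶ S₂} {g' : S₂ ⟶ S}
    (h : q ≫ g = q' ≫ g') {A B : Over S} [GrpObj A] [GrpObj B] (i : A ⟶ B) :
    (sqIso h A).hom.hom.hom ≫ (Over.pullback q').map ((Over.pullback g').map i) =
      (Over.pullback q).map ((Over.pullback g).map i) ≫ (sqIso h B).hom.hom.hom := by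
  have e1 := bcCompIso_natural q g i
  have e2 := bcCongrIso_natural h i
  have e3 := bcCompIso_natural q' g' i
  have e4 := symm_w _ _ e1
  change ((BcIso.bcCompIso q g A).inv.hom.hom ≫ (BcIso.bcCongrIso h A).hom.hom.hom ≫
    (BcIso.bcCompIso q' g' A).hom.hom.hom) ≫ _ = _ ≫ (BcIso.bcCompIso q g B).inv.hom.hom ≫
      (BcIso.bcCongrIso h B).hom.hom.hom ≫ (BcIso.bcCompIso q' g' B).hom.hom.hom
  simp only [Category.assoc]
  rw [e3, reassoc_of% e2, reassoc_of% e4]

end Comp

section Geom

variable {S S' : Scheme.{u}} (f : S' ⟶ S)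

/-- The geometric points over `s'` and `f s'` differ by an isomorphism of algebraic closures. -/
theorem exists_geomPt [LocallyQuasiFinite f] (s' : S') :
    ∃ φ : Spec (CommRingCat.of (AlgebraicClosure (S'.residueField s'))) ⟶
        Spec (CommRingCat.of (AlgebraicClosure (S.residueField (f s')))),
      IsIso φ ∧ Red.geomPt s' ≫ f = φ ≫ Red.geomPt (f s') := by
  let k := S.residueField (f s')
  let k' := S'.residueField s'
  have hfin : (f.residueFieldMap s').hom.Finite := by
    have h1 : (f.stalkMap s').hom.QuasiFinite := f.quasiFiniteAt s'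
    have h2 : (S'.residue s').hom.QuasiFinite :=
      RingHom.QuasiFinite.of_finite (RingHom.Finite.of_surjective _ (S'.residue_surjective _))
    have h3 := h2.comp h1
    rw [← CommRingCat.hom_comp, ← Scheme.residue_residueFieldMap, CommRingCat.hom_comp] at h3
    have h4 : (f.residueFieldMap s').hom.QuasiFinite := RingHom.QuasiFinite.of_comp h3
    let i : Algebra k k' := (f.residueFieldMap s').hom.toAlgebra
    have : Algebra.QuasiFinite k k' := h4
    exact (Module.Finite.of_quasiFinite : Module.Finite k k')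
  algebraize [(f.residueFieldMap s').hom]
  have : Module.Finite k k' := hfin
  let Ω := AlgebraicClosure k'
  let K := AlgebraicClosure k
  have : Algebra.IsAlgebraic k k' := inferInstance
  have : Algebra.IsAlgebraic k Ω := Algebra.IsAlgebraic.trans k k' Ω
  have : IsAlgClosure k Ω := ⟨inferInstance, inferInstance⟩
  let i : K ≃ₐ[k] Ω := IsAlgClosure.equiv k K Ω
  refine ⟨Spec.map (CommRingCat.ofHom i.toRingEquiv.toRingHom), ?_, ?_⟩
  · have : IsIso (CommRingCat.ofHom i.toRingEquiv.toRingHom) :=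
      (i.toRingEquiv.toCommRingCatIso).isIso_hom
    infer_instance
  · rw [Red.geomPt, Red.geomPt, Category.assoc,
      ← Scheme.Hom.SpecMap_residueFieldMap_fromSpecResidueField,
      ← Category.assoc, ← Category.assoc, ← Spec.map_comp, ← Spec.map_comp]
    congr 2
    ext x
    exact (i.commutes x).symm

end Geom

section Back

theorem bcIdIso_natural {S : Scheme.{u}} {A B : Over S} [GrpObj A] [GrpObj B] (i : A ⟶ B) :
    (BcIso.bcIdIso A).hom.hom.hom ≫ i =
      (Over.pullback (𝟙 S)).map i ≫ (BcIso.bcIdIso B).hom.hom.hom := by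
  have h1 : ∀ (A : Over S) [GrpObj A],
      (BcIso.bcIdIso A).hom.hom.hom = Over.pullbackId.hom.app A := by
    intro A _
    simp [BcIso.bcIdIso, Functor.mapGrpNatIso, Functor.mapGrpIdIso]
    exact Category.comp_id _
  rw [h1, h1]
  exact (Over.pullbackId.hom.naturality i).symm

/-- Base change along an isomorphism and back. -/
noncomputable def backIso {X Y : Scheme.{u}} (φ : Y ⟶ X) [IsIso φ] (A : Over X) [GrpObj A] :
    Grp.mk (Red.bc (inv φ) (Red.bc φ A)) ≅ Grp.mk A :=
  (BcIso.bcCompIso (inv φ) φ A).symm ≪≫ BcIso.bcCongrIso (IsIso.inv_hom_id φ) A ≪≫ BcIso.bcIdIso A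

theorem backIso_natural {X Y : Scheme.{u}} (φ : Y ⟶ X) [IsIso φ] {A B : Over X} [GrpObj A]
    [GrpObj B] (i : A ⟶ B) : (backIso φ A).hom.hom.hom ≫ i =
      (Over.pullback (inv φ)).map ((Over.pullback φ).map i) ≫ (backIso φ B).hom.hom.hom := by
  have e1 := bcCompIso_natural (inv φ) φ i
  have e2 := bcCongrIso_natural (IsIso.inv_hom_id φ) i
  have e3 := bcIdIso_natural i
  have e4 := symm_w _ _ e1
  change ((BcIso.bcCompIso (inv φ) φ A).inv.hom.hom ≫
    (BcIso.bcCongrIso (IsIso.inv_hom_id φ) A).hom.hom.hom ≫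
    (BcIso.bcIdIso A).hom.hom.hom) ≫ _ = _ ≫ (BcIso.bcCompIso (inv φ) φ B).inv.hom.hom ≫
      (BcIso.bcCongrIso (IsIso.inv_hom_id φ) B).hom.hom.hom ≫ (BcIso.bcIdIso B).hom.hom.hom
  simp only [Category.assoc]
  rw [e3, reassoc_of% e2, reassoc_of% e4]

end Back

section Geom2

/-- A property of homomorphisms of groups over fields which is invariant under isomorphisms,
including isomorphisms of the base field. -/
structure IsGeom (W : ∀ (K : Type u) [Field K] (A B : Over (Spec (CommRingCat.of K))) [GrpObj A]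
    [GrpObj B], (A ⟶ B) → Prop) : Prop where
  iso : ∀ {K : Type u} [Field K] {A A' B B' : Over (Spec (CommRingCat.of K))} [GrpObj A]
    [GrpObj A'] [GrpObj B] [GrpObj B'] {i : A ⟶ B} {i' : A' ⟶ B'} (eA : Grp.mk A ≅ Grp.mk A')
    (eB : Grp.mk B ≅ Grp.mk B'), eA.hom.hom.hom ≫ i' = i ≫ eB.hom.hom.hom → W K A B i →
      W K A' B' i'
  bc : ∀ {K K' : Type u} [Field K] [Field K']
    (φ : Spec (CommRingCat.of K') ⟶ Spec (CommRingCat.of K)) [IsIso φ]
    {A B : Over (Spec (CommRingCat.of K))} [GrpObj A] [GrpObj B] {i : A ⟶ B}, W K A B i →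
      W K' (Red.bc φ A) (Red.bc φ B) ((Over.pullback φ).map i)

variable {W : ∀ (K : Type u) [Field K] (A B : Over (Spec (CommRingCat.of K))) [GrpObj A]
    [GrpObj B], (A ⟶ B) → Prop} (hW : IsGeom W)

include hW

theorem IsGeom.bc_iff {K K' : Type u} [Field K] [Field K']
    (φ : Spec (CommRingCat.of K') ⟶ Spec (CommRingCat.of K)) [IsIso φ]
    {A B : Over (Spec (CommRingCat.of K))} [GrpObj A] [GrpObj B] (i : A ⟶ B) :
    W K' (Red.bc φ A) (Red.bc φ B) ((Over.pullback φ).map i) ↔ W K A B i :=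
  ⟨fun h => hW.iso (backIso φ A) (backIso φ B) (backIso_natural φ i) (hW.bc (inv φ) h),
    fun h => hW.bc φ h⟩

variable {S S' : Scheme.{u}} (f : S' ⟶ S)

/-- A geometric property of homomorphisms does not change under base change along locally
quasi-finite (for instance étale) morphisms. -/
theorem IsGeom.fibre_iff [LocallyQuasiFinite f] (s' : S') {A B : Over S} [GrpObj A] [GrpObj B]
    (i : A ⟶ B) :
    W _ _ _ ((Over.pullback (Red.geomPt s')).map ((Over.pullback f).map i)) ↔
      W _ _ _ ((Over.pullback (Red.geomPt (f s'))).map i) := by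
  obtain ⟨φ, hφ, h⟩ := exists_geomPt f s'
  rw [← hW.bc_iff φ]
  constructor
  · exact hW.iso (sqIso h A) (sqIso h B) (sqIso_natural h i)
  · exact hW.iso (sqIso h A).symm (sqIso h B).symm (symm_w _ _ (sqIso_natural h i))

end Geom2

section Notions

theorem isGeom_isParabolicOver : IsGeom fun K _ _ _ _ _ i => Red.IsParabolicOver K i where
  iso eA eB w h := isParabolicOver_of_iso eA eB w h
  bc φ _ _ _ _ _ _ h := isParabolicOver_bc φ h

theorem isGeom_isBorelOver : IsGeom fun K _ _ _ _ _ i => Red.IsBorelOver K i where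
  iso eA eB w h := isBorelOver_of_iso eA eB w h
  bc φ _ _ _ _ _ _ h := isBorelOver_bc φ h

theorem isGeom_isReductiveOver : IsGeom fun K _ A _ _ _ _ => Red.IsReductiveOver K A where
  iso eA _ _ h := isReductiveOver_of_iso eA h
  bc φ _ _ _ _ _ _ h := isReductiveOver_bc φ h

theorem isGeom_connectedSpace : IsGeom fun _ _ A _ _ _ _ => ConnectedSpace A.left where
  iso eA _ _ h := connectedSpace_of_iso ((Over.forget _).mapIso (isoOf eA)) h
  bc φ _ _ _ _ _ _ h := (connectedSpace_bc φ _).2 h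

theorem isGeom_hasNoSubtorus : IsGeom fun K _ A _ _ _ _ => Red.HasNoSubtorus K A where
  iso eA _ _ h := hasNoSubtorus_of_iso eA h
  bc φ _ _ _ _ _ _ h := hasNoSubtorus_bc φ h

variable {S S' : Scheme.{u}} (f : S' ⟶ S) [LocallyQuasiFinite f] (s' : S') (G : Over S) [GrpObj G]

theorem isReductiveOver_fibre_iff :
    Red.IsReductiveOver _ (Red.geomFibre s' (Red.bc f G)) ↔
      Red.IsReductiveOver _ (Red.geomFibre (f s') G) :=
  isGeom_isReductiveOver.fibre_iff f s' (𝟙 G)

theorem connectedSpace_fibre_iff :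
    ConnectedSpace (Red.geomFibre s' (Red.bc f G)).left ↔
      ConnectedSpace (Red.geomFibre (f s') G).left :=
  isGeom_connectedSpace.fibre_iff f s' (𝟙 G)

theorem hasNoSubtorus_fibre_iff :
    Red.HasNoSubtorus _ (Red.geomFibre s' (Red.bc f G)) ↔
      Red.HasNoSubtorus _ (Red.geomFibre (f s') G) :=
  isGeom_hasNoSubtorus.fibre_iff f s' (𝟙 G)

end Notions

end Groth.Agent.Sga3B.Parab.GeomFib147
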