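import Groth.Agent.Sga3B.Parab.LimLift
import Groth.Agent.Sga3B.Parab.DynBc998
import Groth.Agent.Sga3B.Parab.GeomFib147

/-!
# Functoriality of `P_G(λ)`, `U_G(λ)`, `Z_G(λ)` in `G`
-/

set_option autoImplicit false
set_option linter.unusedSectionVars false

universe u

open CategoryTheory MonoidalCategory CartesianMonoidalCategory MonObj GrpObj Limits AlgebraicGeometry

namespace Groth.Agent.Sga3B.Parab

variable {S S' S'' : Scheme.{u}} {G H : Over S} [GrpObj G] [GrpObj H] {lam : Red.Gm S ⟶ H}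

namespace Func

variable {C : Type u} [CommRing C] {c : Spec (CommRingCat.of C) ⟶ S}

lemma orb_map (i : H ⟶ G) [IsMonHom i] (g : aff C c ⟶ H) :
    orb (lam ≫ i) (g ≫ i) = orb lam g ≫ i := by
  rw [orb, orb, MonObj.mul_comp, MonObj.mul_comp, GrpObj.inv_comp]
  simp only [Category.assoc]

lemma limEx_map (i : H ⟶ G) [IsMonHom i] {g : aff C c ⟶ H} (h : LimEx lam g) :
    LimEx (lam ≫ i) (g ≫ i) := by
  obtain ⟨k, hk⟩ := h
  exact ⟨k ≫ i, by rw [orb_map, ← hk, Category.assoc]⟩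

lemma limOne_map (i : H ⟶ G) [IsMonHom i] {g : aff C c ⟶ H} (h : LimOne lam g) :
    LimOne (lam ≫ i) (g ≫ i) := by
  obtain ⟨k, hk, hk0⟩ := h
  exact ⟨k ≫ i, by rw [orb_map, ← hk, Category.assoc],
    by rw [← Category.assoc, hk0, MonObj.one_comp]⟩

lemma orbConst_map (i : H ⟶ G) [IsMonHom i] {g : aff C c ⟶ H} (h : OrbConst lam g) :
    OrbConst (lam ≫ i) (g ≫ i) := by
  rw [OrbConst, orb_map, h, Category.assoc]

lemma orbConst_of_map (i : H ⟶ G) [IsMonHom i] [Mono i] {g : aff C c ⟶ H}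
    (h : OrbConst (lam ≫ i) (g ≫ i)) : OrbConst lam g := by
  rw [OrbConst, orb_map, ← Category.assoc, cancel_mono] at h
  exact h

lemma limEx_of_map (i : H ⟶ G) [IsMonHom i] [IsClosedImmersion i.left] {g : aff C c ⟶ H}
    (h : LimEx (lam ≫ i) (g ≫ i)) : LimEx lam g := by
  have hm : Mono i := by
    have : Mono ((Over.forget S).map i) := inferInstanceAs (Mono i.left)
    exact (Over.forget S).mono_of_mono_map this
  obtain ⟨k, hk⟩ := h
  rw [orb_map] at hk
  obtain ⟨k', rfl⟩ := LimLift.exists_lift i k (orb lam g) hk.symm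
  refine ⟨k', ?_⟩
  rwa [← Category.assoc, cancel_mono] at hk

lemma limOne_of_map (i : H ⟶ G) [IsMonHom i] [IsClosedImmersion i.left] {g : aff C c ⟶ H}
    (h : LimOne (lam ≫ i) (g ≫ i)) : LimOne lam g := by
  have hm : Mono i := by
    have : Mono ((Over.forget S).map i) := inferInstanceAs (Mono i.left)
    exact (Over.forget S).mono_of_mono_map this
  obtain ⟨k, hk, hk0⟩ := h
  rw [orb_map] at hk
  obtain ⟨k', rfl⟩ := LimLift.exists_lift i k (orb lam g) hk.symm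
  refine ⟨k', ?_, ?_⟩
  · rwa [← Category.assoc, cancel_mono] at hk
  · rw [← cancel_mono i, Category.assoc, hk0, MonObj.one_comp]

end Func

lemma Func.ptP_map (i : H ⟶ G) [IsMonHom i] {X : Over S} {g : X ⟶ H} (h : PtP lam g) :
    PtP (lam ≫ i) (g ≫ i) := fun C _ c x => by
  rw [← Category.assoc]
  exact Func.limEx_map i (h C c x)

lemma Func.ptU_map (i : H ⟶ G) [IsMonHom i] {X : Over S} {g : X ⟶ H} (h : PtU lam g) :
    PtU (lam ≫ i) (g ≫ i) := fun C _ c x => by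
  rw [← Category.assoc]
  exact Func.limOne_map i (h C c x)

lemma Func.ptZ_map (i : H ⟶ G) [IsMonHom i] {X : Over S} {g : X ⟶ H} (h : PtZ lam g) :
    PtZ (lam ≫ i) (g ≫ i) := fun C _ c x => by
  rw [← Category.assoc]
  exact Func.orbConst_map i (h C c x)

lemma ptP_map_iff (i : H ⟶ G) [IsMonHom i] [IsClosedImmersion i.left] {X : Over S} {g : X ⟶ H} :
    PtP (lam ≫ i) (g ≫ i) ↔ PtP lam g :=
  ⟨fun h C _ c x => Func.limEx_of_map i (by rw [Category.assoc]; exact h C c x),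
    fun h => Func.ptP_map i h⟩

lemma ptU_map_iff (i : H ⟶ G) [IsMonHom i] [IsClosedImmersion i.left] {X : Over S} {g : X ⟶ H} :
    PtU (lam ≫ i) (g ≫ i) ↔ PtU lam g :=
  ⟨fun h C _ c x => Func.limOne_of_map i (by rw [Category.assoc]; exact h C c x),
    fun h => Func.ptU_map i h⟩

lemma ptZ_map_iff (i : H ⟶ G) [IsMonHom i] [Mono i] {X : Over S} {g : X ⟶ H} :
    PtZ (lam ≫ i) (g ≫ i) ↔ PtZ lam g :=
  ⟨fun h C _ c x => Func.orbConst_of_map i (by rw [Category.assoc]; exact h C c x),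
    fun h => Func.ptZ_map i h⟩

section Iso

variable {P Q : Over S} [GrpObj P] [GrpObj Q]

lemma ptP_iso_iff (ψ : H ≅ G) [IsMonHom ψ.hom] {X : Over S} {g : X ⟶ H} :
    PtP (lam ≫ ψ.hom) (g ≫ ψ.hom) ↔ PtP lam g := by
  have : IsIso ψ.hom.left := inferInstanceAs (IsIso ((Over.forget S).map ψ.hom))
  exact ptP_map_iff ψ.hom

lemma ptU_iso_iff (ψ : H ≅ G) [IsMonHom ψ.hom] {X : Over S} {g : X ⟶ H} :
    PtU (lam ≫ ψ.hom) (g ≫ ψ.hom) ↔ PtU lam g := by
  have : IsIso ψ.hom.left := inferInstanceAs (IsIso ((Over.forget S).map ψ.hom))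
  exact ptU_map_iff ψ.hom

lemma exists_iff_of_iso (ψ : H ≅ G) {p : P ⟶ H} {q : Q ⟶ G} (φ : P ≅ Q)
    (h : p ≫ ψ.hom = φ.hom ≫ q) {X : Over S} (g : X ⟶ G) :
    (∃ x : X ⟶ Q, x ≫ q = g) ↔ ∃ x : X ⟶ P, x ≫ p = g ≫ ψ.inv := by
  constructor
  · rintro ⟨x, rfl⟩
    refine ⟨x ≫ φ.inv, ?_⟩
    rw [← cancel_mono ψ.hom, Category.assoc, Category.assoc, h, Iso.inv_hom_id_assoc]
    simp
  · rintro ⟨x, hx⟩
    refine ⟨x ≫ φ.hom, ?_⟩
    rw [Category.assoc, ← h, ← Category.assoc, hx]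
    simp

/-- Transport of `P_G(λ)` along isomorphisms. -/
theorem IsDynP.of_iso₂ {p : P ⟶ H} (hp : IsDynP lam p) (ψ : H ≅ G) [IsMonHom ψ.hom] {q : Q ⟶ G}
    [IsMonHom q] (φ : P ≅ Q) (h : p ≫ ψ.hom = φ.hom ≫ q) : IsDynP (lam ≫ ψ.hom) q where
  isMonHom := inferInstance
  mono := by
    have := hp.mono
    have h1 : q = φ.inv ≫ p ≫ ψ.hom := by rw [h, Iso.inv_hom_id_assoc]
    rw [h1]
    infer_instance
  iff_ptP X g := by
    rw [exists_iff_of_iso ψ φ h, hp.iff_ptP, ← ptP_iso_iff ψ]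
    simp

/-- Transport of `U_G(λ)` along isomorphisms. -/
theorem IsDynU.of_iso₂ {p : P ⟶ H} (hp : IsDynU lam p) (ψ : H ≅ G) [IsMonHom ψ.hom] {q : Q ⟶ G}
    [IsMonHom q] (φ : P ≅ Q) (h : p ≫ ψ.hom = φ.hom ≫ q) : IsDynU (lam ≫ ψ.hom) q where
  isMonHom := inferInstance
  mono := by
    have := hp.mono
    have h1 : q = φ.inv ≫ p ≫ ψ.hom := by rw [h, Iso.inv_hom_id_assoc]
    rw [h1]
    infer_instance
  iff_ptU X g := by
    rw [exists_iff_of_iso ψ φ h, hp.iff_ptU, ← ptU_iso_iff ψ]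
    simp

/-- Transport of `Z_G(λ)` along isomorphisms. -/
theorem IsDynZ.of_iso₂ {p : P ⟶ H} (hp : IsDynZ lam p) (ψ : H ≅ G) [IsMonHom ψ.hom] {q : Q ⟶ G}
    [IsMonHom q] (φ : P ≅ Q) (h : p ≫ ψ.hom = φ.hom ≫ q) : IsDynZ (lam ≫ ψ.hom) q where
  isMonHom := inferInstance
  mono := by
    have := hp.mono
    have h1 : q = φ.inv ≫ p ≫ ψ.hom := by rw [h, Iso.inv_hom_id_assoc]
    rw [h1]
    infer_instance
  iff_ptZ X g := by
    rw [exists_iff_of_iso ψ φ h, hp.iff_ptZ, ← ptZ_map_iff ψ.hom]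
    simp

end Iso

/-- For a closed subgroup `i : H ⟶ G` containing `λ`: if `P_G(λ) = H` then `P_H(λ) = H`. -/
lemma ptP_of_isDynP (i : H ⟶ G) [IsClosedImmersion i.left] (h : IsDynP (lam ≫ i) i) {X : Over S}
    (g : X ⟶ H) : PtP lam g := by
  have := h.isMonHom
  rw [← ptP_map_iff i]
  exact (h.iff_ptP _ _).1 ⟨g, rfl⟩

section Ds

variable {M N : Type} [AddCommGroup M] [AddCommGroup N]

/-- Naturality of the comparison of `D_S(M)` with its base changes. -/
lemma dsBcIso_natural (f : S' ⟶ S) (φ : M →+ N) :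
    (TorusAlgClosed.dsBcIso f N).inv.hom.hom ≫ (Over.pullback f).map (Red.DSmap S φ) =
      Red.DSmap S' φ ≫ (TorusAlgClosed.dsBcIso f M).inv.hom.hom := by
  have h1 : ((Over.pullback f).map (Red.DSmap S φ)).left ≫ pullback.fst (Red.DS S M).hom f =
      pullback.fst (Red.DS S N).hom f ≫ (Red.DSmap S φ).left := pullback.lift_fst _ _ _
  have h2 := DSPts.DSmap_left_fst (S := S) φ
  have h3 := DSPts.DSmap_left_fst (S := S') φ
  have h4 := DynBc998.dsBcIso_left f N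
  have h5 := DynBc998.dsBcIso_left f M
  apply Over.OverMorphism.ext
  apply pullback.hom_ext
  · apply pullback.hom_ext
    · rw [Over.comp_left, Over.comp_left]
      simp only [Category.assoc]
      rw [h5, reassoc_of% h1, h2, h3]
      rw [← h4]
      simp only [Category.assoc]
    · have h6 : ∀ a : Red.DS S' N ⟶ Red.bc f (Red.DS S M),
          (a.left ≫ pullback.fst (Red.DS S M).hom f) ≫ (Red.DS S M).hom =
            (Red.DS S' N).hom ≫ f := by
        intro a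
        rw [Category.assoc, pullback.condition, ← Category.assoc]
        congr 1
        exact Over.w a
      exact (h6 _).trans (h6 _).symm
  · exact (Over.w _).trans (Over.w _).symm

lemma bcLam_DSmap (f : S' ⟶ S) (x : M →+ ℤ) (g : Red.DS S M ⟶ G) :
    bcLam (Red.DSmap S x ≫ g) f =
      Red.DSmap S' x ≫ (TorusAlgClosed.dsBcIso f M).inv.hom.hom ≫ (Over.pullback f).map g := by
  rw [bcLam, Functor.map_comp, ← Category.assoc, dsBcIso_natural, Category.assoc]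

end Ds

lemma bcLam_comp (lam : Red.Gm S ⟶ G) (i : G ⟶ H) (f : S' ⟶ S) :
    bcLam (lam ≫ i) f = bcLam lam f ≫ (Over.pullback f).map i := by
  rw [bcLam, bcLam, Functor.map_comp, Category.assoc]

end Groth.Agent.Sga3B.Parab
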