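import Groth.Agent.Sga3B.BorLoc613
import Groth.Agent.Sga3B.SplitIso848
import Groth.Agent.Sga3B.SplitBc
import Groth.Agent.Sga3B.Par.CanDef
import Groth.Agent.Sga3B.Parab.Func

/-!
# Parabolic subgroups and splittings, étale locally

`(PcS)`: étale-locally on the base, a parabolic subgroup `P` of a reductive group `G` is `P_G(λ)` for
a splitting `D` of `G` with torus contained in `P` and a coweight `λ` of `D`.
-/

set_option autoImplicit false

universe u

open CategoryTheory MonoidalCategory CartesianMonoidalCategory MonObj GrpObj AlgebraicGeometry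
  Limits

namespace Groth.Agent.Sga3B.Parab.PcS150

open Groth.Agent.Sga3B Groth.Agent.Sga3B.RedIso Groth.Agent.Sga3B.Par
open Groth.Agent.Sga3B.SplitIso848 Groth.Agent.Sga3B.SplitBc

/-- Étale-locally around `s` the subgroup `p : P ⟶ G` is `P_G(coch D x)` for a splitting `D` of `G`
with torus contained in `P`. -/
def HasSplit {S : Scheme.{u}} {G P : Over S} [GrpObj G] [GrpObj P] (p : P ⟶ G) (s : S) : Prop :=
  ∃ (S' : Scheme.{u}) (f : S' ⟶ S), Etale f ∧ s ∈ Set.range f ∧
    ∃ (D : Red.SplitRed (Red.bc f G)) (t : D.T ⟶ Red.bc f P) (x : Module.Dual ℤ D.M),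
      t ≫ (Over.pullback f).map p = D.i ∧ IsDynP (coch D x) ((Over.pullback f).map p)

/-- (PcP): étale-locally a parabolic subgroup contains a split maximal torus of `G` and is
`P_G(λ)` for a cocharacter of it. -/
def PcPStmt : Prop :=
  ∀ {S : Scheme.{u}} {G P : Over S} [GrpObj G] [GrpObj P] (p : P ⟶ G),
    Red.IsReductive G → Red.IsParabolic p → ∀ s : S,
    ∃ (B : Type u) (_ : CommRing B) (f : Spec (CommRingCat.of B) ⟶ S), Etale f ∧ s ∈ Set.range f ∧
      ∃ (T : Over (Spec (CommRingCat.of B))) (_ : GrpObj T) (t : T ⟶ Red.bc f P) (r : ℕ)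
        (e : Grp.mk T ≅ Grp.mk (Red.DS (Spec (CommRingCat.of B)) (Fin r → ℤ)))
        (x : (Fin r → ℤ) →+ ℤ),
        IsMonHom t ∧ Red.IsMaximalTorus t ∧ Red.IsMaximalTorus (t ≫ (Over.pullback f).map p) ∧
        IsDynP (Red.DSmap (Spec (CommRingCat.of B)) x ≫ e.inv.hom.hom ≫ t ≫
          (Over.pullback f).map p) ((Over.pullback f).map p)

/-- (SplitT): a reductive group with a split maximal torus is, Zariski-locally on the base, split
with respect to this torus. -/
def SplitTStmt : Prop :=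
  ∀ {S : Scheme.{u}} {G T : Over S} [GrpObj G] [GrpObj T] (i : T ⟶ G), Red.IsReductive G →
    Red.IsMaximalTorus i → ∀ (r : ℕ), Nonempty (Grp.mk T ≅ Grp.mk (Red.DS S (Fin r → ℤ))) →
    ∀ s : S, ∃ (R : Type u) (_ : CommRing R) (v : Spec (CommRingCat.of R) ⟶ S),
      IsOpenImmersion v ∧ s ∈ Set.range v ∧
      ∃ (D : Red.SplitRed (Red.bc v G)) (j : Grp.mk (Red.bc v T) ≅ Grp.mk D.T),
        j.hom.hom.hom ≫ D.i = (Over.pullback v).map i

variable {S S' : Scheme.{u}} {G P T : Over S} [GrpObj G] [GrpObj P] [GrpObj T]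

lemma und_inv_eq {A B : Over S} [GrpObj A] [GrpObj B] (e : Grp.mk A ≅ Grp.mk B) :
    (und e).inv = e.inv.hom.hom := rfl

/-- descent of `HasSplit` along étale morphisms -/
lemma HasSplit.of_etale (f : S' ⟶ S) [Etale f] {p : P ⟶ G} [IsMonHom p] (s' : S')
    (h : HasSplit ((Over.pullback f).map p) s') : HasSplit p (f s') := by
  obtain ⟨S'', g, hg, ⟨s'', hs''⟩, D, t, x, ht, hx⟩ := h
  refine ⟨S'', g ≫ f, inferInstance, ⟨s'', by rw [Scheme.Hom.comp_apply, hs'']⟩,
    splitOfIso (BcIso.bcCompIso g f G).symm D, t ≫ (und (BcIso.bcCompIso g f P)).inv, x, ?_, ?_⟩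
  · have h1 : (t ≫ (und (BcIso.bcCompIso g f P)).inv) ≫ (Over.pullback (g ≫ f)).map p =
        D.i ≫ (und (BcIso.bcCompIso g f G)).inv := by
      rw [Category.assoc, BcNat.comp_nat_inv, ← Category.assoc, ht]
    exact h1
  · have h1 : coch (splitOfIso (BcIso.bcCompIso g f G).symm D) x =
        coch D x ≫ (und (BcIso.bcCompIso g f G)).symm.hom := by
      change cochT D x ≫ D.i ≫ _ = (cochT D x ≫ D.i) ≫ _
      rw [Category.assoc]
      rfl
    rw [h1]
    have : IsMonHom (und (BcIso.bcCompIso g f G)).symm.hom :=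
      inferInstanceAs (IsMonHom (und (BcIso.bcCompIso g f G).symm).hom)
    exact hx.of_iso₂ (und (BcIso.bcCompIso g f G)).symm (und (BcIso.bcCompIso g f P)).symm
      (BcNat.comp_nat_inv g f p).symm

/-- the case where the base carries a splitting whose torus is the given one -/
lemma hasSplit_of_split {p : P ⟶ G} {t : T ⟶ P} (D : Red.SplitRed G)
    (j : Grp.mk T ≅ Grp.mk D.T) (hj : j.hom.hom.hom ≫ D.i = t ≫ p) (lam : Red.Gm S ⟶ T)
    [IsMonHom lam] (hp : IsDynP (lam ≫ t ≫ p) p) (s : S) : HasSplit p s := by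
  -- the cocharacter in the coordinates of `D`
  let g : Red.DS S ℤ ⟶ Red.DS S D.M := lam ≫ (und j).hom ≫ (und D.split).hom
  have hg : IsMonHom g := by
    change IsMonHom (lam ≫ (und j).hom ≫ (und D.split).hom)
    infer_instance
  obtain ⟨R, v, φ, hv, hs, h1, h2⟩ := BorLoc613.exists_spec_hom g s
  have hlam : lam ≫ t ≫ p = g ≫ (und D.split).inv ≫ D.i := by
    rw [← hj]
    change lam ≫ (und j).hom ≫ D.i = (lam ≫ (und j).hom ≫ (und D.split).hom) ≫ (und D.split).inv ≫ D.i
    simp only [Category.assoc, Iso.hom_inv_id_assoc]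
  refine ⟨Spec R, v, inferInstance, hs, bcSplit v D, (Over.pullback v).map ((und j).inv ≫ t),
    φ.toIntLinearMap, ?_, ?_⟩
  · have h3 : (Over.pullback v).map ((und j).inv ≫ t) ≫ (Over.pullback v).map p =
        (Over.pullback v).map D.i := by
      rw [← Functor.map_comp, Category.assoc, ← hj]
      change (Over.pullback v).map ((und j).inv ≫ (und j).hom ≫ D.i) = _
      rw [Iso.inv_hom_id_assoc]
    exact h3
  · have h4 : coch (bcSplit v D) φ.toIntLinearMap = bcLam (lam ≫ t ≫ p) v := by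
      rw [hlam, bcLam, Functor.map_comp, h1, ← Category.assoc, dsBcIso_natural, Category.assoc,
        Functor.map_comp]
      change (Red.DSmap _ φ ≫ (bcSplit v D).split.inv.hom.hom) ≫ (Over.pullback v).map D.i = _
      rw [Category.assoc]
      rfl
    rw [h4]
    exact hp.bc v

/-- `HasSplit` from (PcP) data over the base and (SplitT) -/
lemma hasSplit_of_torus (hT : SplitTStmt.{u}) (hG : Red.IsReductive G) {p : P ⟶ G} [IsMonHom p]
    {t : T ⟶ P} (ht : Red.IsMaximalTorus (t ≫ p)) (r : ℕ)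
    (e : Grp.mk T ≅ Grp.mk (Red.DS S (Fin r → ℤ))) (lam : Red.Gm S ⟶ T) [IsMonHom lam]
    (hp : IsDynP (lam ≫ t ≫ p) p) (s : S) : HasSplit p s := by
  obtain ⟨R, _, v, hv, ⟨s', rfl⟩, D, j, hj⟩ := hT (t ≫ p) hG ht r ⟨e⟩ s
  have hmon : IsMonHom (t ≫ p) := ht.1
  refine HasSplit.of_etale v s' (hasSplit_of_split (t := (Over.pullback v).map t) D j
    (by rw [hj, Functor.map_comp]) (bcLam lam v) ?_ s')
  have h1 := hp.bc v
  rwa [bcLam_comp, Functor.map_comp] at h1

/-- **(PcS)** Étale-locally a parabolic subgroup is `P_G(coch D x)` for a splitting `D` of `G` with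
torus contained in it. -/
theorem pcS (hPcP : PcPStmt.{u}) (hT : SplitTStmt.{u}) (hG : Red.IsReductive G) (p : P ⟶ G)
    (hp : Red.IsParabolic p) (s : S) :
    ∃ (S' : Scheme.{u}) (f : S' ⟶ S), Etale f ∧ s ∈ Set.range f ∧
      ∃ (D : Red.SplitRed (Red.bc f G)) (t : D.T ⟶ Red.bc f P) (x : Module.Dual ℤ D.M),
        t ≫ (Over.pullback f).map p = D.i ∧ IsDynP (coch D x) ((Over.pullback f).map p) := by
  have hpm : IsMonHom p := hp.1
  obtain ⟨B, _, f, hf, ⟨s', rfl⟩, T, _, t, r, e, x, ht, -, htm, hx⟩ := hPcP p hG hp s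
  have h1 := isMonHom_DSmap (S := Spec (CommRingCat.of B)) x
  have h2 : IsMonHom e.inv.hom.hom := e.inv.hom.isMonHom_hom
  refine HasSplit.of_etale f s' (hasSplit_of_torus hT (AlgBc.isReductive_bc f hG) htm r e
    (Red.DSmap (Spec (CommRingCat.of B)) x ≫ e.inv.hom.hom) ?_ s')
  rwa [Category.assoc]

end Groth.Agent.Sga3B.Parab.PcS150
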