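import Groth.Agent.Sga3B.Parab.EtSub

/-!
# Properties of morphisms and construction of morphisms over `S`, flat (étale) locally on `S`

* `of_cover`: a property of morphisms of `S`-schemes which is Zariski local on the target and
  descends along surjective flat morphisms locally of finite presentation can be checked étale
  locally on `S`.
* `IsLocalPt.of_flat`: a condition on points which is local for the Zariski topology and for
  quasi-compact fppf coverings is local for all fppf coverings.
* `exists_hom`: a morphism `X ⟶ Y` of `S`-schemes characterised by a local condition with at most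
  one solution can be constructed étale locally on `S`.
-/

set_option autoImplicit false

universe u

open CategoryTheory MonoidalCategory CartesianMonoidalCategory MonObj GrpObj AlgebraicGeometry

namespace Groth.Agent.Sga3B.Parab.EtHom

open Groth.Agent.Sga3B Groth.Agent.Sga3C

variable {S : Scheme.{u}}

section Props

/-- The projection of a base change. -/
noncomputable abbrev pr {S' : Scheme.{u}} (f : S' ⟶ S) (Y : Over S) : (Red.bc f Y).left ⟶ Y.left :=
  Limits.pullback.fst Y.hom f

theorem isPullback_map {S' : Scheme.{u}} (f : S' ⟶ S) {X Y : Over S} (φ : X ⟶ Y) :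
    IsPullback (pr f X) ((Over.pullback f).map φ).left φ.left (pr f Y) := by
  have h1 : IsPullback (pr f Y) (Limits.pullback.snd Y.hom f) Y.hom f :=
    IsPullback.of_hasPullback _ _
  have h3 : ((Over.pullback f).map φ).left ≫ Limits.pullback.snd Y.hom f =
      Limits.pullback.snd X.hom f := Over.w ((Over.pullback f).map φ)
  have h2 : IsPullback (pr f X) (((Over.pullback f).map φ).left ≫ Limits.pullback.snd Y.hom f)
      (φ.left ≫ Y.hom) f := by
    rw [h3, Over.w φ]
    exact IsPullback.of_hasPullback _ _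
  have h4 : pr f X ≫ φ.left = ((Over.pullback f).map φ).left ≫ pr f Y := by
    change _ = Limits.pullback.lift (Limits.pullback.fst X.hom f ≫ φ.left)
      (Limits.pullback.snd X.hom f) _ ≫ _
    exact (Limits.pullback.lift_fst _ _ _).symm
  exact (IsPullback.of_right h2.flip h4.symm h1.flip).flip

/-- The family `S'_s ⟶ S` is flat, locally of finite presentation, and jointly surjective. -/
structure IsCov {J : Type u} {S' : J → Scheme.{u}} (f : ∀ i, S' i ⟶ S) : Prop where
  flat : ∀ i, Flat (f i)
  lfp : ∀ i, LocallyOfFinitePresentation (f i)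
  surj : ∀ s : S, ∃ i, s ∈ Set.range (f i)

/-- A property of morphisms can be checked after base change along a covering of `S`. -/
theorem of_cover (P : MorphismProperty Scheme.{u}) [IsZariskiLocalAtTarget P]
    [P.IsStableUnderBaseChange]
    [P.DescendsAlong (@Surjective ⊓ @Flat ⊓ @LocallyOfFinitePresentation)]
    {J : Type u} {S' : J → Scheme.{u}} {f : ∀ i, S' i ⟶ S} (hf : IsCov f) {X Y : Over S}
    (φ : X ⟶ Y) (h : ∀ i, P ((Over.pullback (f i)).map φ).left) : P φ.left := by
  have := hf.flat
  have := hf.lfp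
  let q : (∐ fun i => (Red.bc (f i) Y).left) ⟶ Y.left := Limits.Sigma.desc fun i => pr (f i) Y
  have hq1 : Flat q := IsZariskiLocalAtSource.sigmaDesc fun i => inferInstance
  have hq2 : LocallyOfFinitePresentation q := IsZariskiLocalAtSource.sigmaDesc fun i => inferInstance
  have hq3 : Surjective q := by
    apply Surjective.sigmaDesc_of_union_range_eq_univ
    rw [Set.eq_univ_iff_forall]
    intro y
    obtain ⟨i, s', hs'⟩ := hf.surj (Y.hom y)
    rw [Set.mem_iUnion]
    obtain ⟨z, hz, -⟩ := Scheme.Pullback.exists_preimage_pullback y s' hs'.symm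
    exact ⟨i, z, hz⟩
  apply MorphismProperty.of_pullback_snd_of_descendsAlong (P := P)
    (Q := @Surjective ⊓ @Flat ⊓ @LocallyOfFinitePresentation) (g := q) ⟨⟨hq3, hq1⟩, hq2⟩
  rw [IsZariskiLocalAtTarget.iff_of_openCover (P := P)
    (sigmaOpenCover fun i => (Red.bc (f i) Y).left)]
  intro i
  have h1 := (IsPullback.of_hasPullback (Limits.pullback.snd φ.left q)
    ((sigmaOpenCover fun i => (Red.bc (f i) Y).left).f i)).paste_horiz
    (IsPullback.of_hasPullback φ.left q)
  have h2 : (sigmaOpenCover fun i => (Red.bc (f i) Y).left).f i ≫ q = pr (f i) Y :=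
    Limits.Sigma.ι_desc _ _
  rw [h2] at h1
  have h3 := isPullback_map (f i) φ
  refine (P.arrow_mk_iso_iff (Arrow.isoMk (h1.isoIsPullback _ _ h3) (Iso.refl _) ?_)).mpr (h i)
  rw [Iso.refl_hom, Category.comp_id]
  exact h1.isoIsPullback_hom_snd _ _ h3

end Props

section Local

variable {G : Over S}

/-- Locality for arbitrary fppf coverings. -/
theorem of_flat {F : ∀ X : Over S, (X ⟶ G) → Prop} (hF : EtSub.IsLocalPt F) {X' X : Over S}
    (h : X' ⟶ X) (g : X ⟶ G) [Flat h.left] [Surjective h.left]
    [LocallyOfFinitePresentation h.left] (H : F X' (h ≫ g)) : F X g := by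
  have key : ∀ x : X.left, ∃ (D : X.left.Opens), x ∈ D ∧
      F (Over.mk (D.ι ≫ X.hom)) (Over.homMk D.ι ≫ g) := by
    intro x
    obtain ⟨x', rfl⟩ := h.left.surjective x
    obtain ⟨_, ⟨V, hV, rfl⟩, hxV, -⟩ :=
      X.left.isBasis_affineOpens.exists_subset_of_mem_open (Set.mem_univ (h.left x')) isOpen_univ
    obtain ⟨_, ⟨V', hV', rfl⟩, hxV', hV'V : V' ≤ h.left ⁻¹ᵁ V⟩ :=
      X'.left.isBasis_affineOpens.exists_subset_of_mem_open
        (show x' ∈ (h.left ⁻¹ᵁ V : Set X'.left) from hxV) (h.left ⁻¹ᵁ V).isOpen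
    let W : X.left.Opens := ⟨h.left '' (V' : Set X'.left), h.left.isOpenMap _ V'.isOpen⟩
    have hxW : h.left x' ∈ W := ⟨x', hxV', rfl⟩
    obtain ⟨a, haW, hxa⟩ := hV.exists_basicOpen_le ⟨h.left x', hxW⟩ hxV
    let D : X.left.Opens := X.left.basicOpen a
    have hD : IsAffineOpen D := hV.basicOpen a
    let a' : Γ(X'.left, V') := h.left.appLE V V' hV'V a
    let D' : X'.left.Opens := X'.left.basicOpen a'
    have hD' : IsAffineOpen D' := hV'.basicOpen a'
    have hDD' : D' = V' ⊓ h.left ⁻¹ᵁ D := Scheme.basicOpen_appLE h.left V' V hV'V a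
    have hle : D' ≤ h.left ⁻¹ᵁ D := hDD' ▸ inf_le_right
    refine ⟨D, hxa, ?_⟩
    have : IsAffine D := hD
    have : IsAffine D' := hD'
    let r : Over.mk (D'.ι ≫ X'.hom) ⟶ Over.mk (D.ι ≫ X.hom) :=
      Over.homMk (h.left.resLE D D' hle) (by
        change h.left.resLE D D' hle ≫ D.ι ≫ X.hom = D'.ι ≫ X'.hom
        rw [← Category.assoc, Scheme.Hom.resLE_comp_ι, Category.assoc, Over.w])
    have hr : Surjective r.left := by
      constructor
      rintro ⟨d, hd⟩
      obtain ⟨d', hd', hdd⟩ := haW hd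
      refine ⟨⟨d', hDD' ▸ ⟨hd', show h.left d' ∈ D from hdd ▸ hd⟩⟩, ?_⟩
      apply Subtype.ext
      change (h.left.resLE D D' hle _).1 = d
      simpa using hdd
    have e1 : r ≫ (Over.homMk D.ι : Over.mk (D.ι ≫ X.hom) ⟶ X) ≫ g =
        (Over.homMk D'.ι : Over.mk (D'.ι ≫ X'.hom) ⟶ X') ≫ h ≫ g := by
      rw [← Category.assoc, ← Category.assoc]
      congr 1
      ext1
      exact Scheme.Hom.resLE_comp_ι _ _
    refine hF.flat r _ (inferInstanceAs (Flat (h.left.resLE D D' hle))) hr
      (inferInstanceAs (QuasiCompact (h.left.resLE D D' hle)))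
      (inferInstanceAs (LocallyOfFinitePresentation (h.left.resLE D D' hle))) ?_
    rw [e1]
    exact hF.comp _ _ H
  choose D hD hDF using key
  refine hF.zariski g (X.left.openCoverOfIsOpenCover D ?_) (fun x => hDF x)
  rw [TopologicalSpace.IsOpenCover, eq_top_iff]
  intro x _
  rw [TopologicalSpace.Opens.mem_iSup]
  exact ⟨x, hD x⟩

end Local

section Hom

variable {X Y : Over S}

/-- Construction of a morphism locally on `S`. -/
theorem exists_hom {F : ∀ T : Over S, (T ⟶ X ⊗ Y) → Prop} (hF : EtSub.IsLocalPt F)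
    (huniq : ∀ (T : Over S) (x : T ⟶ X) (y y' : T ⟶ Y), F T (lift x y) → F T (lift x y') → y = y')
    {J : Type u} {S' : J → Scheme.{u}} {f : ∀ i, S' i ⟶ S} (hf : IsCov f)
    (h : ∀ i, ∃ y : X ⊗ Over.mk (f i) ⟶ Y, F _ (lift (fst _ _) y)) :
    ∃! φ : X ⟶ Y, F X (lift (𝟙 X) φ) := by
  have := hf.flat
  have := hf.lfp
  choose y hy using h
  let T : Over S := Over.mk
    (Limits.Sigma.desc (f := fun i => (X ⊗ Over.mk (f i)).left)
      fun i => (X ⊗ Over.mk (f i)).hom)
  have hT : ∀ i, Limits.Sigma.ι (fun i => (X ⊗ Over.mk (f i)).left) i ≫ T.hom =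
      (X ⊗ Over.mk (f i)).hom := fun i => Limits.Sigma.ι_desc _ _
  have hfst : ∀ i, Flat (fst X (Over.mk (f i))).left ∧
      LocallyOfFinitePresentation (fst X (Over.mk (f i))).left := by
    intro i
    exact ⟨inferInstanceAs (Flat (Limits.pullback.fst X.hom (f i))),
      inferInstanceAs (LocallyOfFinitePresentation (Limits.pullback.fst X.hom (f i)))⟩
  let x : T ⟶ X := Over.homMk (Limits.Sigma.desc fun i => (fst X (Over.mk (f i))).left) (by
    apply Limits.Sigma.hom_ext
    intro i
    rw [← Category.assoc, Limits.Sigma.ι_desc, Over.w]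
    exact (hT i).symm)
  let yT : T ⟶ Y := Over.homMk (Limits.Sigma.desc fun i => (y i).left) (by
    apply Limits.Sigma.hom_ext
    intro i
    rw [← Category.assoc, Limits.Sigma.ι_desc, Over.w]
    exact (hT i).symm)
  have hx1 : Flat x.left := IsZariskiLocalAtSource.sigmaDesc fun i => (hfst i).1
  have hx2 : LocallyOfFinitePresentation x.left :=
    IsZariskiLocalAtSource.sigmaDesc fun i => (hfst i).2
  have hx3 : Surjective x.left := by
    apply Surjective.sigmaDesc_of_union_range_eq_univ
    rw [Set.eq_univ_iff_forall]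
    intro z
    obtain ⟨i, s', hs'⟩ := hf.surj (X.hom z)
    rw [Set.mem_iUnion]
    obtain ⟨w, hw, -⟩ := Scheme.Pullback.exists_preimage_pullback z s' hs'.symm
    exact ⟨i, w, hw⟩
  have hFT : F T (lift x yT) := by
    refine hF.zariski _ (sigmaOpenCover fun i => (X ⊗ Over.mk (f i)).left) fun i => ?_
    let e : Over.mk ((sigmaOpenCover fun i => (X ⊗ Over.mk (f i)).left).f i ≫ T.hom) ⟶
        X ⊗ Over.mk (f i) := Over.homMk (𝟙 _) (by
      change 𝟙 _ ≫ (X ⊗ Over.mk (f i)).hom =
        Limits.Sigma.ι (fun i => (X ⊗ Over.mk (f i)).left) i ≫ T.hom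
      rw [Category.id_comp]
      exact (hT i).symm)
    have h1 := hF.comp e _ (hy i)
    have h2 : (Over.homMk ((sigmaOpenCover fun i => (X ⊗ Over.mk (f i)).left).f i) :
        Over.mk ((sigmaOpenCover fun i => (X ⊗ Over.mk (f i)).left).f i ≫ T.hom) ⟶ T) ≫
          lift x yT = e ≫ lift (fst _ _) (y i) := by
      rw [comp_lift, comp_lift]
      congr 1
      · ext1
        change Limits.Sigma.ι (fun i => (X ⊗ Over.mk (f i)).left) i ≫ x.left = 𝟙 _ ≫ _
        rw [Category.id_comp]
        exact Limits.Sigma.ι_desc _ _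
      · ext1
        change Limits.Sigma.ι (fun i => (X ⊗ Over.mk (f i)).left) i ≫ yT.left = 𝟙 _ ≫ _
        rw [Category.id_comp]
        exact Limits.Sigma.ι_desc _ _
    rw [h2]
    exact h1
  obtain ⟨φ, hφ⟩ := QuotProps.exists_desc x yT (by
    intro T' a b hab
    apply huniq T' (a ≫ x)
    · rw [← comp_lift]
      exact hF.comp a _ hFT
    · rw [hab, ← comp_lift]
      exact hF.comp b _ hFT)
  refine ⟨φ, ?_, ?_⟩
  · apply of_flat hF x
    rw [comp_lift, Category.comp_id, hφ]
    exact hFT
  · intro φ' hφ'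
    apply huniq X (𝟙 X) _ _ hφ'
    apply of_flat hF x
    rw [comp_lift, Category.comp_id, hφ]
    exact hFT

end Hom

end Groth.Agent.Sga3B.Parab.EtHom
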