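import Groth.Prelude.Def_Red2
import Groth.Prelude.Def_Par
import Groth.Agent.Sga3B.BcIso
import Groth.Agent.Sga3B.BcPts
import Groth.Agent.Sga3B.Parab.EtHom

/-!
# Base change of the notions of `Def_Red` along isomorphisms of the base
-/

set_option autoImplicit false

universe u

open CategoryTheory MonoidalCategory CartesianMonoidalCategory MonObj GrpObj AlgebraicGeometry

namespace Groth.Agent.Sga3B.Parab.GeomBC147

open Groth.Agent.Sga3B

section Any

variable {S S' : Scheme.{u}} (f : S' ⟶ S)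

theorem isNormalHom_bc {N G : Over S} [GrpObj N] [GrpObj G] {i : N ⟶ G}
    (h : AlgGrp.IsNormalHom i) : AlgGrp.IsNormalHom ((Over.pullback f).map i) := by
  intro T g n
  obtain ⟨n', hn'⟩ := h _ ((BcPts.bcEquiv f T G).symm g) ((BcPts.bcEquiv f T N).symm n)
  refine ⟨BcPts.bcEquiv f T N n', ?_⟩
  rw [← BcPts.bcEquiv_comp, ← hn']
  change _ = BcPts.bcMulEquiv f T G _
  rw [map_mul, map_mul, map_inv]
  change _ = BcPts.bcEquiv f T G ((BcPts.bcEquiv f T G).symm g) *
    BcPts.bcEquiv f T G ((BcPts.bcEquiv f T N).symm n ≫ i) *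
    (BcPts.bcEquiv f T G ((BcPts.bcEquiv f T G).symm g))⁻¹
  rw [Equiv.apply_symm_apply, BcPts.bcEquiv_comp, Equiv.apply_symm_apply]

theorem derivedSeries_eq_bot_of_mulEquiv {A B : Type*} [Group A] [Group B] (e : A ≃* B) (n : ℕ)
    (h : derivedSeries A n = ⊥) : derivedSeries B n = ⊥ := by
  rw [← map_derivedSeries_eq (f := e.toMonoidHom) e.surjective n, h, Subgroup.map_bot]

theorem isSolvableGrp_bc {G : Over S} [GrpObj G] (h : Red.IsSolvableGrp G) :
    Red.IsSolvableGrp (Red.bc f G) := by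
  obtain ⟨n, hn⟩ := h
  exact ⟨n, fun X => derivedSeries_eq_bot_of_mulEquiv (BcPts.bcMulEquiv f X G) n (hn _)⟩

theorem isSolvableGrp_of_iso {G G' : Over S} [GrpObj G] [GrpObj G'] (e : Grp.mk G ≅ Grp.mk G')
    (h : Red.IsSolvableGrp G) : Red.IsSolvableGrp G' := by
  obtain ⟨n, hn⟩ := h
  refine ⟨n, fun X => ?_⟩
  let e' : (X ⟶ G) ≃* (X ⟶ G') :=
    { toFun := fun x => x ≫ e.hom.hom.hom
      invFun := fun x => x ≫ e.inv.hom.hom
      left_inv := fun x => by
        have : e.hom.hom.hom ≫ e.inv.hom.hom = 𝟙 G := by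
          rw [← Grp.comp_hom_hom, e.hom_inv_id]; rfl
        simp [this]
      right_inv := fun x => by
        have : e.inv.hom.hom ≫ e.hom.hom.hom = 𝟙 G' := by
          rw [← Grp.comp_hom_hom, e.inv_hom_id]; rfl
        simp [this]
      map_mul' := fun x y => MonObj.mul_comp _ _ _ }
  exact derivedSeries_eq_bot_of_mulEquiv e' n (hn X)

end Any

section GrpIso

variable {S : Scheme.{u}} {G G' : Over S} [GrpObj G] [GrpObj G']

theorem hom_inv (e : Grp.mk G ≅ Grp.mk G') : e.hom.hom.hom ≫ e.inv.hom.hom = 𝟙 G := by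
  rw [← Grp.comp_hom_hom, e.hom_inv_id]; rfl

theorem inv_hom (e : Grp.mk G ≅ Grp.mk G') : e.inv.hom.hom ≫ e.hom.hom.hom = 𝟙 G' := by
  rw [← Grp.comp_hom_hom, e.inv_hom_id]; rfl

/-- The underlying isomorphism. -/
@[simps] noncomputable def isoOf (e : Grp.mk G ≅ Grp.mk G') : G ≅ G' where
  hom := e.hom.hom.hom
  inv := e.inv.hom.hom
  hom_inv_id := hom_inv e
  inv_hom_id := inv_hom e

instance (e : Grp.mk G ⟶ Grp.mk G') : IsMonHom e.hom.hom := e.hom.isMonHom_hom

theorem symm_w {A A' B B' : Over S} [GrpObj A] [GrpObj A'] [GrpObj B] [GrpObj B'] {i : A ⟶ B}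
    {i' : A' ⟶ B'} (eA : Grp.mk A ≅ Grp.mk A') (eB : Grp.mk B ≅ Grp.mk B')
    (w : eA.hom.hom.hom ≫ i' = i ≫ eB.hom.hom.hom) :
    eA.inv.hom.hom ≫ i = i' ≫ eB.inv.hom.hom := by
  rw [← cancel_mono (isoOf eB).hom, isoOf_hom, Category.assoc, ← w,
      ← Category.assoc, inv_hom, Category.id_comp, Category.assoc, inv_hom, Category.comp_id]

theorem prop_hom_of_iso (P : MorphismProperty Scheme.{u}) [P.RespectsIso] {A B : Over S}
    (e : A ≅ B) (h : P A.hom) : P B.hom := by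
  have : B.hom = e.inv.left ≫ A.hom := (Over.w e.inv).symm
  rw [this]
  exact (P.cancel_left_of_respectsIso _ _).2 h

end GrpIso

section IsoBase

variable {X Y : Scheme.{u}} (φ : Y ⟶ X) [IsIso φ]

instance isEquivalence_pullback : (Over.pullback φ).IsEquivalence := by
  have h1 : (Over.map φ).IsEquivalence := (Over.mapIso (asIso φ)).isEquivalence_functor
  exact (Over.mapPullbackAdj φ).isEquivalence_right_of_isEquivalence_left

variable {A B : Over X}

/-- The projection of a base change along an isomorphism is an isomorphism. -/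
instance isIso_pr : IsIso (EtHom.pr φ A) :=
  inferInstanceAs (IsIso (Limits.pullback.fst A.hom φ))

theorem prop_left_iff (P : MorphismProperty Scheme.{u}) [P.RespectsIso] (g : A ⟶ B) :
    P ((Over.pullback φ).map g).left ↔ P g.left :=
  P.arrow_mk_iso_iff (Arrow.isoMk (asIso (EtHom.pr φ A)) (asIso (EtHom.pr φ B))
    (EtHom.isPullback_map φ g).w)

theorem prop_hom_iff (P : MorphismProperty Scheme.{u}) [P.RespectsIso] (A : Over X) :
    P (Red.bc φ A).hom ↔ P A.hom :=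
  P.arrow_mk_iso_iff (Arrow.isoMk (asIso (EtHom.pr φ A)) (asIso φ)
    (Limits.pullback.condition (f := A.hom) (g := φ)))

/-- Descending a homomorphism along an isomorphism of the base. -/
theorem exists_back (H : Over X) [GrpObj H] (U' : Over Y) [GrpObj U'] (u' : U' ⟶ Red.bc φ H)
    [IsMonHom u'] : ∃ (U : Over X) (_ : GrpObj U) (u : U ⟶ H) (_ : IsMonHom u)
      (e : Grp.mk (Red.bc φ U) ≅ Grp.mk U'), e.hom.hom.hom ≫ u' = (Over.pullback φ).map u := by
  let U : Over X := Red.bc (inv φ) U'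
  let e : Grp.mk (Red.bc φ U) ≅ Grp.mk U' :=
    (BcIso.bcCompIso φ (inv φ) U').symm ≪≫ BcIso.bcCongrIso (IsIso.hom_inv_id φ) U' ≪≫
      BcIso.bcIdIso U'
  let v : (Over.pullback φ).mapGrp.obj (Grp.mk U) ⟶ (Over.pullback φ).mapGrp.obj (Grp.mk H) :=
    e.hom ≫ Grp.ofHom u'
  let w : Grp.mk U ⟶ Grp.mk H := (Over.pullback φ).mapGrp.preimage v
  refine ⟨U, inferInstance, w.hom.hom, inferInstance, e, ?_⟩
  have h1 : (Over.pullback φ).mapGrp.map w = v := (Over.pullback φ).mapGrp.map_preimage v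
  have h2 : ((Over.pullback φ).mapGrp.map w).hom.hom = v.hom.hom := by rw [h1]
  exact h2.symm

/-- Descending a group along an isomorphism of the base. -/
theorem exists_back_obj (U' : Over Y) [GrpObj U'] : ∃ (U : Over X) (_ : GrpObj U),
      Nonempty (Grp.mk (Red.bc φ U) ≅ Grp.mk U') :=
  ⟨Red.bc (inv φ) U', inferInstance,
    ⟨(BcIso.bcCompIso φ (inv φ) U').symm ≪≫ BcIso.bcCongrIso (IsIso.hom_inv_id φ) U' ≪≫
      BcIso.bcIdIso U'⟩⟩

end IsoBase

section Transport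

theorem connectedSpace_of_iso {X Y : Scheme.{u}} (e : X ≅ Y) (h : ConnectedSpace X) :
    ConnectedSpace Y :=
  (Scheme.homeoOfIso e).surjective.connectedSpace (Scheme.homeoOfIso e).continuous

theorem connectedSpace_bc {X Y : Scheme.{u}} (φ : Y ⟶ X) [IsIso φ] (A : Over X) :
    ConnectedSpace (Red.bc φ A).left ↔ ConnectedSpace A.left :=
  ⟨connectedSpace_of_iso (asIso (EtHom.pr φ A)), connectedSpace_of_iso (asIso (EtHom.pr φ A)).symm⟩

theorem isTrivialGrp_bc {X Y : Scheme.{u}} (φ : Y ⟶ X) [IsIso φ] (A : Over X) :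
    Red.IsTrivialGrp (Red.bc φ A) ↔ Red.IsTrivialGrp A :=
  prop_hom_iff φ (MorphismProperty.isomorphisms Scheme.{u}) A

theorem isTrivialGrp_of_iso {S : Scheme.{u}} {A B : Over S} (e : A ≅ B)
    (h : Red.IsTrivialGrp A) : Red.IsTrivialGrp B :=
  prop_hom_of_iso (MorphismProperty.isomorphisms Scheme.{u}) e h

theorem isTorus_of_iso {S : Scheme.{u}} {A B : Over S} [GrpObj A] [GrpObj B]
    (e : Grp.mk A ≅ Grp.mk B) (h : Red.IsTorus A) : Red.IsTorus B := by
  obtain ⟨S', f, hf, hs, hc, hU⟩ := h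
  refine ⟨S', f, hf, hs, hc, fun s' => ?_⟩
  obtain ⟨U, hsU, r, ⟨e'⟩⟩ := hU s'
  exact ⟨U, hsU, r, ⟨(BcIso.bcMapIso _ e).symm ≪≫ e'⟩⟩

theorem isTorus_bc_iso {X Y : Scheme.{u}} (φ : Y ⟶ X) [IsIso φ] {T : Over X} [GrpObj T]
    (h : Red.IsTorus T) : Red.IsTorus (Red.bc φ T) := by
  obtain ⟨S', f, hf, hs, hc, hU⟩ := h
  refine ⟨S', f ≫ inv φ, inferInstance, inferInstance, fun V hV => ?_, fun s' => ?_⟩
  · obtain ⟨W, hW, hWV⟩ := hc (inv φ ⁻¹ᵁ V) (hV.preimage_of_isIso (inv φ))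
    refine ⟨W, hW, ?_⟩
    have h1 : (f ≫ inv φ).base '' (W : Set S') = (inv φ).base '' (f.base '' (W : Set S')) := by
      rw [Set.image_image]
      rfl
    rw [h1, hWV]
    exact Set.image_preimage_eq _ (inv φ).surjective
  · obtain ⟨U, hsU, r, ⟨e'⟩⟩ := hU s'
    refine ⟨U, hsU, r, ⟨?_⟩⟩
    exact (BcIso.bcCompIso (U.ι ≫ f ≫ inv φ) φ T).symm ≪≫
      BcIso.bcCongrIso (by simp) T ≪≫ e'

variable {K K' : Type u} [Field K] [Field K']

theorem hasNoSubtorus_of_iso {U V : Over (Spec (CommRingCat.of K))} [GrpObj U] [GrpObj V]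
    (e : Grp.mk U ≅ Grp.mk V) (h : Red.HasNoSubtorus K U) : Red.HasNoSubtorus K V := by
  intro T _ j _ _ hT
  have : IsMonHom (j ≫ e.inv.hom.hom) := inferInstance
  have : IsIso e.inv.hom.hom := (isoOf e).isIso_inv
  have : Mono (j ≫ e.inv.hom.hom) := inferInstance
  exact h T (j ≫ e.inv.hom.hom) hT

variable (φ : Spec (CommRingCat.of K') ⟶ Spec (CommRingCat.of K)) [IsIso φ]

theorem hasNoSubtorus_bc {U : Over (Spec (CommRingCat.of K))} [GrpObj U]
    (h : Red.HasNoSubtorus K U) : Red.HasNoSubtorus K' (Red.bc φ U) := by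
  intro T' _ j' _ _ hT
  obtain ⟨T, _, j, _, e, he⟩ := exists_back φ U T' j'
  have hi : IsIso e.hom.hom.hom := (isoOf e).isIso_hom
  have hm : Mono ((Over.pullback φ).map j) := by
    rw [← he]
    infer_instance
  have hm' : Mono j := (Over.pullback φ).mono_of_mono_map hm
  have hT' : Red.IsTorus T := by
    have h1 := isTorus_bc_iso (inv φ) (isTorus_of_iso e.symm hT)
    exact isTorus_of_iso ((BcIso.bcCompIso (inv φ) φ T).symm ≪≫
      BcIso.bcCongrIso (IsIso.inv_hom_id φ) T ≪≫ BcIso.bcIdIso T) h1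
  exact isTrivialGrp_of_iso (isoOf e) ((isTrivialGrp_bc φ T).2 (h T j hT'))

theorem isNormalHom_of_iso {S : Scheme.{u}} {N N' G G' : Over S} [GrpObj N] [GrpObj N'] [GrpObj G]
    [GrpObj G'] {i : N ⟶ G} {i' : N' ⟶ G'} (eN : Grp.mk N ≅ Grp.mk N') (eG : Grp.mk G ≅ Grp.mk G')
    (w : eN.hom.hom.hom ≫ i' = i ≫ eG.hom.hom.hom) (h : AlgGrp.IsNormalHom i) :
    AlgGrp.IsNormalHom i' := by
  intro T g n
  obtain ⟨n', hn'⟩ := h T (g ≫ eG.inv.hom.hom) (n ≫ eN.inv.hom.hom)
  refine ⟨n' ≫ eN.hom.hom.hom, ?_⟩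
  rw [Category.assoc, w, ← Category.assoc, ← hn', MonObj.mul_comp, MonObj.mul_comp,
    Category.assoc, inv_hom, Category.comp_id, Category.assoc, Category.assoc,
    ← w, ← Category.assoc (eN.inv.hom.hom), inv_hom, Category.id_comp, ← GrpObj.inv_comp,
    Category.assoc, inv_hom, Category.comp_id]

theorem prop_left_of_iso (P : MorphismProperty Scheme.{u}) [P.RespectsIso] {S : Scheme.{u}}
    {A A' B B' : Over S} {i : A ⟶ B} {i' : A' ⟶ B'} (eA : A ≅ A') (eB : B ≅ B')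
    (w : eA.hom ≫ i' = i ≫ eB.hom) (h : P i.left) : P i'.left := by
  refine (P.arrow_mk_iso_iff (Arrow.isoMk ((Over.forget S).mapIso eA) ((Over.forget S).mapIso eB)
    ?_)).1 h
  exact congrArg (fun z => z.left) w

theorem isReductiveOver_of_iso {G G' : Over (Spec (CommRingCat.of K))} [GrpObj G] [GrpObj G']
    (e : Grp.mk G ≅ Grp.mk G') (h : Red.IsReductiveOver K G) : Red.IsReductiveOver K G' := by
  obtain ⟨h1, h2, h3, h4⟩ := h
  refine ⟨?_, prop_hom_of_iso @Smooth (isoOf e) h2,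
    connectedSpace_of_iso ((Over.forget _).mapIso (isoOf e)) h3, ?_⟩
  · have : IsIso (isoOf e).inv.left := ((Over.forget _).mapIso (isoOf e)).isIso_inv
    exact IsAffine.of_isIso (isoOf e).inv.left
  · intro U _ i _ hi hs hc hn hT
    have hi' : IsIso e.inv.hom.hom := (isoOf e).isIso_inv
    refine h4 U (i ≫ e.inv.hom.hom) ?_ hs hc ?_ hT
    · exact prop_left_of_iso @IsClosedImmersion (Iso.refl U) (isoOf e).symm (by simp) hi
    · exact isNormalHom_of_iso (Iso.refl (Grp.mk U)) e.symm (by simp) hn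

theorem isNormalHom_of_bc {X Y : Scheme.{u}} (φ : Y ⟶ X) [IsIso φ] {N G : Over X} [GrpObj N]
    [GrpObj G] {i : N ⟶ G} (h : AlgGrp.IsNormalHom ((Over.pullback φ).map i)) :
    AlgGrp.IsNormalHom i := by
  intro T g n
  obtain ⟨n', hn'⟩ := h _ ((Over.pullback φ).map g) ((Over.pullback φ).map n)
  obtain ⟨n'', rfl⟩ := (Over.pullback φ).map_surjective n'
  refine ⟨n'', (Over.pullback φ).map_injective ?_⟩
  rw [Functor.map_comp, ← hn', Functor.map_mul, Functor.map_mul, Functor.map_inv',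
    Functor.map_comp]

theorem hasNoSubtorus_of_bc {U : Over (Spec (CommRingCat.of K))} [GrpObj U]
    (h : Red.HasNoSubtorus K' (Red.bc φ U)) : Red.HasNoSubtorus K U := by
  intro T _ j _ _ hT
  exact (isTrivialGrp_bc φ T).1 (h (Red.bc φ T) ((Over.pullback φ).map j) (isTorus_bc_iso φ hT))

theorem isReductiveOver_bc {G : Over (Spec (CommRingCat.of K))} [GrpObj G]
    (h : Red.IsReductiveOver K G) : Red.IsReductiveOver K' (Red.bc φ G) := by
  obtain ⟨h1, h2, h3, h4⟩ := h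
  refine ⟨IsAffine.of_isIso (EtHom.pr φ G), (prop_hom_iff φ @Smooth G).2 h2,
    (connectedSpace_bc φ G).2 h3, ?_⟩
  intro U' _ i' _ hi hs hc hn hT
  obtain ⟨U, _, i, _, e, he⟩ := exists_back φ G U' i'
  have h5 : IsClosedImmersion ((Over.pullback φ).map i).left :=
    prop_left_of_iso @IsClosedImmersion (isoOf e).symm (Iso.refl _) (by
      rw [Iso.refl_hom, Category.comp_id, ← he]
      simp [← Category.assoc, inv_hom]) hi
  have h6 : AlgGrp.IsNormalHom ((Over.pullback φ).map i) :=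
    isNormalHom_of_iso e.symm (Iso.refl _) (by
      rw [← he, ← Category.assoc]
      change (e.inv.hom.hom ≫ e.hom.hom.hom) ≫ i' = i' ≫ 𝟙 _
      rw [inv_hom, Category.id_comp, Category.comp_id]) hn
  have h7 : Red.IsTrivialGrp U := by
    refine h4 U i ((prop_left_iff φ @IsClosedImmersion i).1 h5) ?_ ?_ ?_ ?_
    · exact (prop_hom_iff φ @Smooth U).1 (prop_hom_of_iso @Smooth (isoOf e).symm hs)
    · exact (connectedSpace_bc φ U).1
        (connectedSpace_of_iso ((Over.forget _).mapIso (isoOf e).symm) hc)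
    · exact isNormalHom_of_bc φ h6
    · exact hasNoSubtorus_of_bc φ (hasNoSubtorus_of_iso e.symm hT)
  exact isTrivialGrp_of_iso (isoOf e) ((isTrivialGrp_bc φ U).2 h7)

theorem isSolvableGrp_of_bc {X Y : Scheme.{u}} (φ : Y ⟶ X) [IsIso φ] {G : Over X} [GrpObj G]
    (h : Red.IsSolvableGrp (Red.bc φ G)) : Red.IsSolvableGrp G :=
  isSolvableGrp_of_iso ((BcIso.bcCompIso (inv φ) φ G).symm ≪≫
      BcIso.bcCongrIso (IsIso.inv_hom_id φ) G ≪≫ BcIso.bcIdIso G) (isSolvableGrp_bc (inv φ) h)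

theorem isMonHom_of_iso {S : Scheme.{u}} {N N' G G' : Over S} [GrpObj N] [GrpObj N'] [GrpObj G]
    [GrpObj G'] {i : N ⟶ G} {i' : N' ⟶ G'} (eN : Grp.mk N ≅ Grp.mk N') (eG : Grp.mk G ≅ Grp.mk G')
    (w : eN.hom.hom.hom ≫ i' = i ≫ eG.hom.hom.hom) (h : IsMonHom i) : IsMonHom i' := by
  have h1 : i' = eN.inv.hom.hom ≫ i ≫ eG.hom.hom.hom := by
    rw [← w, ← Category.assoc, inv_hom, Category.id_comp]
  rw [h1]
  infer_instance

theorem isBorelOver_of_iso {B B' G G' : Over (Spec (CommRingCat.of K))} [GrpObj B] [GrpObj B']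
    [GrpObj G] [GrpObj G'] {i : B ⟶ G} {i' : B' ⟶ G'} (eB : Grp.mk B ≅ Grp.mk B')
    (eG : Grp.mk G ≅ Grp.mk G') (w : eB.hom.hom.hom ≫ i' = i ≫ eG.hom.hom.hom)
    (h : Red.IsBorelOver K i) : Red.IsBorelOver K i' := by
  obtain ⟨h1, h2, h3, h4, h5, h6⟩ := h
  refine ⟨isMonHom_of_iso eB eG w h1, prop_left_of_iso @IsClosedImmersion (isoOf eB) (isoOf eG) w h2,
    prop_hom_of_iso @Smooth (isoOf eB) h3,
    connectedSpace_of_iso ((Over.forget _).mapIso (isoOf eB)) h4, isSolvableGrp_of_iso eB h5, ?_⟩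
  intro C _ c _ f hc hs hcon hsol hfc
  have hi : IsIso (eB.hom.hom.hom ≫ f) := by
    refine h6 C (c ≫ eG.inv.hom.hom) (eB.hom.hom.hom ≫ f) ?_ hs hcon hsol ?_
    · exact prop_left_of_iso @IsClosedImmersion (Iso.refl C) (isoOf eG).symm (by simp) hc
    · rw [Category.assoc, ← Category.assoc f, hfc, ← Category.assoc, w, Category.assoc, hom_inv,
        Category.comp_id]
  have : IsIso eB.hom.hom.hom := (isoOf eB).isIso_hom
  exact IsIso.of_isIso_comp_left eB.hom.hom.hom f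

theorem isBorelOver_bc {B G : Over (Spec (CommRingCat.of K))} [GrpObj B] [GrpObj G] {i : B ⟶ G}
    (h : Red.IsBorelOver K i) : Red.IsBorelOver K' ((Over.pullback φ).map i) := by
  obtain ⟨h1, h2, h3, h4, h5, h6⟩ := h
  refine ⟨inferInstance, (prop_left_iff φ @IsClosedImmersion i).2 h2, (prop_hom_iff φ @Smooth B).2 h3,
    (connectedSpace_bc φ B).2 h4, isSolvableGrp_bc φ h5, ?_⟩
  intro C' _ c' _ f' hc hs hcon hsol hfc
  obtain ⟨C, _, c, _, e, he⟩ := exists_back φ G C' c'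
  have hc' : IsClosedImmersion ((Over.pullback φ).map c).left :=
    prop_left_of_iso @IsClosedImmersion (isoOf e).symm (Iso.refl _) (by
      rw [Iso.refl_hom, Category.comp_id, ← he]
      simp [← Category.assoc, inv_hom]) hc
  obtain ⟨f, hf⟩ := (Over.pullback φ).map_surjective (f' ≫ e.inv.hom.hom)
  have hi : IsIso f := by
    refine h6 C c f ((prop_left_iff φ @IsClosedImmersion c).1 hc') ?_ ?_ ?_ ?_
    · exact (prop_hom_iff φ @Smooth C).1 (prop_hom_of_iso @Smooth (isoOf e).symm hs)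
    · exact (connectedSpace_bc φ C).1
        (connectedSpace_of_iso ((Over.forget _).mapIso (isoOf e).symm) hcon)
    · exact isSolvableGrp_of_bc φ (isSolvableGrp_of_iso e.symm hsol)
    · apply (Over.pullback φ).map_injective
      rw [Functor.map_comp, hf, ← he, Category.assoc, ← Category.assoc e.inv.hom.hom, inv_hom,
        Category.id_comp, hfc]
  have hi2 : IsIso (f' ≫ e.inv.hom.hom) := by
    rw [← hf]
    infer_instance
  have : IsIso e.inv.hom.hom := (isoOf e).isIso_inv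
  exact IsIso.of_isIso_comp_right f' e.inv.hom.hom

theorem isParabolicOver_of_iso {B B' G G' : Over (Spec (CommRingCat.of K))} [GrpObj B] [GrpObj B']
    [GrpObj G] [GrpObj G'] {i : B ⟶ G} {i' : B' ⟶ G'} (eB : Grp.mk B ≅ Grp.mk B')
    (eG : Grp.mk G ≅ Grp.mk G') (w : eB.hom.hom.hom ≫ i' = i ≫ eG.hom.hom.hom)
    (h : Red.IsParabolicOver K i) : Red.IsParabolicOver K i' := by
  obtain ⟨h1, h2, h3, C, _, c, hc⟩ := h
  refine ⟨isMonHom_of_iso eB eG w h1, prop_left_of_iso @IsClosedImmersion (isoOf eB) (isoOf eG) w h2,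
    prop_hom_of_iso @Smooth (isoOf eB) h3, C, inferInstance, c ≫ eB.hom.hom.hom,
    isBorelOver_of_iso (Iso.refl _) eG ?_ hc⟩
  rw [Category.assoc, Category.assoc, w]
  exact Category.id_comp _

theorem isParabolicOver_bc {B G : Over (Spec (CommRingCat.of K))} [GrpObj B] [GrpObj G] {i : B ⟶ G}
    (h : Red.IsParabolicOver K i) : Red.IsParabolicOver K' ((Over.pullback φ).map i) := by
  obtain ⟨h1, h2, h3, C, _, c, hc⟩ := h
  refine ⟨inferInstance, (prop_left_iff φ @IsClosedImmersion i).2 h2,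
    (prop_hom_iff φ @Smooth B).2 h3, Red.bc φ C, inferInstance, (Over.pullback φ).map c, ?_⟩
  rw [← Functor.map_comp]
  exact isBorelOver_bc φ hc

end Transport

end Groth.Agent.Sga3B.Parab.GeomBC147
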