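import Groth.Agent.Sga3B.Parab.Defs

/-!
# Schemes over `S` are determined by their points with values in affine schemes over `S`
-/

set_option autoImplicit false

universe u

open CategoryTheory MonoidalCategory CartesianMonoidalCategory MonObj GrpObj AlgebraicGeometry Limits

namespace Groth.Agent.Sga3B.Parab.AffPts998

variable {S : Scheme.{u}}

lemma affineCover_ind {X : Scheme.{u}} (P : ∀ {T : Scheme.{u}}, (T ⟶ X) → Prop)
    (h : ∀ (R : CommRingCat.{u}) (f : Spec R ⟶ X), P f) (i : X.affineCover.I₀) :
    P (X.affineCover.f i) :=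
  h _ _

/-- Morphisms over `S` can be compared on affine points. -/
lemma hom_ext_aff {X Y : Over S} {a b : X ⟶ Y}
    (h : ∀ (C : Type u) [CommRing C] (c : Spec (CommRingCat.of C) ⟶ S) (x : aff C c ⟶ X),
      x ≫ a = x ≫ b) : a = b := by
  ext1
  refine Scheme.Cover.hom_ext X.left.affineCover _ _ fun i => ?_
  refine affineCover_ind (X := X.left) (fun {T} f => f ≫ a.left = f ≫ b.left) (fun R f => ?_) i
  have := h R (f ≫ X.hom) (Over.homMk f rfl)
  exact congrArg (fun z => z.left) this

/-- Lifts along a monomorphism can be found on affine points. -/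
lemma exists_lift_of_aff {X Y T : Over S} (f : X ⟶ Y) [Mono f] (a : T ⟶ Y)
    (h : ∀ (C : Type u) [CommRing C] (c : Spec (CommRingCat.of C) ⟶ S) (t : aff C c ⟶ T),
      ∃ x : aff C c ⟶ X, x ≫ f = t ≫ a) : ∃ x : T ⟶ X, x ≫ f = a := by
  have hf : Mono f.left := inferInstance
  have key : ∀ i, ∃ x : T.left.affineCover.X i ⟶ X.left,
      x ≫ f.left = T.left.affineCover.f i ≫ a.left := by
    refine affineCover_ind (X := T.left) (fun {W} g => ∃ x : W ⟶ X.left, x ≫ f.left = g ≫ a.left)
      (fun R g => ?_)
    obtain ⟨x, hx⟩ := h R (g ≫ T.hom) (Over.homMk g rfl)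
    exact ⟨x.left, congrArg (fun z => z.left) hx⟩
  choose x hx using key
  let F : T.left ⟶ X.left := T.left.affineCover.glueMorphisms x (fun i j => by
    rw [← cancel_mono f.left, Category.assoc, Category.assoc, hx, hx, ← Category.assoc,
      ← Category.assoc, pullback.condition])
  have hF : F ≫ f.left = a.left := by
    refine Scheme.Cover.hom_ext T.left.affineCover _ _ fun i => ?_
    rw [← Category.assoc, Scheme.Cover.ι_glueMorphisms, hx]
  refine ⟨Over.homMk F ?_, ?_⟩
  · rw [← Over.w f, ← Category.assoc, hF, Over.w]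
  · ext1
    exact hF

/-- A morphism over `S` which is bijective on affine points is an isomorphism. -/
lemma isIso_of_aff {X Y : Over S} (f : X ⟶ Y)
    (h : ∀ (C : Type u) [CommRing C] (c : Spec (CommRingCat.of C) ⟶ S),
      Function.Bijective fun x : aff C c ⟶ X => x ≫ f) : IsIso f := by
  have : Mono f := ⟨fun a b hab => hom_ext_aff fun C _ c x => (h C c).1 (by
    change (x ≫ a) ≫ f = (x ≫ b) ≫ f
    rw [Category.assoc, hab, Category.assoc])⟩
  obtain ⟨s, hs⟩ := exists_lift_of_aff f (𝟙 Y) fun C _ c t => by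
    obtain ⟨x, hx⟩ := (h C c).2 t
    exact ⟨x, by rw [Category.comp_id]; exact hx⟩
  exact ⟨s, by rw [← cancel_mono f, Category.assoc, hs, Category.comp_id, Category.id_comp], hs⟩

end Groth.Agent.Sga3B.Parab.AffPts998
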