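import Groth.Agent.Sga3B.Parab.Chart998
import Groth.Agent.Sga3B.Parab.AffPts998

/-!
# Limits of orbits: base change and group operations, for any `S`-group
-/

set_option autoImplicit false

universe u

open CategoryTheory MonoidalCategory CartesianMonoidalCategory MonObj GrpObj AlgebraicGeometry Limits
open scoped LaurentPolynomial Polynomial
open Groth.Agent.Sga3B.Parab.Chart998 Groth.Agent.Sga3B.Parab.AffPts998

namespace Groth.Agent.Sga3B.Parab.Dyn998

variable {S : Scheme.{u}}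

section Maps

variable {C D : Type u} [CommRing C] [CommRing D]
variable {c : Spec (CommRingCat.of C) ⟶ S} {d : Spec (CommRingCat.of D) ⟶ S}

/-- the ring map under a morphism of affine test schemes -/
noncomputable def rm (x : aff D d ⟶ aff C c) : C →+* D := (Spec.preimage x.left).hom

lemma left_eq (x : aff D d ⟶ aff C c) : x.left = Spec.map (CommRingCat.ofHom (rm x)) :=
  (Spec.map_preimage x.left).symm

lemma map_rm (x : aff D d ⟶ aff C c) : Spec.map (CommRingCat.ofHom (rm x)) ≫ c = d := by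
  rw [← left_eq]
  exact Over.w x

lemma mapRingHom_T (f : C →+* D) (n : ℤ) :
    AddMonoidAlgebra.mapRingHom ℤ f (LaurentPolynomial.T n : C[T;T⁻¹]) = LaurentPolynomial.T n := by
  rw [LaurentPolynomial.T, AddMonoidAlgebra.mapRingHom_single, map_one]
  rfl

lemma mapRingHom_C (f : C →+* D) (a : C) :
    AddMonoidAlgebra.mapRingHom ℤ f (LaurentPolynomial.C a : C[T;T⁻¹]) =
      LaurentPolynomial.C (f a) := by
  rw [← LaurentPolynomial.single_eq_C, ← LaurentPolynomial.single_eq_C,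
    AddMonoidAlgebra.mapRingHom_single]

/-- `Spec D[T] ⟶ Spec C[T]` -/
noncomputable def mapL (x : aff D d ⟶ aff C c) : lin D d ⟶ lin C c :=
  Over.homMk (Spec.map (CommRingCat.ofHom (Polynomial.mapRingHom (rm x)))) (by
    change Spec.map _ ≫ Spec.map _ ≫ c = Spec.map _ ≫ d
    refine Eq.trans ?_ (congrArg (Spec.map (CommRingCat.ofHom (algebraMap D D[X])) ≫ ·) (map_rm x))
    rw [← Category.assoc, ← Category.assoc, ← Spec.map_comp, ← Spec.map_comp,
      ← CommRingCat.ofHom_comp, ← CommRingCat.ofHom_comp]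
    congr 3
    ext a
    simp)

/-- `Spec D[T;T⁻¹] ⟶ Spec C[T;T⁻¹]` -/
noncomputable def mapG (x : aff D d ⟶ aff C c) : gmo D d ⟶ gmo C c :=
  Over.homMk (Spec.map (CommRingCat.ofHom (AddMonoidAlgebra.mapRingHom ℤ (rm x)))) (by
    change Spec.map _ ≫ Spec.map _ ≫ c = Spec.map _ ≫ d
    refine Eq.trans ?_
      (congrArg (Spec.map (CommRingCat.ofHom (algebraMap D D[T;T⁻¹])) ≫ ·) (map_rm x))
    rw [← Category.assoc, ← Category.assoc, ← Spec.map_comp, ← Spec.map_comp,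
      ← CommRingCat.ofHom_comp, ← CommRingCat.ofHom_comp]
    congr 3
    refine RingHom.ext fun a => ?_
    exact mapRingHom_C (rm x) a)

variable (x : aff D d ⟶ aff C c)

@[reassoc]
lemma mapG_gmPr : mapG x ≫ gmPr C c = gmPr D d ≫ x := by
  ext1
  change Spec.map _ ≫ Spec.map _ = Spec.map _ ≫ x.left
  rw [left_eq x, ← Spec.map_comp, ← Spec.map_comp, ← CommRingCat.ofHom_comp, ← CommRingCat.ofHom_comp]
  congr 2
  refine RingHom.ext fun a => ?_
  exact mapRingHom_C (rm x) a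

@[reassoc]
lemma mapL_linPr : mapL x ≫ linPr C c = linPr D d ≫ x := by
  ext1
  change Spec.map _ ≫ Spec.map _ = Spec.map _ ≫ x.left
  rw [left_eq x, ← Spec.map_comp, ← Spec.map_comp, ← CommRingCat.ofHom_comp, ← CommRingCat.ofHom_comp]
  congr 2
  ext a
  simp

@[reassoc]
lemma zeroSec_mapL : zeroSec D d ≫ mapL x = x ≫ zeroSec C c := by
  ext1
  change Spec.map _ ≫ Spec.map _ = x.left ≫ Spec.map _
  rw [left_eq x, ← Spec.map_comp, ← Spec.map_comp, ← CommRingCat.ofHom_comp, ← CommRingCat.ofHom_comp]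
  congr 2
  apply Polynomial.ringHom_ext
  · intro a
    simp
  · simp

@[reassoc]
lemma toLin_mapL : toLin D d ≫ mapL x = mapG x ≫ toLin C c := by
  ext1
  change Spec.map _ ≫ Spec.map _ = Spec.map _ ≫ Spec.map _
  rw [← Spec.map_comp, ← Spec.map_comp, ← CommRingCat.ofHom_comp, ← CommRingCat.ofHom_comp]
  congr 2
  apply Polynomial.ringHom_ext
  · intro a
    change Polynomial.toLaurent (Polynomial.mapRingHom (rm x) (Polynomial.C a)) =
      AddMonoidAlgebra.mapRingHom ℤ (rm x) (Polynomial.toLaurent (Polynomial.C a))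
    rw [Polynomial.toLaurent_C, mapRingHom_C, Polynomial.coe_mapRingHom, Polynomial.map_C,
      Polynomial.toLaurent_C]
  · change Polynomial.toLaurent (Polynomial.mapRingHom (rm x) Polynomial.X) =
      AddMonoidAlgebra.mapRingHom ℤ (rm x) (Polynomial.toLaurent Polynomial.X)
    rw [Polynomial.toLaurent_X, mapRingHom_T, Polynomial.coe_mapRingHom, Polynomial.map_X,
      Polynomial.toLaurent_X]

@[reassoc (attr := simp)]
lemma toLin_linPr : toLin C c ≫ linPr C c = gmPr C c := by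
  ext1
  change Spec.map _ ≫ Spec.map _ = Spec.map _
  rw [← Spec.map_comp, ← CommRingCat.ofHom_comp]
  congr 2
  exact (Polynomial.toLaurentAlg (R := C)).comp_algebraMap

@[reassoc (attr := simp)]
lemma zeroSec_linPr : zeroSec C c ≫ linPr C c = 𝟙 _ := by
  ext1
  change Spec.map _ ≫ Spec.map _ = 𝟙 _
  rw [← Spec.map_comp, ← CommRingCat.ofHom_comp]
  have : (Polynomial.aeval (R := C) (0 : C)).toRingHom.comp (algebraMap C C[X]) = RingHom.id C :=
    (Polynomial.aeval (R := C) (0 : C)).comp_algebraMap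
  rw [this]
  exact Spec.map_id _

@[reassoc]
lemma mapG_tPt : mapG x ≫ tPt C c = tPt D d := by
  refine (comp_tPt (C' := D[T;T⁻¹]) (c' := Spec.map (CommRingCat.ofHom (algebraMap D D[T;T⁻¹])) ≫ d)
    (mapG x) (AddMonoidAlgebra.mapRingHom ℤ (rm x)) rfl (tC D) (fun n => ?_)).trans rfl
  rw [mapRingHom_T]
  rfl

end Maps

section Orb

variable {G : Over S} [GrpObj G] (lam : Red.Gm S ⟶ G)
variable {C D : Type u} [CommRing C] [CommRing D]
variable {c : Spec (CommRingCat.of C) ⟶ S} {d : Spec (CommRingCat.of D) ⟶ S}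

lemma mapG_orb (x : aff D d ⟶ aff C c) (g : aff C c ⟶ G) :
    mapG x ≫ orb lam g = orb lam (x ≫ g) := by
  rw [orb, orb, MonObj.comp_mul, MonObj.comp_mul, GrpObj.comp_inv, mapG_gmPr_assoc,
    mapG_tPt_assoc]

variable {lam}

lemma _root_.Groth.Agent.Sga3B.Parab.LimEx.comp {g : aff C c ⟶ G} (h : LimEx lam g)
    (x : aff D d ⟶ aff C c) : LimEx lam (x ≫ g) := by
  obtain ⟨l, hl⟩ := h
  exact ⟨mapL x ≫ l, by rw [toLin_mapL_assoc, hl, mapG_orb]⟩

lemma _root_.Groth.Agent.Sga3B.Parab.LimOne.comp {g : aff C c ⟶ G} (h : LimOne lam g)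
    (x : aff D d ⟶ aff C c) : LimOne lam (x ≫ g) := by
  obtain ⟨l, hl, h0⟩ := h
  exact ⟨mapL x ≫ l, by rw [toLin_mapL_assoc, hl, mapG_orb], by
    rw [zeroSec_mapL_assoc, h0, MonObj.comp_one]⟩

lemma _root_.Groth.Agent.Sga3B.Parab.OrbConst.comp {g : aff C c ⟶ G} (h : OrbConst lam g)
    (x : aff D d ⟶ aff C c) : OrbConst lam (x ≫ g) := by
  rw [OrbConst, ← mapG_orb, h, mapG_gmPr_assoc]

lemma ptP_iff {g : aff C c ⟶ G} : PtP lam g ↔ LimEx lam g :=
  ⟨fun h => by simpa using h C c (𝟙 _), fun h _ _ _ x => h.comp x⟩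

lemma ptU_iff {g : aff C c ⟶ G} : PtU lam g ↔ LimOne lam g :=
  ⟨fun h => by simpa using h C c (𝟙 _), fun h _ _ _ x => h.comp x⟩

lemma ptZ_iff {g : aff C c ⟶ G} : PtZ lam g ↔ OrbConst lam g :=
  ⟨fun h => by simpa using h C c (𝟙 _), fun h _ _ _ x => h.comp x⟩

lemma _root_.Groth.Agent.Sga3B.Parab.PtP.comp {X Y : Over S} {g : X ⟶ G} (h : PtP lam g)
    (y : Y ⟶ X) : PtP lam (y ≫ g) := fun C _ c x => by simpa using h C c (x ≫ y)

lemma _root_.Groth.Agent.Sga3B.Parab.PtU.comp {X Y : Over S} {g : X ⟶ G} (h : PtU lam g)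
    (y : Y ⟶ X) : PtU lam (y ≫ g) := fun C _ c x => by simpa using h C c (x ≫ y)

lemma _root_.Groth.Agent.Sga3B.Parab.PtZ.comp {X Y : Over S} {g : X ⟶ G} (h : PtZ lam g)
    (y : Y ⟶ X) : PtZ lam (y ≫ g) := fun C _ c x => by simpa using h C c (x ≫ y)

variable (lam)

lemma orb_mul (g h : aff C c ⟶ G) : orb lam (g * h) = orb lam g * orb lam h := by
  rw [orb, orb, orb, MonObj.comp_mul]
  group

lemma orb_one : orb lam (1 : aff C c ⟶ G) = 1 := by
  rw [orb, MonObj.comp_one]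
  group

lemma orb_inv (g : aff C c ⟶ G) : orb lam g⁻¹ = (orb lam g)⁻¹ := by
  rw [orb, orb, GrpObj.comp_inv]
  group

lemma limEx_one : LimEx lam (1 : aff C c ⟶ G) := ⟨1, by rw [MonObj.comp_one, orb_one]⟩

lemma limOne_one : LimOne lam (1 : aff C c ⟶ G) :=
  ⟨1, by rw [MonObj.comp_one, orb_one], MonObj.comp_one _⟩

lemma orbConst_one : OrbConst lam (1 : aff C c ⟶ G) := by
  rw [OrbConst, orb_one, MonObj.comp_one]

variable {lam}

lemma _root_.Groth.Agent.Sga3B.Parab.LimEx.mul {g h : aff C c ⟶ G} (hg : LimEx lam g)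
    (hh : LimEx lam h) : LimEx lam (g * h) := by
  obtain ⟨a, ha⟩ := hg
  obtain ⟨b, hb⟩ := hh
  exact ⟨a * b, by rw [MonObj.comp_mul, ha, hb, orb_mul]⟩

lemma _root_.Groth.Agent.Sga3B.Parab.LimEx.inv {g : aff C c ⟶ G} (hg : LimEx lam g) :
    LimEx lam g⁻¹ := by
  obtain ⟨a, ha⟩ := hg
  exact ⟨a⁻¹, by rw [GrpObj.comp_inv, ha, orb_inv]⟩

lemma _root_.Groth.Agent.Sga3B.Parab.LimOne.mul {g h : aff C c ⟶ G} (hg : LimOne lam g)
    (hh : LimOne lam h) : LimOne lam (g * h) := by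
  obtain ⟨a, ha, ha0⟩ := hg
  obtain ⟨b, hb, hb0⟩ := hh
  exact ⟨a * b, by rw [MonObj.comp_mul, ha, hb, orb_mul], by
    rw [MonObj.comp_mul, ha0, hb0, _root_.mul_one]⟩

lemma _root_.Groth.Agent.Sga3B.Parab.LimOne.inv {g : aff C c ⟶ G} (hg : LimOne lam g) :
    LimOne lam g⁻¹ := by
  obtain ⟨a, ha, ha0⟩ := hg
  exact ⟨a⁻¹, by rw [GrpObj.comp_inv, ha, orb_inv], by rw [GrpObj.comp_inv, ha0, _root_.inv_one]⟩

lemma _root_.Groth.Agent.Sga3B.Parab.OrbConst.mul {g h : aff C c ⟶ G} (hg : OrbConst lam g)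
    (hh : OrbConst lam h) : OrbConst lam (g * h) := by
  rw [OrbConst, orb_mul, hg, hh, MonObj.comp_mul]

lemma _root_.Groth.Agent.Sga3B.Parab.OrbConst.inv {g : aff C c ⟶ G} (hg : OrbConst lam g) :
    OrbConst lam g⁻¹ := by
  rw [OrbConst, orb_inv, hg, GrpObj.comp_inv]

lemma _root_.Groth.Agent.Sga3B.Parab.LimOne.limEx {g : aff C c ⟶ G} (hg : LimOne lam g) :
    LimEx lam g := ⟨hg.choose, hg.choose_spec.1⟩

lemma _root_.Groth.Agent.Sga3B.Parab.OrbConst.limEx {g : aff C c ⟶ G} (hg : OrbConst lam g) :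
    LimEx lam g := ⟨linPr C c ≫ g, by rw [toLin_linPr_assoc, hg]⟩

/-- `U_G(λ)` is normal in `P_G(λ)` -/
lemma _root_.Groth.Agent.Sga3B.Parab.LimOne.conj {g h : aff C c ⟶ G} (hg : LimOne lam g)
    (hh : LimEx lam h) : LimOne lam (h * g * h⁻¹) := by
  obtain ⟨a, ha, ha0⟩ := hg
  obtain ⟨b, hb⟩ := hh
  refine ⟨b * a * b⁻¹, ?_, ?_⟩
  · rw [MonObj.comp_mul, MonObj.comp_mul, GrpObj.comp_inv, ha, hb, orb_mul, orb_mul, orb_inv]
  · rw [MonObj.comp_mul, MonObj.comp_mul, GrpObj.comp_inv, ha0]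
    group

end Orb

end Groth.Agent.Sga3B.Parab.Dyn998
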