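import Groth.Agent.Sga3B.RG.BrDiag
import Groth.Agent.Sga3B.Parab.Defs

/-!
# Homomorphisms between diagonalizable groups over an integral affine base
-/

set_option autoImplicit false

universe u

open CategoryTheory MonoidalCategory CartesianMonoidalCategory MonObj GrpObj AlgebraicGeometry
open Groth.Agent.Books.AffBridge Groth.Agent.Books.AffBridge2

namespace Groth.Agent.Sga3B.Parab.DSHom

open Groth.Agent.Sga3B Groth.Agent.Sga3B.RG.BrDiag

variable {R : Type u} [CommRing R] {M N : Type} [AddCommGroup M] [AddCommGroup N]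

lemma diagTo_DSmap (y : N →+ M) :
    diagTo R M ≫ Red.DSmap (Spec (CommRingCat.of R)) y =
      dsSpecEquiv (MonoidAlgebra R (Multiplicative M))
        ((MonoidAlgebra.of R (Multiplicative M)).comp (AddMonoidHom.toMultiplicative y)) := by
  rw [diagTo, DSPts.dsEquiv_DSmap]
  rfl

/-- Homomorphisms between diagonalizable groups over an integral affine base come from
homomorphisms of character groups. -/
theorem exists_DSmap [IsDomain R] (φ : Red.DS (Spec (CommRingCat.of R)) M ⟶
    Red.DS (Spec (CommRingCat.of R)) N) [IsMonHom φ] :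
    ∃ y : N →+ M, φ = Red.DSmap (Spec (CommRingCat.of R)) y := by
  have h0 : IsMonHom (asIso (diagTo R N)).hom := isMonHom_diagTo R N
  have h00 : IsMonHom (asIso (diagTo R N)).inv := inferInstance
  obtain ⟨f, hf⟩ := exists_bialgHom_of_isMonHom R (diagTo R M ≫ φ ≫ (asIso (diagTo R N)).inv)
  have h1 : ∀ n : Multiplicative N, ∃ m : Multiplicative M,
      MonoidAlgebra.of R (Multiplicative M) m = f (MonoidAlgebra.of R (Multiplicative N) n) := by
    intro n
    have h2 : IsGroupLikeElem R (f (MonoidAlgebra.of R (Multiplicative N) n)) :=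
      (MonoidAlgebra.isGroupLikeElem_of n).map f
    exact MonoidAlgebra.isGroupLikeElem_iff_mem_range_of.1 h2
  choose y hy using h1
  have hinj := MonoidAlgebra.of_injective (R := R) (M := Multiplicative M)
  let y' : Multiplicative N →* Multiplicative M :=
    { toFun := y
      map_one' := hinj (by rw [hy, map_one, map_one, map_one])
      map_mul' := fun a b => hinj (by rw [hy, map_mul, map_mul, map_mul, hy, hy]) }
  refine ⟨AddMonoidHom.toMultiplicative.symm y', ?_⟩
  rw [← cancel_epi (diagTo R M), diagTo_DSmap]
  have h2 : diagTo R M ≫ φ = specMap R (f : _ →ₐ[R] _) ≫ diagTo R N := by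
    rw [hf]
    simp
  rw [h2, specMap_diagTo]
  congr 1
  exact MonoidHom.ext fun n => (hy n).symm

end Groth.Agent.Sga3B.Parab.DSHom
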