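import Groth.Agent.Sga3B.Parab.Rep998
import Groth.Agent.Sga3B.Parab.Dyn998

/-!
# Existence and uniqueness of `P_G(λ)`, `U_G(λ)`, `Z_G(λ)` for affine groups over a scheme
-/

set_option autoImplicit false
set_option linter.unusedSectionVars false

universe u

open CategoryTheory MonoidalCategory CartesianMonoidalCategory MonObj GrpObj AlgebraicGeometry Limits
open scoped LaurentPolynomial Polynomial TensorProduct
open WithConv
open Groth.Agent.Books.AffBridge Groth.Agent.Books.DynBasic Groth.Agent.Books.DynLim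
open Groth.Agent.Sga3B.Parab.Chart998 Groth.Agent.Sga3B.Parab.AffPts998
open Groth.Agent.Sga3B.Parab.Rep998 Groth.Agent.Sga3B.Parab.Dyn998

namespace Groth.Agent.Sga3B.Parab.DynExist998

variable {S : Scheme.{u}}

section Sec

variable {C : Type u} [CommRing C] {c : Spec (CommRingCat.of C) ⟶ S}

/-- every point of `𝔾_m` is `T` at a section of `Spec C[T;T⁻¹] ⟶ Spec C` -/
lemma exists_section (h : aff C c ⟶ Red.Gm S) :
    ∃ s : aff C c ⟶ gmo C c, s ≫ gmPr C c = 𝟙 _ ∧ s ≫ tPt C c = h := by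
  let χ' : Multiplicative ℤ →* Γ((aff C c).left, ⊤) := DSPts.dsChar h
  let χ : Multiplicative ℤ →* C :=
    ((Scheme.ΓSpecIso (CommRingCat.of C)).hom.hom.toMonoidHom).comp χ'
  have hχ : secChar c χ = χ' := by
    refine MonoidHom.ext fun n => ?_
    change (Scheme.ΓSpecIso (CommRingCat.of C)).inv.hom
      ((Scheme.ΓSpecIso (CommRingCat.of C)).hom.hom (χ' n)) = χ' n
    rw [← CommRingCat.comp_apply, Iso.hom_inv_id]
    rfl
  let v : Cˣ := ⟨χ (Multiplicative.ofAdd 1), χ (Multiplicative.ofAdd (-1)), by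
    rw [← map_mul, ← ofAdd_add]; exact map_one χ, by rw [← map_mul, ← ofAdd_add]; exact map_one χ⟩
  have hv : ∀ n : ℤ, ((v ^ n : Cˣ) : C) = χ (Multiplicative.ofAdd n) := by
    intro n
    have h1 : (v : Cˣ) = χ.toHomUnits (Multiplicative.ofAdd 1) := by
      ext1
      rfl
    rw [h1, ← map_zpow, ← ofAdd_zsmul]
    simp
  let s : aff C c ⟶ gmo C c :=
    Over.homMk (Spec.map (CommRingCat.ofHom (evU C v).toRingHom)) (by
      change Spec.map _ ≫ Spec.map _ ≫ c = c
      rw [← Category.assoc, ← Spec.map_comp, ← CommRingCat.ofHom_comp]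
      have : (evU C v).toRingHom.comp (algebraMap C C[T;T⁻¹]) = RingHom.id C :=
        (evU C v).comp_algebraMap
      rw [this]
      change Spec.map (𝟙 _) ≫ c = c
      rw [Spec.map_id, Category.id_comp])
  refine ⟨s, ?_, ?_⟩
  · ext1
    change Spec.map _ ≫ Spec.map _ = 𝟙 _
    rw [← Spec.map_comp, ← CommRingCat.ofHom_comp]
    have : (evU C v).toRingHom.comp (algebraMap C C[T;T⁻¹]) = RingHom.id C :=
      (evU C v).comp_algebraMap
    rw [this]
    exact Spec.map_id _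
  · rw [comp_tPt s (evU C v).toRingHom rfl χ (fun n => ?_), hχ, DSPts.dsEquiv_dsChar]
    change evU C v (LaurentPolynomial.T n) = _
    rw [evU_T, hv]

/-- morphisms out of `𝔾_m` can be compared on the points `T` -/
lemma gm_hom_ext {X : Over S} {a b : Red.Gm S ⟶ X}
    (h : ∀ (C : Type u) [CommRing C] (c : Spec (CommRingCat.of C) ⟶ S),
      tPt C c ≫ a = tPt C c ≫ b) : a = b := by
  apply hom_ext_aff
  intro C _ c x
  obtain ⟨s, -, rfl⟩ := exists_section x
  rw [Category.assoc, Category.assoc, h]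

end Sec

section BcId

variable (G : Over S)

/-- the base change along the identity -/
noncomputable def bcId : Red.bc (𝟙 S) G ≅ G :=
  Over.isoMk (asIso (pullback.fst G.hom (𝟙 S))) (by
    change pullback.fst G.hom (𝟙 S) ≫ G.hom = pullback.snd G.hom (𝟙 S)
    rw [pullback.condition, Category.comp_id])

variable {G} [GrpObj G]

lemma comp_bcId_hom {T : Over S} (x : T ⟶ Red.bc (𝟙 S) G) : x ≫ (bcId G).hom =
    (Over.isoMk (Iso.refl T.left) (by
      change 𝟙 _ ≫ T.hom ≫ 𝟙 _ = T.hom; simp) : T ≅ (Over.map (𝟙 S)).obj T).hom ≫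
      (DSPts.bcEquiv (𝟙 S) T G).symm x := by
  ext1
  change x.left ≫ pullback.fst G.hom (𝟙 S) = 𝟙 _ ≫ ((DSPts.bcEquiv (𝟙 S) T G).symm x).left
  rw [Category.id_comp, DSPts.bcEquiv_symm_left]

instance : IsMonHom (bcId G).hom := by
  apply Pts.isMonHom_of_points
  intro X x y
  rw [comp_bcId_hom, comp_bcId_hom, comp_bcId_hom, map_mul, MonObj.comp_mul]

end BcId

section ChartId

variable {R : Type u} [CommRing R] {A : Type u} [CommRing A] [HopfAlgebra R A]
variable {G : Over (Spec (CommRingCat.of R))} [GrpObj G]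

/-- a global chart over an affine base -/
noncomputable def chartId (e : G ≅ SpecOver R A) :
    Red.bc (𝟙 (Spec (CommRingCat.of R))) G ≅ SpecOver R A := bcId G ≪≫ e

instance (e : G ≅ SpecOver R A) [IsMonHom e.hom] : IsMonHom (chartId e).hom := by
  change IsMonHom ((bcId G).hom ≫ e.hom)
  infer_instance

/-- the points in the global chart -/
lemma pt_chartId (e : G ≅ SpecOver R A) [IsMonHom e.hom] {C : Type u} [CommRing C] [Algebra R C]
    (g : A →ₐ[R] C) :
    pt (chartId e) (c := Spec.map (CommRingCat.ofHom (algebraMap R C))) (Category.comp_id _) g =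
      specMap R g ≫ e.inv := by
  have h1 : (bcId G).inv.left ≫ pullback.fst G.hom (𝟙 (Spec (CommRingCat.of R))) = 𝟙 _ := by
    have : (bcId G).inv ≫ (bcId G).hom = 𝟙 _ := Iso.inv_hom_id _
    exact congrArg (fun z => z.left) this
  ext1
  rw [pt, Over.comp_left, DSPts.bcEquiv_symm_left]
  change 𝟙 _ ≫ ((specMap R g ≫ e.inv ≫ (bcId G).inv).left ≫ _) = _
  rw [Category.id_comp, Over.comp_left, Over.comp_left, Category.assoc, Category.assoc, h1,
    Category.comp_id, Over.comp_left]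

/-- homomorphisms from `𝔾_m` to an affine group over an affine base are determined by the
associated algebra maps -/
lemma hom_ext_lamAlg (e : Red.bc (𝟙 (Spec (CommRingCat.of R))) G ≅ SpecOver R A) [IsMonHom e.hom]
    {l l' : Red.Gm (Spec (CommRingCat.of R)) ⟶ G} (h : lamAlg l e = lamAlg l' e) : l = l' := by
  apply gm_hom_ext
  intro C _ c
  let x : aff C c ⟶ aff R (𝟙 (Spec (CommRingCat.of R))) := Over.homMk c (Category.comp_id _)
  rw [← mapG_tPt x, Category.assoc, Category.assoc, ← pt_lamAlg l e, ← pt_lamAlg l' e, h]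

lemma hom_ext_lamB (e : Red.bc (𝟙 (Spec (CommRingCat.of R))) G ≅ SpecOver R A) [IsMonHom e.hom]
    {l l' : Red.Gm (Spec (CommRingCat.of R)) ⟶ G} [IsMonHom l] [IsMonHom l']
    (h : lamB l e = lamB l' e) : l = l' := by
  apply hom_ext_lamAlg e
  rw [← lamB_coe, ← lamB_coe, h]

end ChartId

section JZ

variable {R : Type u} [CommRing R] {A : Type u} [CommRing A] [HopfAlgebra R A]
variable (l : A →ₐc[R] R[T;T⁻¹])

/-- the ideal of the subgroup `Z_G(λ)` -/
noncomputable def JZ : Ideal A := Ideal.span {a | ∃ n ≠ 0, a ∈ gr l n}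

lemma vanish_JZ_iff {C : Type u} [CommRing C] [Algebra R C] (g : A →ₐ[R] C) :
    (∀ a ∈ JZ l, g a = 0) ↔ Centralizes l (toConv g) := by
  rw [centralizes_iff]
  constructor
  · intro h n hn a
    exact h _ (Ideal.subset_span ⟨n, hn, pr_mem_gr l n a⟩)
  · intro h a ha
    have : JZ l ≤ RingHom.ker g := by
      rw [JZ, Ideal.span_le]
      rintro x ⟨n, hn, hx⟩
      change g x = 0
      rw [← pr_of_mem_same l hx]
      exact h n hn x
    exact this ha

end JZ

section Exist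

variable {G : Over S} [GrpObj G] (lam : Red.Gm S ⟶ G) [IsMonHom lam]

lemma orbConst_pt_iff {R : Type u} [CommRing R] {r : Spec (CommRingCat.of R) ⟶ S}
    {A : Type u} [CommRing A] [HopfAlgebra R A] (e : Red.bc r G ≅ SpecOver R A) [IsMonHom e.hom]
    {C : Type u} [CommRing C] [Algebra R C] {c : Spec (CommRingCat.of C) ⟶ S}
    (hc : Spec.map (CommRingCat.ofHom (algebraMap R C)) ≫ r = c) (g : A →ₐ[R] C) :
    OrbConst lam (pt e hc g) ↔ ∀ a ∈ JZ (lamB lam e), g a = 0 := by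
  rw [orbConst_pt, vanish_JZ_iff]

lemma idealCond_limEx : IdealCond (G := G) (fun _ _ _ g => LimEx lam g) :=
  fun _ _ _ _ _ _ e _ => ⟨JP (lamB lam e), fun _ _ _ _ hc g => limEx_pt_iff lam e hc g⟩

lemma idealCond_limOne : IdealCond (G := G) (fun _ _ _ g => LimOne lam g) :=
  fun _ _ _ _ _ _ e _ => ⟨JU (lamB lam e), fun _ _ _ _ hc g => limOne_pt_iff lam e hc g⟩

lemma idealCond_orbConst : IdealCond (G := G) (fun _ _ _ g => OrbConst lam g) :=
  fun _ _ _ _ _ _ e _ => ⟨JZ (lamB lam e), fun _ _ _ _ hc g => orbConst_pt_iff lam e hc g⟩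

variable [IsAffineHom G.hom]

/-- **Existence of `P_G(λ)`.** -/
theorem exists_isDynP : ∃ (P : Over S) (_ : GrpObj P) (p : P ⟶ G),
    IsDynP lam p ∧ IsClosedImmersion p.left := by
  obtain ⟨P, i, p, h1, h2, h3, h4⟩ := exists_subgroup (idealCond_limEx lam)
    (fun _ _ _ => limEx_one lam) (fun _ _ _ _ _ => LimEx.mul) (fun _ _ _ _ => LimEx.inv)
  exact ⟨P, i, p, ⟨h1, h2, h4⟩, h3⟩

/-- **Existence of `U_G(λ)`.** -/
theorem exists_isDynU : ∃ (P : Over S) (_ : GrpObj P) (p : P ⟶ G),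
    IsDynU lam p ∧ IsClosedImmersion p.left := by
  obtain ⟨P, i, p, h1, h2, h3, h4⟩ := exists_subgroup (idealCond_limOne lam)
    (fun _ _ _ => limOne_one lam) (fun _ _ _ _ _ => LimOne.mul) (fun _ _ _ _ => LimOne.inv)
  exact ⟨P, i, p, ⟨h1, h2, h4⟩, h3⟩

/-- **Existence of `Z_G(λ)`.** -/
theorem exists_isDynZ : ∃ (P : Over S) (_ : GrpObj P) (p : P ⟶ G),
    IsDynZ lam p ∧ IsClosedImmersion p.left := by
  obtain ⟨P, i, p, h1, h2, h3, h4⟩ := exists_subgroup (idealCond_orbConst lam)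
    (fun _ _ _ => orbConst_one lam) (fun _ _ _ _ _ => OrbConst.mul) (fun _ _ _ _ => OrbConst.inv)
  exact ⟨P, i, p, ⟨h1, h2, h4⟩, h3⟩

end Exist

section Unique

variable {G : Over S} [GrpObj G]

/-- two subgroups with the same points are isomorphic -/
lemma exists_iso_of_pts {P P' : Over S} [GrpObj P] [GrpObj P'] {p : P ⟶ G} {p' : P' ⟶ G}
    [IsMonHom p] [Mono p] [IsMonHom p'] [Mono p'] (F : ∀ X : Over S, (X ⟶ G) → Prop)
    (h : ∀ (X : Over S) (g : X ⟶ G), (∃ x : X ⟶ P, x ≫ p = g) ↔ F X g)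
    (h' : ∀ (X : Over S) (g : X ⟶ G), (∃ x : X ⟶ P', x ≫ p' = g) ↔ F X g) :
    ∃ φ : P ≅ P', IsMonHom φ.hom ∧ φ.hom ≫ p' = p := by
  obtain ⟨a, ha⟩ := (h' P p).2 ((h P p).1 ⟨𝟙 _, Category.id_comp _⟩)
  obtain ⟨b, hb⟩ := (h P' p').2 ((h' P' p').1 ⟨𝟙 _, Category.id_comp _⟩)
  refine ⟨⟨a, b, ?_, ?_⟩, ?_, ha⟩
  · rw [← cancel_mono p, Category.assoc, hb, ha, Category.id_comp]
  · rw [← cancel_mono p', Category.assoc, ha, hb, Category.id_comp]
  · apply Pts.isMonHom_of_points
    intro X x y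
    change (x * y) ≫ a = (x ≫ a) * (y ≫ a)
    rw [← cancel_mono p', Category.assoc, ha, MonObj.mul_comp, MonObj.mul_comp, Category.assoc,
      Category.assoc, ha]

variable {lam : Red.Gm S ⟶ G}

lemma _root_.Groth.Agent.Sga3B.Parab.IsDynP.exists_iso {P P' : Over S} [GrpObj P] [GrpObj P']
    {p : P ⟶ G} {p' : P' ⟶ G} (h : IsDynP lam p) (h' : IsDynP lam p') :
    ∃ φ : P ≅ P', IsMonHom φ.hom ∧ φ.hom ≫ p' = p := by
  have := h.isMonHom
  have := h.mono
  have := h'.isMonHom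
  have := h'.mono
  exact exists_iso_of_pts _ h.iff_ptP h'.iff_ptP

lemma _root_.Groth.Agent.Sga3B.Parab.IsDynU.exists_iso {P P' : Over S} [GrpObj P] [GrpObj P']
    {p : P ⟶ G} {p' : P' ⟶ G} (h : IsDynU lam p) (h' : IsDynU lam p') :
    ∃ φ : P ≅ P', IsMonHom φ.hom ∧ φ.hom ≫ p' = p := by
  have := h.isMonHom
  have := h.mono
  have := h'.isMonHom
  have := h'.mono
  exact exists_iso_of_pts _ h.iff_ptU h'.iff_ptU

lemma _root_.Groth.Agent.Sga3B.Parab.IsDynZ.exists_iso {P P' : Over S} [GrpObj P] [GrpObj P']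
    {p : P ⟶ G} {p' : P' ⟶ G} (h : IsDynZ lam p) (h' : IsDynZ lam p') :
    ∃ φ : P ≅ P', IsMonHom φ.hom ∧ φ.hom ≫ p' = p := by
  have := h.isMonHom
  have := h.mono
  have := h'.isMonHom
  have := h'.mono
  exact exists_iso_of_pts _ h.iff_ptZ h'.iff_ptZ

lemma isClosedImmersion_of_iso {P P' : Over S} {p : P ⟶ G} {p' : P' ⟶ G} (φ : P ≅ P')
    (h : φ.hom ≫ p' = p) (hp' : IsClosedImmersion p'.left) : IsClosedImmersion p.left := by
  have : IsIso φ.hom.left := (Over.forget S).map_isIso φ.hom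
  rw [← h, Over.comp_left]
  exact MorphismProperty.comp_mem _ _ _ (inferInstance : IsClosedImmersion φ.hom.left) hp'

variable [IsMonHom lam] [IsAffineHom G.hom]

lemma _root_.Groth.Agent.Sga3B.Parab.IsDynP.isClosedImmersion {P : Over S} [GrpObj P] {p : P ⟶ G}
    (h : IsDynP lam p) : IsClosedImmersion p.left := by
  obtain ⟨P', _, p', h', hc⟩ := exists_isDynP lam
  obtain ⟨φ, -, hφ⟩ := h.exists_iso h'
  exact isClosedImmersion_of_iso φ hφ hc

lemma _root_.Groth.Agent.Sga3B.Parab.IsDynU.isClosedImmersion {P : Over S} [GrpObj P] {p : P ⟶ G}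
    (h : IsDynU lam p) : IsClosedImmersion p.left := by
  obtain ⟨P', _, p', h', hc⟩ := exists_isDynU lam
  obtain ⟨φ, -, hφ⟩ := h.exists_iso h'
  exact isClosedImmersion_of_iso φ hφ hc

lemma _root_.Groth.Agent.Sga3B.Parab.IsDynZ.isClosedImmersion {P : Over S} [GrpObj P] {p : P ⟶ G}
    (h : IsDynZ lam p) : IsClosedImmersion p.left := by
  obtain ⟨P', _, p', h', hc⟩ := exists_isDynZ lam
  obtain ⟨φ, -, hφ⟩ := h.exists_iso h'
  exact isClosedImmersion_of_iso φ hφ hc

end Unique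

section Centralizer

variable {G : Over S} [GrpObj G] {lam : Red.Gm S ⟶ G}

/-- a point belongs to `Z_G(λ)` iff it centralizes `λ` -/
lemma ptZ_iff_centralizes {X : Over S} (g : X ⟶ G) : PtZ lam g ↔
    ∀ (X' : Over S) (x : X' ⟶ X) (h : X' ⟶ Red.Gm S),
      (x ≫ g) * (h ≫ lam) = (h ≫ lam) * (x ≫ g) := by
  constructor
  · intro hg X' x h
    apply hom_ext_aff
    intro C _ c y
    rw [MonObj.comp_mul, MonObj.comp_mul]
    obtain ⟨s, hs, hs'⟩ := exists_section (y ≫ h)
    have h1 : OrbConst lam ((y ≫ x) ≫ g) := hg C c (y ≫ x)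
    have h2 := congrArg (fun z => s ≫ z) h1
    simp only [orb, MonObj.comp_mul, GrpObj.comp_inv] at h2
    rw [← Category.assoc s, ← Category.assoc s, hs, hs', Category.id_comp, Category.assoc,
      Category.assoc, mul_inv_eq_iff_eq_mul] at h2
    exact h2.symm
  · intro hg C _ c x
    have h1 := hg (gmo C c) (gmPr C c ≫ x) (tPt C c)
    rw [OrbConst, orb, ← Category.assoc, ← h1, mul_inv_cancel_right]

/-- **`Z_G(λ)` is the centralizer of `λ`.** -/
theorem isDynZ_iff {Z : Over S} [GrpObj Z] (j : Z ⟶ G) :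
    IsDynZ lam j ↔ Red.IsCentralizerOf lam j := by
  constructor
  · intro h
    exact ⟨h.isMonHom, h.mono, fun X g => (h.iff_ptZ X g).trans (ptZ_iff_centralizes g)⟩
  · rintro ⟨h1, h2, h3⟩
    exact ⟨h1, h2, fun X g => (h3 X g).trans (ptZ_iff_centralizes g).symm⟩

end Centralizer

section Limits

variable {G : Over S} [GrpObj G] [IsAffineHom G.hom]
variable {C : Type u} [CommRing C] {c : Spec (CommRingCat.of C) ⟶ S}

/-- limits are unique -/
lemma eq_of_toLin {h h' : lin C c ⟶ G} (hh : toLin C c ≫ h = toLin C c ≫ h') : h = h' := by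
  obtain ⟨A, _, _, e, _⟩ := exists_chart (G := G) c
  obtain ⟨a, rfl⟩ := (pt_bijective e (hcP (hcR (r := c)))).2 h
  obtain ⟨b, rfl⟩ := (pt_bijective e (hcP (hcR (r := c)))).2 h'
  rw [toLin_pt e (hcR (r := c)), toLin_pt e (hcR (r := c))] at hh
  have h1 := (pt_bijective e (hcL (hcR (r := c)))).1 hh
  congr 1
  refine AlgHom.ext fun x => ?_
  exact Polynomial.toLaurent_injective (DFunLike.congr_fun h1 x)

variable {lam : Red.Gm S ⟶ G}

lemma _root_.Groth.Agent.Sga3B.Parab.LimOne.eq_one {g : aff C c ⟶ G} (h : LimOne lam g)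
    (h' : OrbConst lam g) : g = 1 := by
  obtain ⟨l, hl, h0⟩ := h
  have h1 : l = linPr C c ≫ g := eq_of_toLin (by rw [hl, h', toLin_linPr_assoc])
  rw [h1, zeroSec_linPr_assoc] at h0
  exact h0

end Limits

end Groth.Agent.Sga3B.Parab.DynExist998
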