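import Groth.Prelude.Def_Red
import Groth.Agent.Sga3B.Pts
import Groth.Agent.Sga3B.BcPts
import Groth.Agent.Sga3C.SubGrp

/-!
# Intersections of subgroup schemes
-/

set_option autoImplicit false
set_option linter.unusedSectionVars false

universe u

open CategoryTheory MonoidalCategory CartesianMonoidalCategory MonObj GrpObj Limits AlgebraicGeometry

namespace Groth.Agent.Sga3B.Parab.Inter

variable {S : Scheme.{u}} {P L V : Over S} [GrpObj P] [GrpObj L] [GrpObj V]

/-- The intersection of two subgroups. -/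
theorem exists_inter (v : V ⟶ P) (l : L ⟶ P) [IsMonHom v] [IsMonHom l] [Mono v] [Mono l] :
    ∃ (N : Over S) (_ : GrpObj N) (a : N ⟶ V) (b : N ⟶ L), IsMonHom a ∧ IsMonHom b ∧
      IsPullback a b v l := by
  have hp : IsPullback (pullback.fst v l) (pullback.snd v l) v l := IsPullback.of_hasPullback v l
  obtain ⟨inst, hm⟩ := Sga3C.SubGrp.exists_grpObj_of_mono (pullback.snd v l)
    (by
      let m : pullback v l ⊗ pullback v l ⟶ pullback v l := pullback.lift
        ((pullback.fst v l ⊗ₘ pullback.fst v l) ≫ μ[V]) ((pullback.snd v l ⊗ₘ pullback.snd v l) ≫ μ[L])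
        (by
          rw [Category.assoc, Category.assoc, IsMonHom.mul_hom, IsMonHom.mul_hom,
            tensorHom_comp_tensorHom_assoc, tensorHom_comp_tensorHom_assoc, hp.w])
      exact ⟨m, pullback.lift_snd _ _ _⟩)
    (by
      exact ⟨pullback.lift η[V] η[L] (by rw [IsMonHom.one_hom, IsMonHom.one_hom]),
        pullback.lift_snd _ _ _⟩)
    (by
      refine ⟨pullback.lift (pullback.fst v l ≫ ι[V]) (pullback.snd v l ≫ ι[L]) ?_,
        pullback.lift_snd _ _ _⟩
      rw [Category.assoc, Category.assoc, GrpObj.inv_hom, GrpObj.inv_hom, ← Category.assoc,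
        hp.w, Category.assoc])
  refine ⟨pullback v l, inst, pullback.fst v l, pullback.snd v l, ?_, hm, hp⟩
  have : IsMonHom (pullback.fst v l ≫ v) := by
    rw [hp.w]
    infer_instance
  exact Sga3C.SubGrp.isMonHom_of_comp_mono (pullback.fst v l) v

/-- The base change of a cartesian square of `S`-schemes. -/
lemma isPullback_bc {S' : Scheme.{u}} (f : S' ⟶ S) {N V L P : Over S} {a : N ⟶ V} {b : N ⟶ L}
    {v : V ⟶ P} {l : L ⟶ P} (h : IsPullback a b v l) :
    IsPullback ((Over.pullback f).map a) ((Over.pullback f).map b) ((Over.pullback f).map v)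
      ((Over.pullback f).map l) :=
  h.map _

/-- Normality is stable under base change. -/
lemma isNormalHom_bc {S' : Scheme.{u}} (f : S' ⟶ S) (v : V ⟶ P) (h : AlgGrp.IsNormalHom v) :
    AlgGrp.IsNormalHom ((Over.pullback f).map v) := by
  intro T g n
  obtain ⟨n', hn'⟩ := h _ ((BcPts.bcEquiv f T P).symm g) ((BcPts.bcEquiv f T V).symm n)
  refine ⟨BcPts.bcEquiv f T V n', ?_⟩
  rw [← BcPts.bcEquiv_comp, ← hn']
  have hi : BcPts.bcEquiv f T P ((BcPts.bcEquiv f T P).symm g)⁻¹ = g⁻¹ := by
    have := map_inv (BcPts.bcMulEquiv f T P) ((BcPts.bcEquiv f T P).symm g)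
    refine this.trans ?_
    congr 1
    exact Equiv.apply_symm_apply _ _
  rw [BcPts.bcEquiv_mul, BcPts.bcEquiv_mul, Equiv.apply_symm_apply, hi, BcPts.bcEquiv_comp,
    Equiv.apply_symm_apply]

/-- Base change of a closed immersion over `S`. -/
lemma isClosedImmersion_bc {S' : Scheme.{u}} (f : S' ⟶ S) {Z Y : Over S} (i : Z ⟶ Y)
    (h : IsClosedImmersion i.left) : IsClosedImmersion ((Over.pullback f).map i).left := by
  have hw : i.left ≫ Y.hom = Z.hom := Over.w i
  have h2 : IsPullback (pullback.fst Z.hom f) (pullback.snd Z.hom f) (i.left ≫ Y.hom) f := by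
    rw [hw]
    exact IsPullback.of_hasPullback Z.hom f
  have h1 : pullback.fst Z.hom f ≫ i.left =
      ((Over.pullback f).map i).left ≫ pullback.fst Y.hom f :=
    (pullback.lift_fst _ _ _).symm
  have h3 : ((Over.pullback f).map i).left ≫ pullback.snd Y.hom f = pullback.snd Z.hom f :=
    pullback.lift_snd _ _ _
  have h4 : IsPullback (pullback.fst Z.hom f) ((Over.pullback f).map i).left i.left
      (pullback.fst Y.hom f) := by
    refine IsPullback.of_bot (h₂₁ := pullback.fst Y.hom f) (v₂₁ := pullback.snd Y.hom f)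
      (v₂₂ := Y.hom) (h₃₁ := f) ?_ h1 (IsPullback.of_hasPullback Y.hom f)
    rw [h3]
    exact h2
  exact MorphismProperty.of_isPullback h4 h

lemma hasNoSubtorus_of_mono {K : Type u} [Field K] {N V : Over (Spec (CommRingCat.of K))} [GrpObj N]
    [GrpObj V] (a : N ⟶ V) [IsMonHom a] [Mono a] (h : Red.HasNoSubtorus K V) :
    Red.HasNoSubtorus K N := by
  intro T _ j _ _ hT
  exact h T (j ≫ a) hT

end Groth.Agent.Sga3B.Parab.Inter
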