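import Groth.Agent.Sga3B.Parab.DynExist998
import Groth.Prelude.Def_AlgGrp

/-!
# The Levi decomposition `P_G(λ) = Z_G(λ) ⋉ U_G(λ)` over a scheme
-/

set_option autoImplicit false
set_option linter.unusedSectionVars false

universe u

open CategoryTheory MonoidalCategory CartesianMonoidalCategory MonObj GrpObj AlgebraicGeometry Limits
open scoped LaurentPolynomial Polynomial TensorProduct
open WithConv
open Groth.Agent.Books.AffBridge Groth.Agent.Books.DynBasic Groth.Agent.Books.DynLim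
open Groth.Agent.Sga3B.Parab.Chart998 Groth.Agent.Sga3B.Parab.AffPts998
open Groth.Agent.Sga3B.Parab.Rep998 Groth.Agent.Sga3B.Parab.Dyn998
open Groth.Agent.Sga3B.Parab.DynExist998

namespace Groth.Agent.Sga3B.Parab.DynLevi998

variable {S : Scheme.{u}} {G : Over S} [GrpObj G] {lam : Red.Gm S ⟶ G}

section Pts

variable {C : Type u} [CommRing C] {c : Spec (CommRingCat.of C) ⟶ S}
variable [IsMonHom lam] [IsAffineHom G.hom]

lemma _root_.Groth.Agent.Sga3B.Parab.LimEx.exists_levi {g : aff C c ⟶ G} (hg : LimEx lam g) :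
    ∃ z u : aff C c ⟶ G, OrbConst lam z ∧ LimOne lam u ∧ z * u = g := by
  obtain ⟨A, _, _, e, _⟩ := exists_chart (G := G) c
  obtain ⟨g, rfl⟩ := (pt_bijective e (hcR (r := c))).2 g
  rw [limEx_pt] at hg
  obtain ⟨z, u, hz, hu, hzu, -⟩ := levi (lamB lam e) (toConv g) ((mem_PSub _ _).2 hg)
  refine ⟨pt e (hcR (r := c)) z.ofConv, pt e (hcR (r := c)) u.ofConv, ?_, ?_, ?_⟩
  · rw [orbConst_pt]
    exact hz
  · rw [limOne_pt]
    exact (mem_USub _ _).1 hu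
  · rw [← pt_mul, hzu]

lemma levi_unique {z u z' u' : aff C c ⟶ G} (hz : OrbConst lam z) (hu : LimOne lam u)
    (hz' : OrbConst lam z') (hu' : LimOne lam u') (h : z * u = z' * u') : z = z' ∧ u = u' := by
  have h1 : z'⁻¹ * z = u' * u⁻¹ := by
    rw [inv_mul_eq_iff_eq_mul, ← _root_.mul_assoc, ← h, mul_inv_cancel_right]
  have h2 : z'⁻¹ * z = 1 :=
    LimOne.eq_one (by rw [h1]; exact hu'.mul hu.inv) (hz'.inv.mul hz)
  have h3 : z = z' := by rw [← _root_.mul_one z', ← h2, mul_inv_cancel_left]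
  exact ⟨h3, by rw [h3] at h; exact mul_left_cancel h⟩

end Pts

section Sub

variable {P Z U : Over S} [GrpObj P] [GrpObj Z] [GrpObj U]

/-- if the composite with a monomorphic homomorphism is a homomorphism -/
lemma isMonHom_of_comp_mono {u : U ⟶ P} {p : P ⟶ G} [IsMonHom p] [Mono p] [IsMonHom (u ≫ p)] :
    IsMonHom u := by
  apply Pts.isMonHom_of_points
  intro X x y
  rw [← cancel_mono p, Category.assoc, MonObj.mul_comp _ _ (u ≫ p), MonObj.mul_comp _ _ p,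
    Category.assoc, Category.assoc]

lemma _root_.Groth.Agent.Sga3B.Parab.PtZ.ptP {X : Over S} {g : X ⟶ G} (h : PtZ lam g) :
    PtP lam g := fun C _ c x => (h C c x).limEx

lemma _root_.Groth.Agent.Sga3B.Parab.PtU.ptP {X : Over S} {g : X ⟶ G} (h : PtU lam g) :
    PtP lam g := fun C _ c x => (h C c x).limEx

lemma _root_.Groth.Agent.Sga3B.Parab.IsDynP.ptP {p : P ⟶ G} (h : IsDynP lam p) : PtP lam p :=
  (h.iff_ptP _ _).1 ⟨𝟙 _, Category.id_comp _⟩

lemma _root_.Groth.Agent.Sga3B.Parab.IsDynU.ptU {p : P ⟶ G} (h : IsDynU lam p) : PtU lam p :=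
  (h.iff_ptU _ _).1 ⟨𝟙 _, Category.id_comp _⟩

lemma _root_.Groth.Agent.Sga3B.Parab.IsDynZ.ptZ {p : P ⟶ G} (h : IsDynZ lam p) : PtZ lam p :=
  (h.iff_ptZ _ _).1 ⟨𝟙 _, Category.id_comp _⟩

/-- `U_G(λ) ≤ P_G(λ)` -/
lemma exists_uP {p : P ⟶ G} (hp : IsDynP lam p) {u : U ⟶ G} (hu : IsDynU lam u) :
    ∃ u' : U ⟶ P, u' ≫ p = u := (hp.iff_ptP _ _).2 hu.ptU.ptP

/-- `Z_G(λ) ≤ P_G(λ)` -/
lemma exists_zP {p : P ⟶ G} (hp : IsDynP lam p) {z : Z ⟶ G} (hz : IsDynZ lam z) :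
    ∃ z' : Z ⟶ P, z' ≫ p = z := (hp.iff_ptP _ _).2 hz.ptZ.ptP

lemma isMonHom_uP {p : P ⟶ G} (hp : IsDynP lam p) {u : U ⟶ P} (hu : IsDynU lam (u ≫ p)) :
    IsMonHom u := by
  have := hp.isMonHom
  have := hp.mono
  have := hu.isMonHom
  exact isMonHom_of_comp_mono (p := p)

lemma isMonHom_zP {p : P ⟶ G} (hp : IsDynP lam p) {z : Z ⟶ P} (hz : IsDynZ lam (z ≫ p)) :
    IsMonHom z := by
  have := hp.isMonHom
  have := hp.mono
  have := hz.isMonHom
  exact isMonHom_of_comp_mono (p := p)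

lemma comp_mul_tensor {X Z U P : Over S} [GrpObj P] (z : Z ⟶ P) (u : U ⟶ P) (x : X ⟶ Z ⊗ U) :
    x ≫ (z ⊗ₘ u) ≫ μ[P] = (x ≫ fst _ _ ≫ z) * (x ≫ snd _ _ ≫ u) := by
  rw [mul_eq_mul, MonObj.comp_mul, MonObj.comp_mul, tensorHom_fst, tensorHom_snd]

variable [IsMonHom lam] [IsAffineHom G.hom]

/-- **The Levi decomposition.** -/
theorem isIso_levi {p : P ⟶ G} (hp : IsDynP lam p) {z : Z ⟶ P} (hz : IsDynZ lam (z ≫ p))
    {u : U ⟶ P} (hu : IsDynU lam (u ≫ p)) : IsIso ((z ⊗ₘ u) ≫ μ[P]) := by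
  have := hp.isMonHom
  have := hp.mono
  have := hz.mono
  have := hu.mono
  apply isIso_of_aff
  intro C _ c
  constructor
  · intro x y hxy
    change x ≫ (z ⊗ₘ u) ≫ μ[P] = y ≫ (z ⊗ₘ u) ≫ μ[P] at hxy
    rw [comp_mul_tensor, comp_mul_tensor, ← cancel_mono p, MonObj.mul_comp, MonObj.mul_comp] at hxy
    simp only [Category.assoc] at hxy
    have h1 := hz.ptZ C c
    have h2 := hu.ptU C c
    obtain ⟨h3, h4⟩ := levi_unique (lam := lam) (by simpa using h1 (x ≫ fst _ _))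
      (by simpa using h2 (x ≫ snd _ _)) (by simpa using h1 (y ≫ fst _ _))
      (by simpa using h2 (y ≫ snd _ _)) hxy
    apply CartesianMonoidalCategory.hom_ext
    · rw [← cancel_mono (z ≫ p)]
      simpa using h3
    · rw [← cancel_mono (u ≫ p)]
      simpa using h4
  · intro g
    obtain ⟨a, b, ha, hb, hab⟩ := LimEx.exists_levi (lam := lam) (hp.ptP C c g)
    obtain ⟨a', ha'⟩ := (hz.iff_ptZ _ a).2 (ptZ_iff.2 ha)
    obtain ⟨b', hb'⟩ := (hu.iff_ptU _ b).2 (ptU_iff.2 hb)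
    refine ⟨lift a' b', ?_⟩
    change lift a' b' ≫ (z ⊗ₘ u) ≫ μ[P] = g
    rw [comp_mul_tensor, lift_fst_assoc, lift_snd_assoc, ← cancel_mono p, MonObj.mul_comp,
      Category.assoc, Category.assoc, ha', hb', hab]

omit [IsMonHom lam] [IsAffineHom G.hom] in
/-- **`U_G(λ)` is normal in `P_G(λ)`.** -/
theorem isNormalHom_uP {p : P ⟶ G} (hp : IsDynP lam p) {u : U ⟶ P} (hu : IsDynU lam (u ≫ p)) :
    AlgGrp.IsNormalHom u := by
  intro T g n
  have := hp.isMonHom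
  have := hp.mono
  have h1 : PtU lam ((g * (n ≫ u) * g⁻¹) ≫ p) := by
    intro C _ c x
    have h2 := (hu.ptU C c (x ≫ n)).conj (hp.ptP C c (x ≫ g))
    have h3 : x ≫ (g * (n ≫ u) * g⁻¹) ≫ p =
      ((x ≫ g) ≫ p) * ((x ≫ n) ≫ u ≫ p) * ((x ≫ g) ≫ p)⁻¹ := by
      simp only [MonObj.mul_comp, MonObj.comp_mul, GrpObj.inv_comp, GrpObj.comp_inv, Category.assoc]
    rw [h3]
    exact h2
  obtain ⟨n', hn'⟩ := (hu.iff_ptU _ _).2 h1
  exact ⟨n', by rw [← cancel_mono p, Category.assoc, hn']⟩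

end Sub

end Groth.Agent.Sga3B.Parab.DynLevi998
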