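import Groth.Agent.Sga3B.Parab.DynLevi998

/-!
# Functoriality of limits; closed subgroups
-/

set_option autoImplicit false
set_option linter.unusedSectionVars false

universe u

open CategoryTheory MonoidalCategory CartesianMonoidalCategory MonObj GrpObj AlgebraicGeometry Limits
open scoped LaurentPolynomial Polynomial
open Groth.Agent.Sga3B.Parab.Chart998 Groth.Agent.Sga3B.Parab.AffPts998
open Groth.Agent.Sga3B.Parab.Dyn998 Groth.Agent.Sga3B.Parab.DynExist998
open Groth.Agent.Sga3B.Parab.DynLevi998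

namespace Groth.Agent.Sga3B.Parab.DynClosed998

variable {S : Scheme.{u}}

section Lift

variable {C : Type u} [CommRing C] {c : Spec (CommRingCat.of C) ⟶ S}

lemma appTop_toLin_injective : Function.Injective (toLin C c).left.appTop.hom := by
  let φ : CommRingCat.of C[X] ⟶ CommRingCat.of C[T;T⁻¹] :=
    CommRingCat.ofHom (Polynomial.toLaurentAlg (R := C)).toRingHom
  have hφ : Function.Injective φ.hom := Polynomial.toLaurent_injective
  have h := Scheme.ΓSpecIso_inv_naturality φ
  change Function.Injective (Spec.map φ).appTop.hom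
  have h2 : (Spec.map φ).appTop = (Scheme.ΓSpecIso _).hom ≫ φ ≫ (Scheme.ΓSpecIso _).inv := by
    rw [h, Iso.hom_inv_id_assoc]
  rw [h2]
  have h3 : Function.Injective (Scheme.ΓSpecIso (CommRingCat.of C[X])).hom.hom :=
    (ConcreteCategory.bijective_of_isIso (Scheme.ΓSpecIso (CommRingCat.of C[X])).hom).1
  have h4 : Function.Injective (Scheme.ΓSpecIso (CommRingCat.of C[T;T⁻¹])).inv.hom :=
    (ConcreteCategory.bijective_of_isIso (Scheme.ΓSpecIso (CommRingCat.of C[T;T⁻¹])).inv).1
  exact h4.comp (hφ.comp h3)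

/-- a morphism from `Spec C[T]` factors through a closed immersion as soon as its restriction to
`Spec C[T;T⁻¹]` does -/
lemma exists_lift_of_toLin {H G : Over S} (i : H ⟶ G) [IsClosedImmersion i.left]
    (h : lin C c ⟶ G) (k : gmo C c ⟶ H) (hk : toLin C c ≫ h = k ≫ i) :
    ∃ h' : lin C c ⟶ H, h' ≫ i = h := by
  have hk' : (toLin C c).left ≫ h.left = k.left ≫ i.left := congrArg (fun z => z.left) hk
  let σ : (gmo C c).left ⟶ pullback i.left h.left := pullback.lift k.left (toLin C c).left hk'.symm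
  have hσ : σ ≫ pullback.snd i.left h.left = (toLin C c).left := pullback.lift_snd _ _ _
  have hinj : Function.Injective (pullback.snd i.left h.left).appTop.hom := by
    have h1 := appTop_toLin_injective (c := c)
    rw [← hσ, Scheme.Hom.comp_appTop] at h1
    exact Function.Injective.of_comp (f := σ.appTop.hom) h1
  have haff : IsAffine (lin C c).left := inferInstanceAs (IsAffine (Spec (CommRingCat.of C[X])))
  have : IsIso (pullback.snd i.left h.left) := IsClosedImmersion.isIso_of_injective_of_isAffine hinj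
  let h' : (lin C c).left ⟶ H.left := inv (pullback.snd i.left h.left) ≫ pullback.fst i.left h.left
  have hh' : h' ≫ i.left = h.left := by
    rw [Category.assoc, pullback.condition, IsIso.inv_hom_id_assoc]
  refine ⟨Over.homMk h' ?_, ?_⟩
  · rw [← Over.w i, ← Category.assoc, hh', Over.w]
  · ext1
    exact hh'

end Lift

section Fun

variable {H G : Over S} [GrpObj H] [GrpObj G] {i : H ⟶ G} [IsMonHom i] {mu : Red.Gm S ⟶ H}
variable {C : Type u} [CommRing C] {c : Spec (CommRingCat.of C) ⟶ S}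

lemma orb_comp (g : aff C c ⟶ H) : orb (mu ≫ i) (g ≫ i) = orb mu g ≫ i := by
  rw [orb, orb, MonObj.mul_comp, MonObj.mul_comp, GrpObj.inv_comp]
  simp only [Category.assoc]

lemma limEx_map {g : aff C c ⟶ H} (h : LimEx mu g) :
    LimEx (mu ≫ i) (g ≫ i) := by
  obtain ⟨l, hl⟩ := h
  exact ⟨l ≫ i, by rw [← Category.assoc, hl, orb_comp]⟩

lemma limOne_map {g : aff C c ⟶ H} (h : LimOne mu g) :
    LimOne (mu ≫ i) (g ≫ i) := by
  obtain ⟨l, hl, h0⟩ := h
  exact ⟨l ≫ i, by rw [← Category.assoc, hl, orb_comp], by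
    rw [← Category.assoc, h0, MonObj.one_comp]⟩

lemma orbConst_map {g : aff C c ⟶ H} (h : OrbConst mu g) :
    OrbConst (mu ≫ i) (g ≫ i) := by
  rw [OrbConst, orb_comp, h, Category.assoc]

lemma orbConst_comp_iff [Mono i] (g : aff C c ⟶ H) : OrbConst (mu ≫ i) (g ≫ i) ↔ OrbConst mu g := by
  refine ⟨fun h => ?_, orbConst_map⟩
  rw [OrbConst, orb_comp, ← Category.assoc] at h
  exact (cancel_mono i).1 h

lemma mono_of_isClosedImmersion {X Y : Over S} (i : X ⟶ Y) [IsClosedImmersion i.left] : Mono i :=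
  Over.mono_of_mono_left i

lemma limEx_comp_iff [IsClosedImmersion i.left] (g : aff C c ⟶ H) :
    LimEx (mu ≫ i) (g ≫ i) ↔ LimEx mu g := by
  refine ⟨?_, limEx_map⟩
  have := mono_of_isClosedImmersion i
  rintro ⟨l, hl⟩
  rw [orb_comp] at hl
  obtain ⟨l, rfl⟩ := exists_lift_of_toLin i l _ hl
  exact ⟨l, by rw [← cancel_mono i, Category.assoc, hl]⟩

lemma limOne_comp_iff [IsClosedImmersion i.left] (g : aff C c ⟶ H) :
    LimOne (mu ≫ i) (g ≫ i) ↔ LimOne mu g := by
  refine ⟨?_, limOne_map⟩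
  have := mono_of_isClosedImmersion i
  rintro ⟨l, hl, h0⟩
  rw [orb_comp] at hl
  obtain ⟨l, rfl⟩ := exists_lift_of_toLin i l _ hl
  refine ⟨l, by rw [← cancel_mono i, Category.assoc, hl], ?_⟩
  rw [← cancel_mono i, Category.assoc, h0, MonObj.one_comp]

lemma ptZ_comp_iff [Mono i] {X : Over S} (g : X ⟶ H) : PtZ (mu ≫ i) (g ≫ i) ↔ PtZ mu g := by
  refine forall_congr' fun C => forall_congr' fun _ => forall_congr' fun c =>
    forall_congr' fun x => ?_
  rw [← Category.assoc, orbConst_comp_iff]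

lemma ptP_comp_iff [IsClosedImmersion i.left] {X : Over S} (g : X ⟶ H) :
    PtP (mu ≫ i) (g ≫ i) ↔ PtP mu g := by
  refine forall_congr' fun C => forall_congr' fun _ => forall_congr' fun c =>
    forall_congr' fun x => ?_
  rw [← Category.assoc, limEx_comp_iff]

lemma ptU_comp_iff [IsClosedImmersion i.left] {X : Over S} (g : X ⟶ H) :
    PtU (mu ≫ i) (g ≫ i) ↔ PtU mu g := by
  refine forall_congr' fun C => forall_congr' fun _ => forall_congr' fun c =>
    forall_congr' fun x => ?_
  rw [← Category.assoc, limOne_comp_iff]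

end Fun

section LamP

variable {G : Over S} [GrpObj G] {lam : Red.Gm S ⟶ G} [IsMonHom lam]
variable {P U Z : Over S} [GrpObj P] [GrpObj U] [GrpObj Z]

/-- the torus `𝔾_m` is commutative -/
lemma gm_comm {X : Over S} (x y : X ⟶ Red.Gm S) : x * y = y * x := by
  have h1 := DSPts.dsEquiv_dsChar (x * y)
  have h2 := DSPts.dsEquiv_dsChar (y * x)
  rw [← h1, ← h2, DSPts.dsChar_mul, DSPts.dsChar_mul, _root_.mul_comm]

lemma ptZ_self : PtZ lam lam := by
  rw [ptZ_iff_centralizes]
  intro X' x h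
  have h1 := MonObj.mul_comp x h lam
  have h2 := MonObj.mul_comp h x lam
  rw [← h1, gm_comm, h2]

/-- `λ` factors through `P_G(λ)` -/
lemma exists_lamP {p : P ⟶ G} (hp : IsDynP lam p) : ∃ mu : Red.Gm S ⟶ P, IsMonHom mu ∧ mu ≫ p = lam := by
  obtain ⟨mu, rfl⟩ := (hp.iff_ptP _ _).2 (ptZ_self (lam := lam)).ptP
  have := hp.isMonHom
  have := hp.mono
  exact ⟨mu, isMonHom_of_comp_mono (p := p), rfl⟩

/-- `λ` factors through `Z_G(λ)` -/
lemma exists_lamZ {z : Z ⟶ G} (hz : IsDynZ lam z) : ∃ mu : Red.Gm S ⟶ Z, IsMonHom mu ∧ mu ≫ z = lam := by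
  obtain ⟨mu, rfl⟩ := (hz.iff_ptZ _ _).2 (ptZ_self (lam := lam))
  have := hz.isMonHom
  have := hz.mono
  exact ⟨mu, isMonHom_of_comp_mono (p := z), rfl⟩

end LamP

section Sub

variable {H G : Over S} [GrpObj H] [GrpObj G] {i : H ⟶ G} [IsMonHom i] {mu : Red.Gm S ⟶ H}
variable {P : Over S} [GrpObj P] {q : P ⟶ H}

/-- subgroups of a closed subgroup cut out by points of the ambient group -/
lemma isDynP_of_comp [IsClosedImmersion i.left] [IsMonHom q] [Mono q]
    (h : ∀ (X : Over S) (g : X ⟶ H), (∃ x : X ⟶ P, x ≫ q = g) ↔ PtP (mu ≫ i) (g ≫ i)) :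
    IsDynP mu q := ⟨inferInstance, inferInstance, fun X g => (h X g).trans (ptP_comp_iff g)⟩

lemma isDynU_of_comp [IsClosedImmersion i.left] [IsMonHom q] [Mono q]
    (h : ∀ (X : Over S) (g : X ⟶ H), (∃ x : X ⟶ P, x ≫ q = g) ↔ PtU (mu ≫ i) (g ≫ i)) :
    IsDynU mu q := ⟨inferInstance, inferInstance, fun X g => (h X g).trans (ptU_comp_iff g)⟩

lemma isDynZ_of_comp [Mono i] [IsMonHom q] [Mono q]
    (h : ∀ (X : Over S) (g : X ⟶ H), (∃ x : X ⟶ P, x ≫ q = g) ↔ PtZ (mu ≫ i) (g ≫ i)) :
    IsDynZ mu q := ⟨inferInstance, inferInstance, fun X g => (h X g).trans (ptZ_comp_iff g)⟩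

/-- a subgroup `U_G(λ)` contained in `H` is `U_H(λ)` -/
lemma _root_.Groth.Agent.Sga3B.Parab.IsDynU.of_comp [IsClosedImmersion i.left]
    (h : IsDynU (mu ≫ i) (q ≫ i)) : IsDynU mu q := by
  have := mono_of_isClosedImmersion i
  have := h.isMonHom
  have := h.mono
  have : IsMonHom q := isMonHom_of_comp_mono (p := i)
  have : Mono q := mono_of_mono q i
  refine isDynU_of_comp (i := i) fun X g => ?_
  rw [← h.iff_ptU]
  exact exists_congr fun x => by rw [← Category.assoc, cancel_mono]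

lemma _root_.Groth.Agent.Sga3B.Parab.IsDynP.of_comp [IsClosedImmersion i.left]
    (h : IsDynP (mu ≫ i) (q ≫ i)) : IsDynP mu q := by
  have := mono_of_isClosedImmersion i
  have := h.isMonHom
  have := h.mono
  have : IsMonHom q := isMonHom_of_comp_mono (p := i)
  have : Mono q := mono_of_mono q i
  refine isDynP_of_comp (i := i) fun X g => ?_
  rw [← h.iff_ptP]
  exact exists_congr fun x => by rw [← Category.assoc, cancel_mono]

lemma _root_.Groth.Agent.Sga3B.Parab.IsDynZ.of_comp [Mono i]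
    (h : IsDynZ (mu ≫ i) (q ≫ i)) : IsDynZ mu q := by
  have := h.isMonHom
  have := h.mono
  have : IsMonHom q := isMonHom_of_comp_mono (p := i)
  have : Mono q := mono_of_mono q i
  refine isDynZ_of_comp (i := i) fun X g => ?_
  rw [← h.iff_ptZ]
  exact exists_congr fun x => by rw [← Category.assoc, cancel_mono]

end Sub

end Groth.Agent.Sga3B.Parab.DynClosed998
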