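import Groth.Agent.Sga3B.Parab.DynExist998
import Groth.Agent.Sga3B.GrDynInner678
import Mathlib.AlgebraicGeometry.Morphisms.Smooth

/-!
# Smoothness of the dynamic subgroups over a scheme

`G` smooth affine over `S`: the subgroups `P_G(λ)`, `U_G(λ)`, `Z_G(λ)` are smooth over `S`.
-/

set_option autoImplicit false
set_option linter.unusedSectionVars false

universe u

open CategoryTheory MonoidalCategory CartesianMonoidalCategory MonObj GrpObj AlgebraicGeometry Limits
open scoped LaurentPolynomial Polynomial TensorProduct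
open WithConv
open Groth.Agent.Books.AffBridge Groth.Agent.Books.DynBasic Groth.Agent.Books.DynLim
open Groth.Agent.Sga3B.Parab.Chart998 Groth.Agent.Sga3B.Parab.AffPts998
open Groth.Agent.Sga3B.Parab.Rep998 Groth.Agent.Sga3B.Parab.Dyn998
open Groth.Agent.Sga3B.Parab.DynExist998

namespace Groth.Agent.Sga3B.Parab.DynSmooth678

variable {S : Scheme.{u}} {G : Over S} [GrpObj G]

section Chart

variable {Q : ∀ (C : Type u) [CommRing C] (c : Spec (CommRingCat.of C) ⟶ S), (aff C c ⟶ G) → Prop}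
variable {P : Over S} [GrpObj P] (p : P ⟶ G) [Mono p]
variable (hP : ∀ (X : Over S) (g : X ⟶ G), (∃ x : X ⟶ P, x ≫ p = g) ↔ PtQ Q g)
variable {R : Type u} [CommRing R] {r : Spec (CommRingCat.of R) ⟶ S}
variable {A : Type u} [CommRing A] [HopfAlgebra R A] (e : Red.bc r G ≅ SpecOver R A) [IsMonHom e.hom]

include hP in
/-- In a chart the closed subgroup given by an ideal condition is the spectrum of the quotient. -/
theorem exists_chart_iso [IsAffineHom G.hom] (hQ : IdealCond Q) (J : Ideal A)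
    (hJ : ∀ (C : Type u) [CommRing C] [Algebra R C] (c : Spec (CommRingCat.of C) ⟶ S)
      (hc : Spec.map (CommRingCat.ofHom (algebraMap R C)) ≫ r = c) (g : A →ₐ[R] C),
      Q C c (pt e hc g) ↔ ∀ a ∈ J, g a = 0) :
    ∃ φ : SpecOver R (A ⧸ J) ≅ Red.bc r P,
      φ.hom ≫ (Over.pullback r).map p ≫ e.hom = specMap R (Ideal.Quotient.mkₐ R J) := by
  -- the universal point
  let c₀ : Spec (CommRingCat.of (A ⧸ J)) ⟶ S :=
    Spec.map (CommRingCat.ofHom (algebraMap R (A ⧸ J))) ≫ r
  have hq : PtQ Q (pt e (c := c₀) rfl (Ideal.Quotient.mkₐ R J)) := by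
    rw [hQ.ptQ_iff, hJ]
    intro a ha
    exact Ideal.Quotient.eq_zero_iff_mem.2 ha
  obtain ⟨x, hx⟩ := (hP _ _).2 hq
  let φ : SpecOver R (A ⧸ J) ⟶ Red.bc r P :=
    DSPts.bcEquiv r (SpecOver R (A ⧸ J)) P ((cmp (c := c₀) rfl).inv ≫ x)
  have hφ : φ ≫ (Over.pullback r).map p = specMap R (Ideal.Quotient.mkₐ R J) ≫ e.inv := by
    rw [DSPts.bcEquiv_comp, Category.assoc, hx, pt, Iso.inv_hom_id_assoc,
      MulEquiv.apply_symm_apply]
  have hφ' : φ ≫ (Over.pullback r).map p ≫ e.hom = specMap R (Ideal.Quotient.mkₐ R J) := by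
    rw [← Category.assoc, hφ, Category.assoc, Iso.inv_hom_id, Category.comp_id]
  have hmono : Mono (specMap R (Ideal.Quotient.mkₐ R J)) := by
    have h1 : IsClosedImmersion (specMap R (Ideal.Quotient.mkₐ R J)).left :=
      IsClosedImmersion.spec_of_surjective _ Ideal.Quotient.mk_surjective
    exact Over.mono_of_mono_left _
  have hφm : Mono φ := by
    rw [← hφ'] at hmono
    exact mono_of_mono φ ((Over.pullback r).map p ≫ e.hom)
  have hpm : Mono ((Over.pullback r).map p) := inferInstance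
  have key : ∀ (C : Type u) [CommRing C] [Algebra R C] (y : SpecOver R C ⟶ Red.bc r P),
      ∃ z : SpecOver R C ⟶ SpecOver R (A ⧸ J), z ≫ φ = y := by
    intro C _ _ y
    let c₁ : Spec (CommRingCat.of C) ⟶ S := Spec.map (CommRingCat.ofHom (algebraMap R C)) ≫ r
    let y' : aff C c₁ ⟶ P := (cmp (c := c₁) rfl).hom ≫ (DSPts.bcEquiv r (SpecOver R C) P).symm y
    have hy' : PtQ Q (y' ≫ p) := (hP _ _).1 ⟨y', rfl⟩
    rw [hQ.ptQ_iff] at hy'
    obtain ⟨g, hg⟩ := (pt_bijective e (c := c₁) rfl).2 (y' ≫ p)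
    rw [← hg, hJ] at hy'
    refine ⟨specMap R (Ideal.Quotient.liftₐ J g hy'), ?_⟩
    rw [← cancel_mono ((Over.pullback r).map p), Category.assoc, hφ, ← Category.assoc,
      ← specMap_comp]
    have h1 : (Ideal.Quotient.liftₐ J g hy').comp (Ideal.Quotient.mkₐ R J) = g := by
      ext a; rfl
    rw [h1]
    have h2 : y = DSPts.bcEquiv r (SpecOver R C) P ((cmp (c := c₁) rfl).inv ≫ y') := by
      rw [Iso.inv_hom_id_assoc, MulEquiv.apply_symm_apply]
    rw [h2, DSPts.bcEquiv_comp, Category.assoc, ← hg, pt, Iso.inv_hom_id_assoc,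
      MulEquiv.apply_symm_apply]
  have hiso : IsIso φ := by
    apply isIso_of_aff
    intro C _ c
    refine ⟨fun a b h => (cancel_mono φ).1 h, fun y => ?_⟩
    obtain ⟨ψ, rfl⟩ : ∃ ψ : R →+* C, Spec.map (CommRingCat.ofHom ψ) = c :=
      ⟨(Spec.preimage c).hom, Spec.map_preimage c⟩
    let _ : Algebra R C := ψ.toAlgebra
    exact key C y
  exact ⟨asIso φ, hφ'⟩

lemma smooth_specMap_iff (R A : Type u) [CommRing R] [CommRing A] [Algebra R A] :
    Smooth (SpecOver R A).hom ↔ Algebra.Smooth R A := by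
  change Smooth (Spec.map (CommRingCat.ofHom (algebraMap R A))) ↔ _
  rw [HasRingHomProperty.Spec_iff (P := @Smooth), ← RingHom.smooth_algebraMap]
  rfl

omit [GrpObj G] in
lemma algebra_smooth {R : Type u} [CommRing R] {r : Spec (CommRingCat.of R) ⟶ S}
    {A : Type u} [CommRing A] [Algebra R A] (e : (Over.pullback r).obj G ≅ SpecOver R A)
    [Smooth G.hom] : Algebra.Smooth R A := by
  rw [← smooth_specMap_iff, ← Over.w e.inv]
  have h1 : Smooth ((Over.pullback r).obj G).hom := by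
    change Smooth (pullback.snd G.hom r)
    infer_instance
  have h2 : IsIso e.inv.left := (Over.forget _).map_isIso e.inv
  infer_instance

include hP in
/-- A closed subgroup given by an ideal condition is smooth if it is in charts. -/
theorem smooth_of_charts [IsAffineHom G.hom] [Smooth G.hom] (hQ : IdealCond Q)
    (H : ∀ (R : Type u) [CommRing R] (r : Spec (CommRingCat.of R) ⟶ S)
      (A : Type u) [CommRing A] [HopfAlgebra R A] (e : Red.bc r G ≅ SpecOver R A) [IsMonHom e.hom]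
      [Algebra.Smooth R A], ∃ J : Ideal A, Algebra.Smooth R (A ⧸ J) ∧
      ∀ (C : Type u) [CommRing C] [Algebra R C] (c : Spec (CommRingCat.of C) ⟶ S)
      (hc : Spec.map (CommRingCat.ofHom (algebraMap R C)) ≫ r = c) (g : A →ₐ[R] C),
      Q C c (pt e hc g) ↔ ∀ a ∈ J, g a = 0) : Smooth P.hom := by
  have key : ∀ (R : CommRingCat.{u}) (r : Spec R ⟶ S), Smooth (pullback.snd P.hom r) := by
    intro R r
    obtain ⟨A, _, _, e, _⟩ := exists_chart (G := G) (R := R) r
    have := algebra_smooth e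
    obtain ⟨J, hs, hJ⟩ := H R r A e
    obtain ⟨φ, -⟩ := exists_chart_iso p hP e hQ J hJ
    have h2 : IsIso φ.inv.left := (Over.forget _).map_isIso φ.inv
    have h3 : Smooth (SpecOver R (A ⧸ J)).hom := (smooth_specMap_iff R _).2 hs
    have h4 : Smooth (Red.bc r P).hom := by
      rw [← Over.w φ.inv]
      infer_instance
    exact h4
  refine IsZariskiLocalAtTarget.of_openCover (P := @Smooth) S.affineCover fun i => ?_
  exact affineCover_ind (X := S) (fun {T} f => Smooth (pullback.snd P.hom f)) (fun R f => key R f) i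

end Chart

section Ideals

open Groth.Agent.Sga3B.GrDynAlg678 Groth.Agent.Sga3B.GrDynHopf678 Groth.Agent.Sga3B.GrDynInner678

variable {k A : Type u} [CommRing k] [CommRing A] [HopfAlgebra k A] (l : A →ₐc[k] k[T;T⁻¹])

/-- the submonoid of nonnegative integers -/
def nonnegZ : AddSubmonoid ℤ where
  carrier := {n | 0 ≤ n}
  zero_mem' := le_refl (0 : ℤ)
  add_mem' := fun {a b} (ha : 0 ≤ a) (hb : 0 ≤ b) => add_nonneg ha hb

lemma mem_nonnegZ {n : ℤ} : n ∈ nonnegZ ↔ 0 ≤ n := Iff.rfl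

lemma JP_eq : JP l = JS (gr l) nonnegZ := by
  rw [JP, JS]
  congr 1
  ext a
  constructor
  · rintro ⟨n, hn, ha⟩
    exact ⟨n, by rw [mem_nonnegZ]; omega, ha⟩
  · rintro ⟨n, hn, ha⟩
    exact ⟨n, by rw [mem_nonnegZ] at hn; omega, ha⟩

lemma JZ_eq : JZ l = JS (gr l) ⊥ := by
  rw [JZ, JS]
  congr 1

lemma isFace_bot : IsFace nonnegZ ⊥ where
  le := bot_le
  left_mem := by
    intro i hi j hj hij
    rw [mem_nonnegZ] at hi hj
    rw [AddSubmonoid.mem_bot] at hij ⊢
    omega

lemma JU_eq : Books.DynLim.JU l = GrDynHopf678.JU (gr l) nonnegZ ⊥ := by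
  rw [Books.DynLim.JU, GrDynHopf678.JU, JP_eq]
  congr 2
  ext a
  constructor
  · rintro ⟨ha, h0⟩
    exact ⟨0, rfl, a, ha, by rw [h0, map_zero, sub_zero]⟩
  · rintro ⟨m, hm, b, hb, rfl⟩
    obtain rfl : m = 0 := hm
    refine ⟨Submodule.sub_mem _ hb (algebraMap_mem_gr l _), ?_⟩
    rw [map_sub, Bialgebra.counit_algebraMap, sub_self]

instance smooth_JP [Algebra.Smooth k A] : Algebra.Smooth k (A ⧸ JP l) := by
  rw [JP_eq]
  exact smooth_JS _ _

instance smooth_JZ [Algebra.Smooth k A] : Algebra.Smooth k (A ⧸ JZ l) := by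
  rw [JZ_eq]
  exact smooth_JS _ _

instance smooth_JU [Algebra.Smooth k A] : Algebra.Smooth k (A ⧸ Books.DynLim.JU l) := by
  rw [JU_eq]
  exact GrDynHopf678.smooth_JU (isHopfGrading_gr l) isFace_bot

end Ideals

section Main

variable {lam : Red.Gm S ⟶ G} [IsMonHom lam] [IsAffineHom G.hom] [Smooth G.hom]
variable {P : Over S} [GrpObj P] {p : P ⟶ G}

theorem _root_.Groth.Agent.Sga3B.Parab.IsDynP.smooth (h : IsDynP lam p) : Smooth P.hom := by
  have := h.mono
  exact smooth_of_charts p h.iff_ptP (idealCond_limEx lam) fun R _ r A _ _ e _ _ =>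
    ⟨JP (lamB lam e), inferInstance, fun C _ _ c hc g => limEx_pt_iff lam e hc g⟩

theorem _root_.Groth.Agent.Sga3B.Parab.IsDynU.smooth (h : IsDynU lam p) : Smooth P.hom := by
  have := h.mono
  exact smooth_of_charts p h.iff_ptU (idealCond_limOne lam) fun R _ r A _ _ e _ _ =>
    ⟨Books.DynLim.JU (lamB lam e), inferInstance, fun C _ _ c hc g => limOne_pt_iff lam e hc g⟩

theorem _root_.Groth.Agent.Sga3B.Parab.IsDynZ.smooth (h : IsDynZ lam p) : Smooth P.hom := by
  have := h.mono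
  exact smooth_of_charts p h.iff_ptZ (idealCond_orbConst lam) fun R _ r A _ _ e _ _ =>
    ⟨JZ (lamB lam e), inferInstance, fun C _ _ c hc g => orbConst_pt_iff lam e hc g⟩

end Main

end Groth.Agent.Sga3B.Parab.DynSmooth678
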