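import Groth.Prelude.Def_Red
import Groth.Agent.Sga3B.Pts

/-!
# Semidirect products of group schemes: the projection onto the complement
-/

set_option autoImplicit false
set_option linter.unusedSectionVars false

universe u

open CategoryTheory MonoidalCategory CartesianMonoidalCategory MonObj GrpObj Limits AlgebraicGeometry

namespace Groth.Agent.Sga3B.Parab.Semi

variable {S : Scheme.{u}} {P L U : Over S} [GrpObj P] [GrpObj L] [GrpObj U]
  (l : L ⟶ P) (u : U ⟶ P)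

lemma lift_comp_mul {X : Over S} (x : X ⟶ L) (y : X ⟶ U) :
    lift x y ≫ (l ⊗ₘ u) ≫ μ[P] = (x ≫ l) * (y ≫ u) := by
  rw [Hom.mul_def, ← Category.assoc, lift_map]

variable [IsIso ((l ⊗ₘ u) ≫ μ[P])]

/-- The projection onto the first factor. -/
noncomputable def pr : P ⟶ L := inv ((l ⊗ₘ u) ≫ μ[P]) ≫ fst L U

/-- The projection onto the second factor. -/
noncomputable def qr : P ⟶ U := inv ((l ⊗ₘ u) ≫ μ[P]) ≫ snd L U

lemma pr_mul_qr {X : Over S} (w : X ⟶ P) : (w ≫ pr l u ≫ l) * (w ≫ qr l u ≫ u) = w := by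
  have h := lift_comp_mul l u (w ≫ pr l u) (w ≫ qr l u)
  rw [Category.assoc, Category.assoc] at h
  rw [← h]
  have h1 : lift (w ≫ pr l u) (w ≫ qr l u) = w ≫ inv ((l ⊗ₘ u) ≫ μ[P]) := by
    unfold pr qr
    ext1 <;> simp
  rw [h1]
  simp

lemma comp_pr_eq {X : Over S} (w : X ⟶ P) (x : X ⟶ L) (y : X ⟶ U) (h : w = (x ≫ l) * (y ≫ u)) :
    w ≫ pr l u = x := by
  rw [h, ← lift_comp_mul]
  unfold pr
  have : lift x y ≫ (l ⊗ₘ u) ≫ μ[P] ≫ inv ((l ⊗ₘ u) ≫ μ[P]) ≫ fst L U = lift x y ≫ fst L U := by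
    rw [← Category.assoc (l ⊗ₘ u), IsIso.hom_inv_id_assoc]
  rw [Category.assoc, Category.assoc, this, lift_fst]

lemma comp_qr_eq {X : Over S} (w : X ⟶ P) (x : X ⟶ L) (y : X ⟶ U) (h : w = (x ≫ l) * (y ≫ u)) :
    w ≫ qr l u = y := by
  rw [h, ← lift_comp_mul]
  unfold qr
  have : lift x y ≫ (l ⊗ₘ u) ≫ μ[P] ≫ inv ((l ⊗ₘ u) ≫ μ[P]) ≫ snd L U = lift x y ≫ snd L U := by
    rw [← Category.assoc (l ⊗ₘ u), IsIso.hom_inv_id_assoc]
  rw [Category.assoc, Category.assoc, this, lift_snd]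

variable [IsMonHom l] [IsMonHom u]

lemma l_pr : l ≫ pr l u = 𝟙 L := by
  refine comp_pr_eq l u l (𝟙 L) 1 ?_
  rw [MonObj.one_comp, _root_.mul_one, Category.id_comp]

lemma u_pr : u ≫ pr l u = 1 := by
  refine comp_pr_eq l u u 1 (𝟙 U) ?_
  rw [MonObj.one_comp, _root_.one_mul, Category.id_comp]

lemma l_qr : l ≫ qr l u = 1 := by
  refine comp_qr_eq l u l (𝟙 L) 1 ?_
  rw [MonObj.one_comp, _root_.mul_one, Category.id_comp]

lemma u_qr : u ≫ qr l u = 𝟙 U := by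
  refine comp_qr_eq l u u 1 (𝟙 U) ?_
  rw [MonObj.one_comp, _root_.one_mul, Category.id_comp]

/-- If `U` is normal the projection `P ⟶ L` is a homomorphism. -/
lemma isMonHom_pr (hn : AlgGrp.IsNormalHom u) : IsMonHom (pr l u) := by
  apply Pts.isMonHom_of_points
  intro X w w'
  obtain ⟨c, hc⟩ := hn X ((w' ≫ pr l u) ≫ l)⁻¹ (w ≫ qr l u)
  refine comp_pr_eq l u _ ((w ≫ pr l u) * (w' ≫ pr l u)) (c * (w' ≫ qr l u)) ?_
  rw [MonObj.mul_comp, MonObj.mul_comp, ← hc]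
  conv_lhs => rw [← pr_mul_qr l u w, ← pr_mul_qr l u w']
  simp only [Category.assoc, _root_.inv_inv]
  group

/-- The kernel of the projection `P ⟶ L` is `U`. -/
lemma exists_of_pr_eq_one {X : Over S} (w : X ⟶ P) (h : w ≫ pr l u = 1) :
    w = (w ≫ qr l u) ≫ u := by
  conv_lhs => rw [← pr_mul_qr l u w]
  rw [← Category.assoc w (pr l u) l, h, MonObj.one_comp, _root_.one_mul, Category.assoc]

end Groth.Agent.Sga3B.Parab.Semi
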