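import Groth.Agent.Sga3B.Parab.Retr
import Groth.Agent.Sga3B.Parab.Semi
import Groth.Agent.Sga3B.Parab.Inter

/-!
# Unipotent normal subgroups of a semidirect product with reductive complement
-/

set_option autoImplicit false
set_option linter.unusedSectionVars false

universe u

open CategoryTheory MonoidalCategory CartesianMonoidalCategory MonObj GrpObj Limits AlgebraicGeometry

namespace Groth.Agent.Sga3B.Parab.Kill

variable {S : Scheme.{u}} {P L U V : Over S} [GrpObj P] [GrpObj L] [GrpObj U] [GrpObj V]

lemma isPullback_left {N V L P : Over S} {a : N ⟶ V} {b : N ⟶ L}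
    {v : V ⟶ P} {l : L ⟶ P} (h : IsPullback a b v l) :
    IsPullback a.left b.left v.left l.left :=
  h.map (Over.forget S)

/-- Let `P = L ⋉ U` with `L` reductive and let `V` be a smooth normal closed subgroup of `P` whose
geometric fibres are connected and contain no subtorus.  If the projection of `V` to `L` is
contained in `V` then `V` is contained in `U`. -/
theorem exists_factor (l : L ⟶ P) (u : U ⟶ P) [IsIso ((l ⊗ₘ u) ≫ μ[P])] [IsMonHom l] [IsMonHom u]
    (hl : IsClosedImmersion l.left) (hL : Red.IsReductive L)
    (v : V ⟶ P) [IsMonHom v] (hv : IsClosedImmersion v.left) (hvn : AlgGrp.IsNormalHom v)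
    (hvs : Smooth V.hom) (hva : IsAffineHom V.hom)
    (hf : ∀ s : S, ConnectedSpace (Red.geomFibre s V).left ∧
      Red.HasNoSubtorus (AlgebraicClosure (S.residueField s)) (Red.geomFibre s V))
    (n : V ⟶ V) (hq : n ≫ v = v ≫ Semi.pr l u ≫ l) : ∃ f : V ⟶ U, f ≫ u = v := by
  have hmv : Mono v := by
    have : Mono ((Over.forget S).map v) := inferInstanceAs (Mono v.left)
    exact (Over.forget S).mono_of_mono_map this
  have hml : Mono l := by
    have : Mono ((Over.forget S).map l) := inferInstanceAs (Mono l.left)
    exact (Over.forget S).mono_of_mono_map this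
  obtain ⟨N, instN, a, b, ha, hb, hN⟩ := Inter.exists_inter v l
  have hNl := isPullback_left hN
  have hacl : IsClosedImmersion a.left := MorphismProperty.of_isPullback hNl.flip hl
  have hbcl : IsClosedImmersion b.left := MorphismProperty.of_isPullback hNl hv
  have hma : Mono a := by
    have : Mono ((Over.forget S).map a) := inferInstanceAs (Mono a.left)
    exact (Over.forget S).mono_of_mono_map this
  have hNaff : IsAffineHom N.hom := by
    have : a.left ≫ V.hom = N.hom := Over.w a
    rw [← this]
    infer_instance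
  let c : V ⟶ N := hN.lift n (v ≫ Semi.pr l u) (by rw [hq, Category.assoc])
  have hca : c ≫ a = n := hN.lift_fst _ _ _
  have hcb : c ≫ b = v ≫ Semi.pr l u := hN.lift_snd _ _ _
  have hac : a ≫ c = 𝟙 N := by
    rw [← cancel_mono a, Category.assoc, hca, Category.id_comp, ← cancel_mono v, Category.assoc, hq,
      ← Category.assoc, hN.w, Category.assoc, ← Category.assoc l, Semi.l_pr, Category.id_comp]
  have hNs : Smooth N.hom := Retr.smooth_of_retract a c hac
  -- normality
  have hNn : AlgGrp.IsNormalHom b := by
    intro X g m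
    obtain ⟨n', hn'⟩ := hvn X (g ≫ l) (m ≫ a)
    refine ⟨hN.lift n' (g * (m ≫ b) * g⁻¹) ?_, (hN.lift_snd _ _ _).symm⟩
    rw [← hn', MonObj.mul_comp, MonObj.mul_comp, GrpObj.inv_comp, Category.assoc, hN.w,
      Category.assoc]
  -- triviality on fibres
  have hNt : Red.IsTrivialGrp N := by
    refine Retr.isTrivialGrp_of_fibres N fun s => ?_
    refine ⟨AlgebraicClosure (S.residueField s), inferInstance, Red.geomPt s, ?_, ?_⟩
    · rw [Scheme.Hom.comp_apply]
      exact Scheme.fromSpecResidueField_apply _ _
    · have h1 := (hL.2.2 s).2.2.2 (Red.geomFibre s N) ((Over.pullback (Red.geomPt s)).map b)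
      refine h1 (Inter.isClosedImmersion_bc _ b hbcl) ?_ ?_ (Inter.isNormalHom_bc _ b hNn) ?_
      · exact inferInstanceAs (Smooth (pullback.snd N.hom (Red.geomPt s)))
      · exact Retr.connectedSpace_of_retract (Red.geomPt s) a c hac (hf s).1
      · exact Inter.hasNoSubtorus_of_mono ((Over.pullback (Red.geomPt s)).map a) (hf s).2
  -- conclusion
  have hc1 : c = 1 := by
    have : IsIso N.hom := hNt
    ext1
    rw [← cancel_mono N.hom, Over.w, Over.w]
  have h1 : v ≫ Semi.pr l u = 1 := by
    rw [← hcb, hc1, MonObj.one_comp]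
  exact ⟨v ≫ Semi.qr l u, (Semi.exists_of_pr_eq_one l u v h1).symm⟩

end Groth.Agent.Sga3B.Parab.Kill
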