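import Groth.Agent.Sga3B.Parab.LimLift
import Groth.Agent.Sga3B.Parab.Kill
import Groth.Agent.Sga3B.Parab.DynBc998
import Groth.Agent.Sga3B.Parab.DynSmooth678

/-!
# Parabolic subgroups attached to cocharacters: unipotent radical and Levi subgroup
-/

set_option autoImplicit false
set_option linter.unusedSectionVars false

universe u

open CategoryTheory MonoidalCategory CartesianMonoidalCategory MonObj GrpObj Limits AlgebraicGeometry

namespace Groth.Agent.Sga3B.Parab

/-- Over an algebraically closed field `U_G(λ)` is connected and contains no subtorus. -/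
def DynGeomU : Prop :=
  ∀ (K : Type u) [Field K] [IsAlgClosed K] (G : Over (Spec (CommRingCat.of K))) [GrpObj G]
    (lam : Red.Gm _ ⟶ G) [IsMonHom lam], IsAffineHom G.hom → Smooth G.hom →
    ∀ (U : Over (Spec (CommRingCat.of K))) [GrpObj U] (u : U ⟶ G), IsDynU lam u →
      ConnectedSpace U.left ∧ Red.HasNoSubtorus K U

/-- (K1) over an algebraically closed field. -/
def DynK1 : Prop :=
  ∀ (K : Type u) [Field K] [IsAlgClosed K] (G P : Over (Spec (CommRingCat.of K))) [GrpObj G]
    [GrpObj P] (lam : Red.Gm _ ⟶ G) [IsMonHom lam] (p : P ⟶ G), Red.IsReductiveOver K G →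
    IsDynP lam p → Red.IsParabolicOver K p

/-- (K3) over an algebraically closed field. -/
def DynK3 : Prop :=
  ∀ (K : Type u) [Field K] [IsAlgClosed K] (G Z : Over (Spec (CommRingCat.of K))) [GrpObj G]
    [GrpObj Z] (lam : Red.Gm _ ⟶ G) [IsMonHom lam] (z : Z ⟶ G), Red.IsReductiveOver K G →
    IsDynZ lam z → Red.IsReductiveOver K Z

variable {S : Scheme.{u}} {G P U Z : Over S} [GrpObj G] [GrpObj P] [GrpObj U] [GrpObj Z]
  (lam : Red.Gm S ⟶ G) [IsMonHom lam]

lemma isAffineHom_of_closed {N H : Over S} (i : N ⟶ H) (hi : IsClosedImmersion i.left)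
    (hH : IsAffineHom H.hom) : IsAffineHom N.hom := by
  have : i.left ≫ H.hom = N.hom := Over.w i
  rw [← this]
  infer_instance

include lam in
/-- `Z_G(λ)` is reductive. -/
theorem isReductive_of_isDynZ (h3 : DynK3.{u}) (hG : Red.IsReductive G)
    (z : Z ⟶ G) (hz : IsDynZ lam z) : Red.IsReductive Z := by
  have hGa := hG.1
  have hGs := hG.2.1
  have hcl : IsClosedImmersion z.left := hz.isClosedImmersion
  refine ⟨isAffineHom_of_closed z hcl hGa, hz.smooth, fun s => ?_⟩
  exact h3 _ (Red.geomFibre s G) (Red.geomFibre s Z) (bcLam lam (Red.geomPt s))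
    ((Over.pullback (Red.geomPt s)).map z) (hG.2.2 s) (hz.bc _)

include lam in
/-- `P_G(λ)` is parabolic. -/
theorem isParabolic_of_isDynP (h1 : DynK1.{u}) (hG : Red.IsReductive G)
    (p : P ⟶ G) (hp : IsDynP lam p) : Red.IsParabolic p := by
  have hGa := hG.1
  have hGs := hG.2.1
  refine ⟨hp.isMonHom, hp.isClosedImmersion, hp.smooth, fun s => ?_⟩
  exact h1 _ (Red.geomFibre s G) (Red.geomFibre s P) (bcLam lam (Red.geomPt s))
    ((Over.pullback (Red.geomPt s)).map p) (hG.2.2 s) (hp.bc _)

/-- `U_G(λ)` is the unipotent radical of `P_G(λ)`. -/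
theorem isUnipotentRadical_of_isDyn (hg : DynGeomU.{u}) (h3 : DynK3.{u})
    (hG : Red.IsReductive G) (p : P ⟶ G) (hp : IsDynP lam p) (u : U ⟶ P)
    (hu : IsDynU lam (u ≫ p)) (z : Z ⟶ P) (hz : IsDynZ lam (z ≫ p)) :
    Par.IsUnipotentRadical u := by
  have hGa := hG.1
  have hGs := hG.2.1
  have hpm := hp.isMonHom
  have hpmono := hp.mono
  have hpcl : IsClosedImmersion p.left := hp.isClosedImmersion
  have hzcl : IsClosedImmersion (z ≫ p).left := hz.isClosedImmersion
  have hucl : IsClosedImmersion (u ≫ p).left := hu.isClosedImmersion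
  have hum : IsMonHom u := DynLevi998.isMonHom_uP hp hu
  have hzm : IsMonHom z := DynLevi998.isMonHom_zP hp hz
  have hiso : IsIso ((z ⊗ₘ u) ≫ μ[P]) := DynLevi998.isIso_levi hp hz hu
  have hun : AlgGrp.IsNormalHom u := DynLevi998.isNormalHom_uP hp hu
  have hUa : IsAffineHom U.hom := isAffineHom_of_closed (u ≫ p) hucl hGa
  have hPa : IsAffineHom P.hom := isAffineHom_of_closed p hpcl hGa
  have hzcl' : IsClosedImmersion z.left := by
    have : IsClosedImmersion (z.left ≫ p.left) := hzcl
    exact .of_comp z.left p.left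
  have hucl' : IsClosedImmersion u.left := by
    have : IsClosedImmersion (u.left ≫ p.left) := hucl
    exact .of_comp u.left p.left
  refine ⟨hum, hucl', hun, hu.smooth, inferInstance,
    fun s => ?_, ?_⟩
  · have hGas : IsAffineHom (Red.geomFibre s G).hom :=
      inferInstanceAs (IsAffineHom (pullback.snd G.hom (Red.geomPt s)))
    have hGsm : Smooth (Red.geomFibre s G).hom :=
      inferInstanceAs (Smooth (pullback.snd G.hom (Red.geomPt s)))
    exact hg _ (Red.geomFibre s G) (bcLam lam (Red.geomPt s)) hGas hGsm (Red.geomFibre s U)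
      ((Over.pullback (Red.geomPt s)).map (u ≫ p)) (hu.bc _)
  · intro V _ v _ hvcl hvn hvs hvq hvf
    have hVa : IsAffineHom V.hom := isAffineHom_of_closed v hvcl hPa
    have hvp : IsClosedImmersion (v ≫ p).left :=
      inferInstanceAs (IsClosedImmersion (v.left ≫ p.left))
    obtain ⟨n, hn⟩ := LimLift.exists_proj hp hz hu v hvp hvn
    exact Kill.exists_factor z u hzcl' (isReductive_of_isDynZ lam h3 hG (z ≫ p) hz) v hvcl hvn hvs
      hVa hvf n hn

/-- **(PcU)** -/
theorem pcU (hg : DynGeomU.{u}) (h1 : DynK1.{u}) (h3 : DynK3.{u})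
    (hG : Red.IsReductive G) (p : P ⟶ G) (hp : IsDynP lam p) (u : U ⟶ P)
    (hu : IsDynU lam (u ≫ p)) (z : Z ⟶ P) (hz : IsDynZ lam (z ≫ p)) :
    Red.IsParabolic p ∧ Par.IsUnipotentRadical u ∧ Par.IsLevi z := by
  have hGa := hG.1
  have hGs := hG.2.1
  have hU := isUnipotentRadical_of_isDyn lam hg h3 hG p hp u hu z hz
  refine ⟨isParabolic_of_isDynP lam h1 hG p hp, hU, DynLevi998.isMonHom_zP hp hz, ?_,
    isReductive_of_isDynZ lam h3 hG (z ≫ p) hz, U, inferInstance, u, hU,
    DynLevi998.isIso_levi hp hz hu⟩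
  have := hz.mono
  exact mono_of_mono z p

end Groth.Agent.Sga3B.Parab
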