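import Groth.Agent.Sga3B.Parab.EtHom

/-!
# Points conjugating one subgroup into another

`Mem p g`: the point `g` of `G` factors through `p : P ⟶ G`.
`Conj p q g`: `g P g⁻¹ = Q` as functors of points.
-/

set_option autoImplicit false

universe u

open CategoryTheory MonoidalCategory CartesianMonoidalCategory MonObj GrpObj AlgebraicGeometry

namespace Groth.Agent.Sga3B.Parab.ConjPt

open Groth.Agent.Sga3B Groth.Agent.Sga3C

variable {S : Scheme.{u}} {G P Q R : Over S}

/-- The point `g` of `G` factors through `p`. -/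
def Mem (p : P ⟶ G) {X : Over S} (g : X ⟶ G) : Prop := ∃ x : X ⟶ P, x ≫ p = g

lemma Mem.comp {p : P ⟶ G} {X X' : Over S} {g : X ⟶ G} (hg : Mem p g) (h : X' ⟶ X) :
    Mem p (h ≫ g) := by
  obtain ⟨x, rfl⟩ := hg
  exact ⟨h ≫ x, Category.assoc _ _ _⟩

lemma mem_comp (p : P ⟶ G) {X : Over S} (x : X ⟶ P) : Mem p (x ≫ p) := ⟨x, rfl⟩

theorem isLocalPt_mem (p : P ⟶ G) [Mono p] : EtSub.IsLocalPt (fun _ g => Mem p g) where
  comp h g hg := hg.comp h
  zariski {X} g 𝒰 H := by
    choose x hx using H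
    have hp : Mono p.left := inferInstance
    have hx' : ∀ i, (x i).left ≫ p.left = 𝒰.f i ≫ g.left := fun i =>
      congrArg (fun z => z.left) (hx i)
    have hgl : ∀ i j, Limits.pullback.fst (𝒰.f i) (𝒰.f j) ≫ (x i).left =
        Limits.pullback.snd (𝒰.f i) (𝒰.f j) ≫ (x j).left := by
      intro i j
      rw [← cancel_mono p.left, Category.assoc, Category.assoc, hx', hx', ← Category.assoc,
        ← Category.assoc, Limits.pullback.condition]
    refine ⟨Over.homMk (𝒰.glueMorphisms (fun i => (x i).left) hgl) ?_, ?_⟩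
    · apply 𝒰.hom_ext
      intro i
      rw [← Category.assoc, 𝒰.ι_glueMorphisms]
      exact Over.w (x i)
    · ext1
      apply 𝒰.hom_ext
      intro i
      change 𝒰.f i ≫ (𝒰.glueMorphisms (fun i => (x i).left) hgl ≫ p.left) = _
      rw [← Category.assoc, 𝒰.ι_glueMorphisms]
      exact hx' i
  flat {X' X} h g h1 h2 h3 h4 := by
    rintro ⟨x, hx⟩
    obtain ⟨φ, hφ⟩ := QuotProps.exists_desc h x (by
      intro T a b hab
      rw [← cancel_mono p, Category.assoc, Category.assoc, hx, ← Category.assoc, ← Category.assoc,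
        hab])
    refine ⟨φ, ?_⟩
    have := QuotProps.epi_of_flat_surjective h
    rw [← cancel_epi h, ← Category.assoc, hφ, hx]

variable [GrpObj G]

/-- Conjugation by `g` carries `P` to `Q`. -/
def Conj (p : P ⟶ G) (q : Q ⟶ G) {X : Over S} (g : X ⟶ G) : Prop :=
  ∀ (X' : Over S) (x : X' ⟶ X) (y : X' ⟶ G), Mem p y ↔ Mem q ((x ≫ g) * y * (x ≫ g)⁻¹)

lemma Conj.comp {p : P ⟶ G} {q : Q ⟶ G} {X X' : Over S} {g : X ⟶ G} (hg : Conj p q g)
    (h : X' ⟶ X) : Conj p q (h ≫ g) := by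
  intro X'' x y
  rw [← Category.assoc]
  exact hg X'' (x ≫ h) y

lemma Conj.mul {p : P ⟶ G} {q : Q ⟶ G} {r : R ⟶ G} {X : Over S} {g h : X ⟶ G} (hg : Conj q r g)
    (hh : Conj p q h) : Conj p r (g * h) := by
  intro X' x y
  rw [hh X' x y, hg X' x]
  have : x ≫ g * (x ≫ h * y * (x ≫ h)⁻¹) * (x ≫ g)⁻¹ = x ≫ (g * h) * y * (x ≫ (g * h))⁻¹ := by
    rw [MonObj.comp_mul]
    group
  rw [this]

lemma Conj.inv {p : P ⟶ G} {q : Q ⟶ G} {X : Over S} {g : X ⟶ G} (hg : Conj p q g) :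
    Conj q p g⁻¹ := by
  intro X' x y
  rw [hg X' x]
  have : x ≫ g * (x ≫ g⁻¹ * y * (x ≫ g⁻¹)⁻¹) * (x ≫ g)⁻¹ = y := by
    have h1 : x ≫ g⁻¹ = (x ≫ g)⁻¹ := by rw [GrpObj.comp_inv]
    rw [h1]
    group
  rw [this]

lemma conj_of_mem [GrpObj P] (p : P ⟶ G) [IsMonHom p] {X : Over S} {g : X ⟶ G} (hg : Mem p g) :
    Conj p p g := by
  obtain ⟨z, rfl⟩ := hg
  intro X' x y
  constructor
  · rintro ⟨t, rfl⟩
    refine ⟨(x ≫ z) * t * (x ≫ z)⁻¹, ?_⟩
    rw [MonObj.mul_comp, MonObj.mul_comp, GrpObj.inv_comp, Category.assoc]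
  · rintro ⟨t, ht⟩
    refine ⟨(x ≫ z)⁻¹ * t * (x ≫ z), ?_⟩
    rw [MonObj.mul_comp, MonObj.mul_comp, GrpObj.inv_comp, Category.assoc, ht]
    group

theorem isLocalPt_conj (p : P ⟶ G) (q : Q ⟶ G) [Mono p] [Mono q] :
    EtSub.IsLocalPt (fun _ g => Conj p q g) where
  comp h g hg := hg.comp h
  zariski {X} g 𝒰 H := by
    intro X' x y
    let 𝒱 : Scheme.OpenCover.{u} X'.left := 𝒰.pullback₁ x.left
    have key : ∀ i, ∃ b : Over.mk (𝒱.f i ≫ X'.hom) ⟶ Over.mk (𝒰.f i ≫ X.hom),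
        b ≫ (Over.homMk (𝒰.f i) : Over.mk (𝒰.f i ≫ X.hom) ⟶ X) = Over.homMk (𝒱.f i) ≫ x := by
      intro i
      refine ⟨Over.homMk (Limits.pullback.snd x.left (𝒰.f i)) ?_, ?_⟩
      · change Limits.pullback.snd x.left (𝒰.f i) ≫ 𝒰.f i ≫ X.hom =
          Limits.pullback.fst x.left (𝒰.f i) ≫ X'.hom
        rw [← Category.assoc, ← Limits.pullback.condition, Category.assoc, Over.w]
      · ext1
        exact Limits.pullback.condition.symm
    have h1 : ∀ i, Mem p (Over.homMk (𝒱.f i) ≫ y : Over.mk (𝒱.f i ≫ X'.hom) ⟶ G) ↔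
        Mem q (Over.homMk (𝒱.f i) ≫ ((x ≫ g) * y * (x ≫ g)⁻¹) :
          Over.mk (𝒱.f i ≫ X'.hom) ⟶ G) := by
      intro i
      obtain ⟨b, hb⟩ := key i
      rw [H i _ b, ← Category.assoc, hb, MonObj.comp_mul, MonObj.comp_mul, GrpObj.comp_inv,
        Category.assoc]
    constructor
    · intro hy
      exact (isLocalPt_mem q).zariski _ 𝒱 fun i => (h1 i).1 (hy.comp _)
    · intro hy
      exact (isLocalPt_mem p).zariski _ 𝒱 fun i => (h1 i).2 (hy.comp _)
  flat {X₁ X} h g h1 h2 h3 h4 H := by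
    intro X' x y
    let Z : Over S := Over.mk (Limits.pullback.fst x.left h.left ≫ X'.hom)
    let a : Z ⟶ X' := Over.homMk (Limits.pullback.fst x.left h.left)
    let b : Z ⟶ X₁ := Over.homMk (Limits.pullback.snd x.left h.left) (by
      change _ = Limits.pullback.fst x.left h.left ≫ X'.hom
      rw [← Over.w h, ← Over.w x, ← Category.assoc, ← Category.assoc, Limits.pullback.condition])
    have hab : b ≫ h = a ≫ x := by
      ext1
      exact Limits.pullback.condition.symm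
    have e1 : Flat a.left := inferInstanceAs (Flat (Limits.pullback.fst x.left h.left))
    have e2 : Surjective a.left := inferInstanceAs (Surjective (Limits.pullback.fst x.left h.left))
    have e3 : QuasiCompact a.left :=
      inferInstanceAs (QuasiCompact (Limits.pullback.fst x.left h.left))
    have e4 : LocallyOfFinitePresentation a.left :=
      inferInstanceAs (LocallyOfFinitePresentation (Limits.pullback.fst x.left h.left))
    have h1 : Mem p (a ≫ y) ↔ Mem q (a ≫ ((x ≫ g) * y * (x ≫ g)⁻¹)) := by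
      rw [H _ b, ← Category.assoc, hab, MonObj.comp_mul, MonObj.comp_mul, GrpObj.comp_inv,
        Category.assoc]
    constructor
    · intro hy
      exact (isLocalPt_mem q).flat a _ e1 e2 e3 e4 (h1.1 (hy.comp _))
    · intro hy
      exact (isLocalPt_mem p).flat a _ e1 e2 e3 e4 (h1.2 (hy.comp _))

end Groth.Agent.Sga3B.Parab.ConjPt
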