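import Groth.Agent.Sga3B.Parab.GeomFib147
import Groth.Agent.Sga3B.Parab.DynBc998
import Groth.Agent.Sga3B.Parab.Dyn998

/-!
# `P_G(λ)`, `U_G(λ)`, `Z_G(λ)`: functoriality for isomorphisms and commutative squares of bases
-/

set_option autoImplicit false

universe u

open CategoryTheory MonoidalCategory CartesianMonoidalCategory MonObj GrpObj AlgebraicGeometry

namespace Groth.Agent.Sga3B.Parab.DynIso147

open Groth.Agent.Sga3B GeomBC147 GeomFib147

section Map

variable {S : Scheme.{u}} {G H : Over S} [GrpObj G] [GrpObj H] (lam : Red.Gm S ⟶ G) (e : G ⟶ H)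
  [IsMonHom e]

theorem orb_comp {C : Type u} [CommRing C] {c : Spec (CommRingCat.of C) ⟶ S} (g : aff C c ⟶ G) :
    orb (lam ≫ e) (g ≫ e) = orb lam g ≫ e := by
  rw [orb, orb, MonObj.mul_comp, MonObj.mul_comp, GrpObj.inv_comp, Category.assoc, Category.assoc]

variable {lam}

theorem limEx_map {C : Type u} [CommRing C]
    {c : Spec (CommRingCat.of C) ⟶ S} {g : aff C c ⟶ G} (h : LimEx lam g) :
    LimEx (lam ≫ e) (g ≫ e) := by
  obtain ⟨a, ha⟩ := h
  exact ⟨a ≫ e, by rw [orb_comp, ← ha, Category.assoc]⟩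

theorem limOne_map {C : Type u} [CommRing C]
    {c : Spec (CommRingCat.of C) ⟶ S} {g : aff C c ⟶ G} (h : LimOne lam g) :
    LimOne (lam ≫ e) (g ≫ e) := by
  obtain ⟨a, ha, h0⟩ := h
  exact ⟨a ≫ e, by rw [orb_comp, ← ha, Category.assoc], by
    rw [← Category.assoc, h0, MonObj.one_comp]⟩

theorem orbConst_map {C : Type u} [CommRing C]
    {c : Spec (CommRingCat.of C) ⟶ S} {g : aff C c ⟶ G} (h : OrbConst lam g) :
    OrbConst (lam ≫ e) (g ≫ e) := by
  rw [OrbConst, orb_comp, h, Category.assoc]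

theorem ptP_map {X : Over S} {g : X ⟶ G} (h : PtP lam g) :
    PtP (lam ≫ e) (g ≫ e) := fun C _ c x => by
  rw [← Category.assoc]
  exact limEx_map e (h C c x)

theorem ptU_map {X : Over S} {g : X ⟶ G} (h : PtU lam g) :
    PtU (lam ≫ e) (g ≫ e) := fun C _ c x => by
  rw [← Category.assoc]
  exact limOne_map e (h C c x)

theorem ptZ_map {X : Over S} {g : X ⟶ G} (h : PtZ lam g) :
    PtZ (lam ≫ e) (g ≫ e) := fun C _ c x => by
  rw [← Category.assoc]
  exact orbConst_map e (h C c x)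

end Map

section Iso

variable {S : Scheme.{u}} {G G' P P' : Over S} [GrpObj G] [GrpObj G'] [GrpObj P] [GrpObj P']
  {lam : Red.Gm S ⟶ G} {p : P ⟶ G} {p' : P' ⟶ G'} (eP : Grp.mk P ≅ Grp.mk P')
  (eG : Grp.mk G ≅ Grp.mk G') (w : eP.hom.hom.hom ≫ p' = p ≫ eG.hom.hom.hom)

include w in
theorem exists_iff (X : Over S) (g : X ⟶ G') :
    (∃ x : X ⟶ P', x ≫ p' = g) ↔ ∃ x : X ⟶ P, x ≫ p = g ≫ eG.inv.hom.hom := by
  constructor
  · rintro ⟨x, rfl⟩
    refine ⟨x ≫ eP.inv.hom.hom, ?_⟩
    rw [Category.assoc, symm_w _ _ w, Category.assoc]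
  · rintro ⟨x, hx⟩
    refine ⟨x ≫ eP.hom.hom.hom, ?_⟩
    rw [Category.assoc, w, ← Category.assoc, hx, Category.assoc, GeomBC147.inv_hom,
      Category.comp_id]

theorem ptP_iff_of_iso {X : Over S} (g : X ⟶ G') :
    PtP (lam ≫ eG.hom.hom.hom) g ↔ PtP lam (g ≫ eG.inv.hom.hom) := by
  constructor
  · intro h
    have := ptP_map eG.inv.hom.hom h
    rwa [Category.assoc, hom_inv, Category.comp_id] at this
  · intro h
    have := ptP_map eG.hom.hom.hom h
    rwa [Category.assoc, GeomBC147.inv_hom, Category.comp_id] at this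

theorem ptU_iff_of_iso {X : Over S} (g : X ⟶ G') :
    PtU (lam ≫ eG.hom.hom.hom) g ↔ PtU lam (g ≫ eG.inv.hom.hom) := by
  constructor
  · intro h
    have := ptU_map eG.inv.hom.hom h
    rwa [Category.assoc, hom_inv, Category.comp_id] at this
  · intro h
    have := ptU_map eG.hom.hom.hom h
    rwa [Category.assoc, GeomBC147.inv_hom, Category.comp_id] at this

theorem ptZ_iff_of_iso {X : Over S} (g : X ⟶ G') :
    PtZ (lam ≫ eG.hom.hom.hom) g ↔ PtZ lam (g ≫ eG.inv.hom.hom) := by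
  constructor
  · intro h
    have := ptZ_map eG.inv.hom.hom h
    rwa [Category.assoc, hom_inv, Category.comp_id] at this
  · intro h
    have := ptZ_map eG.hom.hom.hom h
    rwa [Category.assoc, GeomBC147.inv_hom, Category.comp_id] at this

include w in
theorem mono_of_iso [Mono p] : Mono p' := by
  have h1 : p' = eP.inv.hom.hom ≫ p ≫ eG.hom.hom.hom := by
    rw [← w, ← Category.assoc, GeomBC147.inv_hom, Category.id_comp]
  have : IsIso eP.inv.hom.hom := (isoOf eP).isIso_inv
  have : IsIso eG.hom.hom.hom := (isoOf eG).isIso_hom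
  rw [h1]
  infer_instance

include w

theorem isDynP_of_iso (h : IsDynP lam p) :
    IsDynP (lam ≫ eG.hom.hom.hom) p' where
  isMonHom := isMonHom_of_iso eP eG w h.isMonHom
  mono := have := h.mono; mono_of_iso eP eG w
  iff_ptP X g := by rw [exists_iff eP eG w, h.iff_ptP, ptP_iff_of_iso]

theorem isDynU_of_iso (h : IsDynU lam p) :
    IsDynU (lam ≫ eG.hom.hom.hom) p' where
  isMonHom := isMonHom_of_iso eP eG w h.isMonHom
  mono := have := h.mono; mono_of_iso eP eG w
  iff_ptU X g := by rw [exists_iff eP eG w, h.iff_ptU, ptU_iff_of_iso]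

theorem isDynZ_of_iso (h : IsDynZ lam p) :
    IsDynZ (lam ≫ eG.hom.hom.hom) p' where
  isMonHom := isMonHom_of_iso eP eG w h.isMonHom
  mono := have := h.mono; mono_of_iso eP eG w
  iff_ptZ X g := by rw [exists_iff eP eG w, h.iff_ptZ, ptZ_iff_of_iso]

end Iso

section Square

variable {S T S₁ S₂ : Scheme.{u}} {q : T ⟶ S₁} {g : S₁ ⟶ S} {q' : T ⟶ S₂} {g' : S₂ ⟶ S}

theorem bcCompIso_inv_left (q : T ⟶ S₁) (g : S₁ ⟶ S) (G : Over S) [GrpObj G] :
    (BcIso.bcCompIso q g G).inv.hom.hom.left ≫ Limits.pullback.fst G.hom (q ≫ g) =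
      Limits.pullback.fst (Red.bc g G).hom q ≫ Limits.pullback.fst G.hom g := by
  rw [← DynBc998.bcCompIso_left, ← Category.assoc, ← Over.comp_left, GeomBC147.inv_hom,
    Over.id_left, Category.id_comp]

/-- The comparison of the two base changes is compatible with the projections. -/
theorem sqIso_left (h : q ≫ g = q' ≫ g') (G : Over S) [GrpObj G] :
    (sqIso h G).hom.hom.hom.left ≫ Limits.pullback.fst (Red.bc g' G).hom q' ≫
      Limits.pullback.fst G.hom g' =
      Limits.pullback.fst (Red.bc g G).hom q ≫ Limits.pullback.fst G.hom g := by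
  change ((BcIso.bcCompIso q g G).inv.hom.hom.left ≫ (BcIso.bcCongrIso h G).hom.hom.hom.left ≫
    (BcIso.bcCompIso q' g' G).hom.hom.hom.left) ≫ _ = _
  rw [Category.assoc, Category.assoc, DynBc998.bcCompIso_left, DynBc998.bcCongrIso_left,
    bcCompIso_inv_left]

theorem hom_ext_bc {f : S₁ ⟶ S} {G : Over S} {X : Over S₁} {a b : X ⟶ Red.bc f G}
    (h : a.left ≫ Limits.pullback.fst G.hom f = b.left ≫ Limits.pullback.fst G.hom f) : a = b := by
  ext1
  apply Limits.pullback.hom_ext h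
  exact (Over.w a).trans (Over.w b).symm

end Square

end Groth.Agent.Sga3B.Parab.DynIso147
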