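import Groth.Agent.Sga3B.Parab.RedCover147
import Groth.Agent.Sga3B.Parab.ConjPt
import Groth.Agent.Sga3B.Parab.DynExist998
import Groth.Agent.Sga3B.Parab.DynLevi998
import Groth.Agent.Sga3B.Parab.DynIso147
import Groth.Prelude.Def_Par

/-!
# Unipotent radicals of parabolic subgroups over an arbitrary base
-/

set_option autoImplicit false

universe u

open CategoryTheory MonoidalCategory CartesianMonoidalCategory MonObj GrpObj AlgebraicGeometry

namespace Groth.Agent.Sga3B.Parab.RadExist147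

open Groth.Agent.Sga3B GeomBC147 GeomFib147 RedCover147 EtSub ConjPt

section Local

variable {S : Scheme.{u}}

/-- Locality is preserved by intersections. -/
theorem IsLocalPt.forall {G : Over S} {A : Sort*} {F : A → ∀ X : Over S, (X ⟶ G) → Prop}
    (hF : ∀ a, IsLocalPt (F a)) : IsLocalPt (fun X g => ∀ a, F a X g) where
  comp h g hg a := (hF a).comp h g (hg a)
  zariski g 𝒰 H a := (hF a).zariski g 𝒰 fun i => H i a
  flat h g h1 h2 h3 h4 H a := (hF a).flat h g h1 h2 h3 h4 (H a)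

/-- Locality is preserved by precomposition. -/
theorem IsLocalPt.comp_right {G P : Over S} {F : ∀ X : Over S, (X ⟶ G) → Prop} (hF : IsLocalPt F)
    (p : P ⟶ G) : IsLocalPt (fun X (g : X ⟶ P) => F X (g ≫ p)) where
  comp h g hg := by
    rw [Category.assoc]
    exact hF.comp h _ hg
  zariski g 𝒰 H := hF.zariski (g ≫ p) 𝒰 fun i => by
    rw [← Category.assoc]
    exact H i
  flat h g h1 h2 h3 h4 H := hF.flat h (g ≫ p) h1 h2 h3 h4 (by
    rw [← Category.assoc]
    exact H)

/-- Locality is preserved by base change. -/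
theorem IsLocalPt.bc {S' : Scheme.{u}} (f : S' ⟶ S) {G : Over S}
    {F : ∀ X : Over S', (X ⟶ Red.bc f G) → Prop} (hF : IsLocalPt F) :
    IsLocalPt (fun X (g : X ⟶ G) => F (Red.bc f X) ((Over.pullback f).map g)) where
  comp h g hg := by
    rw [Functor.map_comp]
    exact hF.comp _ _ hg
  zariski {X} g 𝒰 H := by
    let 𝒱 : Scheme.OpenCover.{u} (Red.bc f X).left := 𝒰.pullback₁ (EtHom.pr f X)
    refine hF.zariski _ 𝒱 fun i => ?_
    let b : Over.mk (𝒱.f i ≫ (Red.bc f X).hom) ⟶ Red.bc f (Over.mk (𝒰.f i ≫ X.hom)) :=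
      Over.homMk (Limits.pullback.lift (Limits.pullback.snd (EtHom.pr f X) (𝒰.f i))
        (Limits.pullback.fst (EtHom.pr f X) (𝒰.f i) ≫ (Red.bc f X).hom) (by
          change Limits.pullback.snd (EtHom.pr f X) (𝒰.f i) ≫ 𝒰.f i ≫ X.hom =
            (Limits.pullback.fst (EtHom.pr f X) (𝒰.f i) ≫ Limits.pullback.snd X.hom f) ≫ f
          rw [← Category.assoc, ← Limits.pullback.condition, Category.assoc, Category.assoc,
            Limits.pullback.condition])) (Limits.pullback.lift_snd _ _ _)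
    have hb : b ≫ (Over.pullback f).map (Over.homMk (𝒰.f i) : Over.mk (𝒰.f i ≫ X.hom) ⟶ X) =
        Over.homMk (𝒱.f i) := by
      ext1
      apply Limits.pullback.hom_ext
      · have h1 := (EtHom.isPullback_map f
          (Over.homMk (𝒰.f i) : Over.mk (𝒰.f i ≫ X.hom) ⟶ X)).w
        change (b.left ≫ _) ≫ EtHom.pr f X = _
        rw [Category.assoc, ← h1]
        change Limits.pullback.lift _ _ _ ≫ Limits.pullback.fst _ _ ≫ 𝒰.f i = _
        rw [← Category.assoc, Limits.pullback.lift_fst]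
        exact Limits.pullback.condition.symm
      · change (b ≫ (Over.pullback f).map (Over.homMk (𝒰.f i) :
          Over.mk (𝒰.f i ≫ X.hom) ⟶ X)).left ≫ (Red.bc f X).hom = 𝒱.f i ≫ (Red.bc f X).hom
        exact Over.w _
    have h2 := hF.comp b _ (H i)
    rw [Functor.map_comp, ← Category.assoc, hb] at h2
    exact h2
  flat {X' X} h g h1 h2 h3 h4 H := by
    rw [Functor.map_comp] at H
    have hp := (EtHom.isPullback_map f h).flip
    exact hF.flat _ _ (MorphismProperty.of_isPullback (P := @Flat) hp.flip h1)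
      (MorphismProperty.of_isPullback (P := @Surjective) hp.flip h2)
      (MorphismProperty.of_isPullback (P := @QuasiCompact) hp.flip h3)
      (MorphismProperty.of_isPullback (P := @LocallyOfFinitePresentation) hp.flip h4) H

theorem isLocalPt_of_iff {G : Over S} {F F' : ∀ X : Over S, (X ⟶ G) → Prop} (hF : IsLocalPt F)
    (h : ∀ X g, F X g ↔ F' X g) : IsLocalPt F' := by
  have : F = F' := funext fun X => funext fun g => propext (h X g)
  exact this ▸ hF

theorem isLocalPt_ptU {G : Over S} [GrpObj G] [IsAffineHom G.hom] (lam : Red.Gm S ⟶ G)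
    [IsMonHom lam] : IsLocalPt (fun _ g => PtU lam g) := by
  obtain ⟨U, _, u, hu, -⟩ := DynExist998.exists_isDynU lam
  have := hu.mono
  exact isLocalPt_of_iff (isLocalPt_mem u) fun X g => hu.iff_ptU X g

theorem isLocalPt_ptP {G : Over S} [GrpObj G] [IsAffineHom G.hom] (lam : Red.Gm S ⟶ G)
    [IsMonHom lam] : IsLocalPt (fun _ g => PtP lam g) := by
  obtain ⟨U, _, u, hu, -⟩ := DynExist998.exists_isDynP lam
  have := hu.mono
  exact isLocalPt_of_iff (isLocalPt_mem u) fun X g => hu.iff_ptP X g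

theorem isLocalPt_ptZ {G : Over S} [GrpObj G] [IsAffineHom G.hom] (lam : Red.Gm S ⟶ G)
    [IsMonHom lam] : IsLocalPt (fun _ g => PtZ lam g) := by
  obtain ⟨U, _, u, hu, -⟩ := DynExist998.exists_isDynZ lam
  have := hu.mono
  exact isLocalPt_of_iff (isLocalPt_mem u) fun X g => hu.iff_ptZ X g

end Local

/-- **(PcU)** The groups `P_G(λ)`, `U_G(λ)`, `Z_G(λ)`. -/
def PcU : Prop := ∀ {S : Scheme.{u}} {G P U Z : Over S} [GrpObj G] [GrpObj P] [GrpObj U] [GrpObj Z]
  (lam : Red.Gm S ⟶ G) [IsMonHom lam], Red.IsReductive G → ∀ (p : P ⟶ G), IsDynP lam p →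
    ∀ (u : U ⟶ P), IsDynU lam (u ≫ p) → ∀ (z : Z ⟶ P), IsDynZ lam (z ≫ p) →
      Red.IsParabolic p ∧ Par.IsUnipotentRadical u ∧ Par.IsLevi z

/-- **(PcP)** A parabolic subgroup is étale locally of the form `P_G(λ)`. -/
def PcP : Prop := ∀ {S : Scheme.{u}} {G P : Over S} [GrpObj G] [GrpObj P] (p : P ⟶ G),
  Red.IsReductive G → Red.IsParabolic p → ∀ s : S, ∃ (S' : Scheme.{u}) (f : S' ⟶ S), Etale f ∧
    s ∈ Set.range f ∧ ∃ lam : Red.Gm S' ⟶ Red.bc f G, IsMonHom lam ∧
      IsDynP lam ((Over.pullback f).map p)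

section Rad

variable {S : Scheme.{u}} {G P : Over S} [GrpObj G] [GrpObj P]

/-- `U_G(λ)` only depends on `P_G(λ)`. -/
theorem ptU_of_ptU (hPcU : PcU.{u}) (hG : Red.IsReductive G) {p : P ⟶ G}
    (lam lam' : Red.Gm S ⟶ G) [IsMonHom lam] [IsMonHom lam'] (h : IsDynP lam p)
    (h' : IsDynP lam' p) {X : Over S} (g : X ⟶ G) (hg : PtU lam g) : PtU lam' g := by
  have := hG.1
  have := h.isMonHom
  obtain ⟨U, _, u₀, hu, -⟩ := DynExist998.exists_isDynU lam
  obtain ⟨u, rfl⟩ := DynLevi998.exists_uP h hu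
  obtain ⟨Z, _, z₀, hz, -⟩ := DynExist998.exists_isDynZ lam
  obtain ⟨z, rfl⟩ := DynLevi998.exists_zP h hz
  obtain ⟨U', _, u₀', hu', -⟩ := DynExist998.exists_isDynU lam'
  obtain ⟨u', rfl⟩ := DynLevi998.exists_uP h' hu'
  obtain ⟨Z', _, z₀', hz', -⟩ := DynExist998.exists_isDynZ lam'
  obtain ⟨z', rfl⟩ := DynLevi998.exists_zP h' hz'
  obtain ⟨-, r, -⟩ := hPcU lam hG p h u hu z hz
  obtain ⟨-, r', -⟩ := hPcU lam' hG p h' u' hu' z' hz'
  have := r.1
  obtain ⟨a, ha⟩ := r'.2.2.2.2.2.2 U u r.2.1 r.2.2.1 r.2.2.2.1 r.2.2.2.2.1 r.2.2.2.2.2.1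
  obtain ⟨x, rfl⟩ := (hu.iff_ptU _ _).2 hg
  refine (hu'.iff_ptU _ _).1 ⟨x ≫ a, ?_⟩
  rw [Category.assoc, reassoc_of% ha]

/-- The condition defining the unipotent radical of a parabolic subgroup. -/
def RadCond (p : P ⟶ G) (X : Over S) (g : X ⟶ P) : Prop :=
  ∀ (a : (S' : Scheme.{u}) × (f : S' ⟶ S) × (Red.Gm S' ⟶ Red.bc f G)),
    ∀ (_ : Etale a.2.1 ∧ IsMonHom a.2.2 ∧ IsDynP a.2.2 ((Over.pullback a.2.1).map p)),
    PtU a.2.2 ((Over.pullback a.2.1).map (g ≫ p))

theorem isLocalPt_radCond (hG : Red.IsReductive G) (p : P ⟶ G) : IsLocalPt (RadCond p) := by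
  have := hG.1
  refine IsLocalPt.forall fun a => IsLocalPt.forall fun h => ?_
  obtain ⟨h1, h2, h3⟩ := h
  have : IsAffineHom (Red.bc a.2.1 G).hom := MorphismProperty.pullback_snd (P := @IsAffineHom) _ _ hG.1
  exact IsLocalPt.comp_right (IsLocalPt.bc a.2.1 (isLocalPt_ptU a.2.2)) p

/-- Comparison of two étale local descriptions of the unipotent radical. -/
theorem ptU_cmp (hPcU : PcU.{u}) (hG : Red.IsReductive G) {p : P ⟶ G} {S₁ S₂ D : Scheme.{u}}
    {f : S₁ ⟶ S} {t : S₂ ⟶ S} {q : D ⟶ S₁} {r : D ⟶ S₂} (sq : q ≫ f = r ≫ t)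
    [LocallyQuasiFinite t] [LocallyQuasiFinite r] (lam : Red.Gm S₁ ⟶ Red.bc f G)
    (mu : Red.Gm S₂ ⟶ Red.bc t G) [IsMonHom lam] [IsMonHom mu]
    (h : IsDynP lam ((Over.pullback f).map p)) (h' : IsDynP mu ((Over.pullback t).map p))
    {Z : Over D} (a : (Over.map q).obj Z ⟶ Red.bc f G) (b : (Over.map r).obj Z ⟶ Red.bc t G)
    (hab : a.left ≫ Limits.pullback.fst G.hom f = b.left ≫ Limits.pullback.fst G.hom t)
    (ha : PtU lam a) : PtU mu b := by
  have hGD : Red.IsReductive (Red.bc r (Red.bc t G)) := isReductive_bc r (isReductive_bc t hG)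
  have h1 : PtU (bcLam lam q) (DSPts.bcEquiv q Z _ a) := by
    rw [DynBc998.ptU_bc_iff, MulEquiv.symm_apply_apply]
    exact ha
  have h2 := DynIso147.ptU_map (sqIso sq G).hom.hom.hom h1
  have h3 := h.bc q
  have h4 := DynIso147.isDynP_of_iso (sqIso sq P) (sqIso sq G) (sqIso_natural sq p) h3
  have h5 := ptU_of_ptU hPcU hGD _ (bcLam mu r) h4 (h'.bc r) _ h2
  have h6 : DSPts.bcEquiv q Z _ a ≫ (sqIso sq G).hom.hom.hom = DSPts.bcEquiv r Z _ b := by
    apply DynIso147.hom_ext_bc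
    have hw : ∀ x : Z ⟶ Red.bc r (Red.bc t G),
        (x.left ≫ Limits.pullback.fst (Red.bc t G).hom r) ≫ Limits.pullback.snd G.hom t =
          Z.hom ≫ r := by
      intro x
      have e1 : Limits.pullback.fst (Red.bc t G).hom r ≫ Limits.pullback.snd G.hom t =
        (Red.bc r (Red.bc t G)).hom ≫ r := Limits.pullback.condition
      rw [Category.assoc, e1, ← Category.assoc, Over.w]
    apply Limits.pullback.hom_ext
    · have e2 := DynIso147.sqIso_left sq G
      rw [Over.comp_left, Category.assoc, Category.assoc, e2, DSPts.bcEquiv_fst_assoc, hab,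
        DSPts.bcEquiv_fst]
    · exact (hw _).trans (hw _).symm
  rw [h6, DynBc998.ptU_bc_iff, MulEquiv.symm_apply_apply] at h5
  exact h5

theorem radCond_iff_mem (hPcU : PcU.{u}) (hG : Red.IsReductive G) {p : P ⟶ G} [Mono p]
    {S' : Scheme.{u}} (f : S' ⟶ S) (hf : Etale f) (lam : Red.Gm S' ⟶ Red.bc f G) [IsMonHom lam]
    (h : IsDynP lam ((Over.pullback f).map p)) {U : Over S'} [GrpObj U] (v : U ⟶ Red.bc f P)
    (hu : IsDynU lam (v ≫ (Over.pullback f).map p)) (X : Over S') (g : X ⟶ Red.bc f P) :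
    (∃ x : X ⟶ U, x ≫ v = g) ↔
      RadCond p ((Over.map f).obj X) ((BcPts.bcEquiv f X P).symm g) := by
  have := h.mono
  constructor
  · rintro ⟨x, rfl⟩
    intro a ha
    obtain ⟨S₂, t, mu⟩ := a
    obtain ⟨ht, hmu, h'⟩ := ha
    change PtU mu ((Over.pullback t).map _)
    have := Desc.LQF.of_etale f
    have ht' : Etale t := ht
    have hmu' : IsMonHom mu := hmu
    have := Desc.LQF.of_etale t
    let q : Limits.pullback f t ⟶ S' := Limits.pullback.fst f t
    let r : Limits.pullback f t ⟶ S₂ := Limits.pullback.snd f t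
    have hr : LocallyQuasiFinite r := inferInstanceAs (LocallyQuasiFinite (Limits.pullback.snd f t))
    have sq : q ≫ f = r ≫ t := Limits.pullback.condition
    let X' : Over S := (Over.map f).obj X
    let g' : X' ⟶ P := (BcPts.bcEquiv f X P).symm (x ≫ v)
    let Y : Over S₂ := Red.bc t X'
    let c : Y.left ⟶ Limits.pullback f t :=
      Limits.pullback.lift (Limits.pullback.fst X'.hom t ≫ X.hom) (Limits.pullback.snd X'.hom t) (by
        rw [Category.assoc]
        exact Limits.pullback.condition)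
    let Z : Over (Limits.pullback f t) := Over.mk c
    let iY : Y ⟶ (Over.map r).obj Z := Over.homMk (𝟙 _) (by
      change 𝟙 _ ≫ c ≫ r = _
      rw [Category.id_comp]
      exact Limits.pullback.lift_snd _ _ _)
    let jY : (Over.map r).obj Z ⟶ Y := Over.homMk (𝟙 _) (by
      change 𝟙 _ ≫ _ = c ≫ r
      rw [Category.id_comp]
      exact (Limits.pullback.lift_snd _ _ _).symm)
    let y : (Over.map q).obj Z ⟶ X := Over.homMk (Limits.pullback.fst X'.hom t) (by
      exact (Limits.pullback.lift_fst _ _ _).symm)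
    have key := ptU_cmp hPcU hG sq lam mu h h' (Z := Z) (y ≫ x ≫ v ≫ (Over.pullback f).map p)
      (jY ≫ (Over.pullback t).map (g' ≫ p)) ?_ ?_
    · have h1 := key.comp iY
      have h2 : iY ≫ jY = 𝟙 _ := by
        ext1
        exact Category.id_comp _
      rwa [← Category.assoc, h2, Category.id_comp] at h1
    · have e1 := (EtHom.isPullback_map f p).w
      have e2 := (EtHom.isPullback_map t (g' ≫ p)).w
      have e3 : g'.left = (x ≫ v).left ≫ Limits.pullback.fst P.hom f := by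
        simp [g', BcPts.bcEquiv, Adjunction.homEquiv_counit]
      have e4 : ((Over.pullback t).map (g' ≫ p)).left ≫ Limits.pullback.fst G.hom t =
        Limits.pullback.fst X'.hom t ≫ (g' ≫ p).left := e2.symm
      have e5 : ((Over.pullback f).map p).left ≫ Limits.pullback.fst G.hom f =
        Limits.pullback.fst P.hom f ≫ p.left := e1.symm
      change (Limits.pullback.fst X'.hom t ≫ x.left ≫ v.left ≫
        ((Over.pullback f).map p).left) ≫ _ = (𝟙 _ ≫ _) ≫ _
      rw [Category.id_comp, e4, Over.comp_left, e3, Over.comp_left]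
      simp only [Category.assoc]
      rw [e5]
    · have h1 : PtU lam (x ≫ v ≫ (Over.pullback f).map p) := (hu.iff_ptU _ _).1 ⟨x, rfl⟩
      exact h1.comp y
  · intro H
    have h1 := H ⟨S', f, lam⟩ ⟨hf, inferInstance, h⟩
    change PtU lam ((Over.pullback f).map _) at h1
    have h2 := h1.comp ((Over.mapPullbackAdj f).unit.app X)
    have h3 : (Over.mapPullbackAdj f).unit.app X ≫
        (Over.pullback f).map ((BcPts.bcEquiv f X P).symm g ≫ p) = g ≫ (Over.pullback f).map p := by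
      have h4 : (Over.mapPullbackAdj f).unit.app X ≫
        (Over.pullback f).map ((BcPts.bcEquiv f X P).symm g) = BcPts.bcEquiv f X P
          ((BcPts.bcEquiv f X P).symm g) := by
        rw [BcPts.bcEquiv, Adjunction.homEquiv_unit]
      rw [Functor.map_comp, ← Category.assoc, h4, Equiv.apply_symm_apply]
    rw [h3] at h2
    obtain ⟨x, hx⟩ := (hu.iff_ptU _ _).2 h2
    exact ⟨x, by rw [← cancel_mono ((Over.pullback f).map p), Category.assoc, hx]⟩

/-- The conditions on a subgroup scheme in the definition of the unipotent radical. -/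
structure IsUnipNormal {S : Scheme.{u}} {U P : Over S} [GrpObj U] [GrpObj P] (u : U ⟶ P) :
    Prop where
  closed : IsClosedImmersion u.left
  normal : AlgGrp.IsNormalHom u
  smooth : Smooth U.hom
  qc : QuasiCompact U.hom
  fib : ∀ s : S, ConnectedSpace (Red.geomFibre s U).left ∧
      Red.HasNoSubtorus (AlgebraicClosure (S.residueField s)) (Red.geomFibre s U)

theorem IsUnipNormal.bc {U : Over S} [GrpObj U] {u : U ⟶ P} (h : IsUnipNormal u)
    {S' : Scheme.{u}} (f : S' ⟶ S) [LocallyQuasiFinite f] :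
    IsUnipNormal ((Over.pullback f).map u) where
  closed := isClosedImmersion_bc f h.closed
  normal := GeomBC147.isNormalHom_bc f h.normal
  smooth := MorphismProperty.pullback_snd (P := @Smooth) _ _ h.smooth
  qc := MorphismProperty.pullback_snd (P := @QuasiCompact) _ _ h.qc
  fib s' := ⟨(connectedSpace_fibre_iff f s' U).2 (h.fib (f s')).1,
    (hasNoSubtorus_fibre_iff f s' U).2 (h.fib (f s')).2⟩

theorem isUnipNormal_of_cover {U : Over S} [GrpObj U] {u : U ⟶ P} (hn : AlgGrp.IsNormalHom u)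
    {J : Type u} {S' : J → Scheme.{u}} {f : ∀ i, S' i ⟶ S} (hf : IsEtCov f)
    (h : ∀ i, IsUnipNormal ((Over.pullback (f i)).map u)) : IsUnipNormal u where
  closed := isClosedImmersion_of_cover hf fun i => (h i).closed
  normal := hn
  smooth := smooth_of_cover hf fun i => (h i).smooth
  qc := quasiCompact_of_cover hf fun i => (h i).qc
  fib s := by
    obtain ⟨i, s', rfl⟩ := hf.cov.surj s
    have := hf.qf i
    exact ⟨(connectedSpace_fibre_iff (f i) s' U).1 ((h i).fib s').1,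
      (hasNoSubtorus_fibre_iff (f i) s' U).1 ((h i).fib s').2⟩

theorem isUnipNormal_of_isUnipotentRadical {U : Over S} [GrpObj U] {u : U ⟶ P}
    (h : Par.IsUnipotentRadical u) : IsUnipNormal u :=
  ⟨h.2.1, h.2.2.1, h.2.2.2.1, h.2.2.2.2.1, h.2.2.2.2.2.1⟩

theorem exists_fac {U U' : Over S} [GrpObj U] [GrpObj U'] {u : U ⟶ P}
    (h : Par.IsUnipotentRadical u) {u' : U' ⟶ P} [IsMonHom u'] (h' : IsUnipNormal u') :
    ∃ a : U' ⟶ U, a ≫ u = u' :=
  h.2.2.2.2.2.2 U' u' h'.closed h'.normal h'.smooth h'.qc h'.fib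

/-- **Unipotent radicals of parabolic subgroups exist**, and are étale locally `U_G(λ)` when the
parabolic subgroup is `P_G(λ)`. -/
theorem exists_rad (hPcU : PcU.{u}) (hPcP : PcP.{u}) (hG : Red.IsReductive G) {p : P ⟶ G}
    (hp : Red.IsParabolic p) : ∃ (V : Over S) (_ : GrpObj V) (v : V ⟶ P),
      Par.IsUnipotentRadical v ∧ ∀ (S' : Scheme.{u}) (f : S' ⟶ S) (_ : Etale f)
        (lam : Red.Gm S' ⟶ Red.bc f G) (_ : IsMonHom lam), IsDynP lam ((Over.pullback f).map p) →
          IsDynU lam ((Over.pullback f).map (v ≫ p)) := by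
  have := hG.1
  have := hp.1
  have hc := hp.2.1
  have hmono : Mono p := Groth.Agent.Sga3C.ClosedSub.mono_of_left p
  have hAff : ∀ {S' : Scheme.{u}} (f : S' ⟶ S), IsAffineHom (Red.bc f G).hom := fun f =>
    MorphismProperty.pullback_snd (P := @IsAffineHom) _ _ hG.1
  have hU : ∀ {S' : Scheme.{u}} (f : S' ⟶ S) (lam : Red.Gm S' ⟶ Red.bc f G) [IsMonHom lam]
      (_ : IsDynP lam ((Over.pullback f).map p)), ∃ (U : Over S') (_ : GrpObj U)
      (u : U ⟶ Red.bc f P), IsDynU lam (u ≫ (Over.pullback f).map p) ∧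
        IsClosedImmersion u.left := by
    intro S' f lam _ h
    have := hAff f
    obtain ⟨U, _, u₀, hu, hcl⟩ := DynExist998.exists_isDynU lam
    obtain ⟨u, rfl⟩ := DynLevi998.exists_uP h hu
    refine ⟨U, inferInstance, u, hu, ?_⟩
    rw [Over.comp_left] at hcl
    have := isClosedImmersion_bc f hc
    exact IsClosedImmersion.of_comp u.left ((Over.pullback f).map p).left
  have hex : ∃ (V : Over S) (_ : GrpObj V) (v : V ⟶ P), IsMonHom v ∧ IsClosedImmersion v.left ∧
      ∀ (X : Over S) (g : X ⟶ P), (∃ x : X ⟶ V, x ≫ v = g) ↔ RadCond p X g := by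
    refine exists_closed_subgroup (isLocalPt_radCond hG p) ?_ ?_ ?_ ?_
    · intro X a ha
      obtain ⟨h1, h2, h3⟩ := ha
      obtain ⟨U, _, u, hu, -⟩ := hU a.2.1 a.2.2 h3
      have := hu.isMonHom
      refine (hu.iff_ptU _ _).1 ⟨1, ?_⟩
      rw [MonObj.one_comp, MonObj.one_comp, Functor.map_one]
    · intro X x y hx hy a ha
      obtain ⟨h1, h2, h3⟩ := ha
      obtain ⟨U, _, u, hu, -⟩ := hU a.2.1 a.2.2 h3
      have := hu.isMonHom
      obtain ⟨x', hx'⟩ := (hu.iff_ptU _ _).2 (hx a ⟨h1, h2, h3⟩)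
      obtain ⟨y', hy'⟩ := (hu.iff_ptU _ _).2 (hy a ⟨h1, h2, h3⟩)
      refine (hu.iff_ptU _ _).1 ⟨x' * y', ?_⟩
      rw [MonObj.mul_comp, hx', hy', MonObj.mul_comp, Functor.map_mul]
    · intro X x hx a ha
      obtain ⟨h1, h2, h3⟩ := ha
      obtain ⟨U, _, u, hu, -⟩ := hU a.2.1 a.2.2 h3
      have := hu.isMonHom
      obtain ⟨x', hx'⟩ := (hu.iff_ptU _ _).2 (hx a ⟨h1, h2, h3⟩)
      refine (hu.iff_ptU _ _).1 ⟨x'⁻¹, ?_⟩
      rw [GrpObj.inv_comp, hx', GrpObj.inv_comp, Functor.map_inv']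
    · intro s
      obtain ⟨S', f, hf, hs, lam, hlam, h⟩ := hPcP p hG hp s
      obtain ⟨U, _, u, hu, hcl⟩ := hU f lam h
      exact ⟨S', f, inferInstance, inferInstance, hs, U, u, hcl,
        radCond_iff_mem hPcU hG f hf lam h u hu⟩
  obtain ⟨V, _, v, hv, hvc, hV⟩ := hex
  have hDyn : ∀ (S' : Scheme.{u}) (f : S' ⟶ S) (_ : Etale f)
        (lam : Red.Gm S' ⟶ Red.bc f G) (_ : IsMonHom lam), IsDynP lam ((Over.pullback f).map p) →
          IsDynU lam ((Over.pullback f).map (v ≫ p)) := by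
    intro S' f hf lam _ h
    obtain ⟨U, _, u, hu, hcl⟩ := hU f lam h
    have hvm : Mono v := Groth.Agent.Sga3C.ClosedSub.mono_of_left v
    have key : ∀ (X : Over S') (g : X ⟶ Red.bc f P), (∃ x : X ⟶ U, x ≫ u = g) ↔
        ∃ x : X ⟶ Red.bc f V, x ≫ (Over.pullback f).map v = g := by
      intro X g
      rw [radCond_iff_mem hPcU hG f hf lam h u hu, ← hV]
      constructor
      · rintro ⟨x, hx⟩
        refine ⟨BcPts.bcEquiv f X V x, ?_⟩
        rw [← BcPts.bcEquiv_comp, hx, Equiv.apply_symm_apply]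
      · rintro ⟨x, rfl⟩
        exact ⟨(BcPts.bcEquiv f X V).symm x, (BcPts.bcEquiv_symm_comp f x v).symm⟩
    refine ⟨inferInstance, inferInstance, fun X g => ?_⟩
    rw [← hu.iff_ptU]
    constructor
    · rintro ⟨x, rfl⟩
      obtain ⟨y, hy⟩ := (key X (x ≫ (Over.pullback f).map v)).2 ⟨x, rfl⟩
      exact ⟨y, by rw [← Category.assoc, hy, Functor.map_comp, Category.assoc]⟩
    · rintro ⟨x, rfl⟩
      obtain ⟨y, hy⟩ := (key X (x ≫ u)).1 ⟨x, rfl⟩
      exact ⟨y, by rw [Functor.map_comp, ← Category.assoc, hy, Category.assoc]⟩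
  have hRad : ∀ (S' : Scheme.{u}) (f : S' ⟶ S) (_ : Etale f)
        (lam : Red.Gm S' ⟶ Red.bc f G) (_ : IsMonHom lam), IsDynP lam ((Over.pullback f).map p) →
          Par.IsUnipotentRadical ((Over.pullback f).map v) := by
    intro S' f hf lam _ h
    have := hAff f
    have := Desc.LQF.of_etale f
    obtain ⟨Z, _, z₀, hz, -⟩ := DynExist998.exists_isDynZ lam
    obtain ⟨z, rfl⟩ := DynLevi998.exists_zP h hz
    have h1 := hDyn S' f hf lam ‹_› h
    rw [Functor.map_comp] at h1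
    exact (hPcU lam (isReductive_bc f hG) _ h _ h1 z hz).2.1
  have hn : AlgGrp.IsNormalHom v := by
    intro T g n
    suffices h0 : RadCond p T (g * (n ≫ v) * g⁻¹) by
      obtain ⟨x, hx⟩ := (hV _ _).2 h0
      exact ⟨x, hx.symm⟩
    intro a ha
    obtain ⟨h1, h2, h3⟩ := ha
    have h4 := hDyn _ a.2.1 h1 a.2.2 h2 h3
    obtain ⟨n', hn'⟩ := (hRad _ a.2.1 h1 a.2.2 h2 h3).2.2.1 _ ((Over.pullback a.2.1).map g)
      ((Over.pullback a.2.1).map n)
    refine (h4.iff_ptU _ _).1 ⟨n', ?_⟩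
    rw [Functor.map_comp, ← Category.assoc, ← hn', ← Functor.map_comp, ← Functor.map_inv',
      ← Functor.map_mul, ← Functor.map_mul, ← Functor.map_comp]
  refine ⟨V, inferInstance, v, ?_, hDyn⟩
  obtain ⟨J, S', f, he, hcov, hQ⟩ := exists_isEtCov (Q := fun S' f =>
    ∃ lam : Red.Gm S' ⟶ Red.bc f G, IsMonHom lam ∧ IsDynP lam ((Over.pullback f).map p))
    (hPcP p hG hp)
  have hN : IsUnipNormal v := by
    refine isUnipNormal_of_cover hn hcov fun i => ?_
    obtain ⟨lam, hlam, h⟩ := hQ i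
    exact isUnipNormal_of_isUnipotentRadical (hRad _ (f i) (he i) lam hlam h)
  refine ⟨hv, hN.closed, hN.normal, hN.smooth, hN.qc, hN.fib, ?_⟩
  intro U' _ u' _ h1 h2 h3 h4 h5
  refine (hV _ _).2 ?_
  intro a ha
  obtain ⟨b1, b2, b3⟩ := ha
  have hu' : IsUnipNormal u' := ⟨h1, h2, h3, h4, h5⟩
  have := Desc.LQF.of_etale a.2.1
  obtain ⟨x, hx⟩ := exists_fac (hRad _ a.2.1 b1 a.2.2 b2 b3) (hu'.bc a.2.1)
  refine ((hDyn _ a.2.1 b1 a.2.2 b2 b3).iff_ptU _ _).1 ⟨x, ?_⟩
  rw [Functor.map_comp, ← Category.assoc, hx, ← Functor.map_comp]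

end Rad

end Groth.Agent.Sga3B.Parab.RadExist147
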