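import Groth.Agent.Sga3B.Parab.NearP
import Groth.Agent.Sga3B.Parab.RedCover147
import Groth.Agent.Sga3B.AlgBc2
import Groth.Agent.Sga3B.DSRigid
import Groth.Agent.S3003
import Groth.Agent.Sga3B.PinTransport

/-!
# Étale local structure of parabolic subgroups
-/

set_option autoImplicit false
set_option linter.unusedSectionVars false

universe u

open CategoryTheory MonoidalCategory CartesianMonoidalCategory MonObj GrpObj Limits AlgebraicGeometry

namespace Groth.Agent.Sga3B.Parab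

/-- **(PcP)**: étale-locally a parabolic subgroup is `P_G(λ)` for a cocharacter `λ` of a split
maximal torus of `G` contained in `P`. -/
def PcP : Prop :=
  ∀ (S : Scheme.{u}) (G P : Over S) [GrpObj G] [GrpObj P] (p : P ⟶ G), Red.IsReductive G →
    Red.IsParabolic p → ∀ s : S,
    ∃ (B : Type u) (_ : CommRing B) (f : Spec (CommRingCat.of B) ⟶ S), Etale f ∧ s ∈ Set.range f ∧
      ∃ (T : Over (Spec (CommRingCat.of B))) (_ : GrpObj T) (t : T ⟶ Red.bc f P) (r : ℕ)
        (e : Grp.mk T ≅ Grp.mk (Red.DS (Spec (CommRingCat.of B)) (Fin r → ℤ)))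
        (x : (Fin r → ℤ) →+ ℤ), IsMonHom t ∧ Red.IsMaximalTorus t ∧
        Red.IsMaximalTorus (t ≫ (Over.pullback f).map p) ∧
        IsDynP (Red.DSmap (Spec (CommRingCat.of B)) x ≫ e.inv.hom.hom ≫ t ≫
          (Over.pullback f).map p) ((Over.pullback f).map p)

section

variable {S : Scheme.{u}} {G P : Over S} [GrpObj G] [GrpObj P]

/-- The fibres of a scheme with connected geometric fibres are connected. -/
lemma isConnected_fibre {X : Over S} (s : S) (h : ConnectedSpace (Red.geomFibre s X).left) :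
    _root_.IsConnected (X.hom.base ⁻¹' {s}) := by
  have h1 : Set.range (pullback.fst X.hom (Red.geomPt s)) = X.hom ⁻¹' {s} := by
    rw [Scheme.Pullback.range_fst]
    congr 1
    ext y
    constructor
    · rintro ⟨k, rfl⟩
      rw [Set.mem_singleton_iff, Scheme.Hom.comp_apply]
      exact Scheme.fromSpecResidueField_apply _ _
    · rintro rfl
      refine ⟨IsLocalRing.closedPoint _, ?_⟩
      rw [Scheme.Hom.comp_apply]
      exact Scheme.fromSpecResidueField_apply _ _
  have h2 : ConnectedSpace ↥(pullback X.hom (Red.geomPt s)) := h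
  change _root_.IsConnected (X.hom ⁻¹' {s})
  rw [← h1]
  exact isConnected_range (pullback.fst X.hom (Red.geomPt s)).continuous

/-- A maximal torus of a parabolic subgroup is a maximal torus of the group. -/
lemma isMaximalTorus_comp (h2 : DynK2.{u}) (hG : Red.IsReductive G) {p : P ⟶ G}
    (hp : Red.IsParabolic p) {T : Over S} [GrpObj T] {t : T ⟶ P} (ht : Red.IsMaximalTorus t) :
    Red.IsMaximalTorus (t ≫ p) := by
  have hpm := hp.1
  have hpcl := hp.2.1
  have htm := ht.1
  have htmono := ht.2.1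
  have hpmono : Mono p := by
    have : Mono ((Over.forget S).map p) := inferInstanceAs (Mono p.left)
    exact (Over.forget S).mono_of_mono_map this
  refine ⟨inferInstance, inferInstance, ht.2.2.1, fun s => ?_⟩
  have h3 := AlgBc.isMaximalTorus_bc (Red.geomPt s) ht
  have h4 := ((h2 _ _ _ _ (hG.2.2 s) (hp.2.2.2 s)).2 _ _ h3).1
  have h5 := (AlgBc.isMaximalTorus_iff.1 h4).2.2.2
  rw [Functor.map_comp]
  exact h5

/-- Maximal tori of the geometric fibres of a parabolic subgroup are their own centralizers. -/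
lemma selfCent_of_isParabolic (h2 : DynK2.{u}) (h8 : DynK8.{u}) (hG : Red.IsReductive G) {p : P ⟶ G}
    (hp : Red.IsParabolic p) (s : S)
    (T : Over (Spec (CommRingCat.of (AlgebraicClosure (S.residueField s))))) [GrpObj T]
    (i : T ⟶ Red.geomFibre s P) (hi : Red.IsMaximalTorus i) (X : Over _)
    (g : X ⟶ Red.geomFibre s P)
    (hc : ∀ (X' : Over _) (x : X' ⟶ X) (t : X' ⟶ T), (x ≫ g) * (t ≫ i) = (t ≫ i) * (x ≫ g)) :
    ∃ t : X ⟶ T, g = t ≫ i := by
  have hpm := hp.1
  have hpcl := hp.2.1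
  have hpx : IsClosedImmersion ((Over.pullback (Red.geomPt s)).map p).left :=
    Inter.isClosedImmersion_bc (Red.geomPt s) p hpcl
  have hpmono : Mono ((Over.pullback (Red.geomPt s)).map p) := by
    have : Mono ((Over.forget _).map ((Over.pullback (Red.geomPt s)).map p)) :=
      inferInstanceAs (Mono ((Over.pullback (Red.geomPt s)).map p).left)
    exact (Over.forget _).mono_of_mono_map this
  have h3 := (h2 _ _ _ _ (hG.2.2 s) (hp.2.2.2 s)).2 T i hi
  obtain ⟨y, hy⟩ := h8 _ _ T (i ≫ (Over.pullback (Red.geomPt s)).map p) (hG.2.2 s) h3.1 X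
    (g ≫ (Over.pullback (Red.geomPt s)).map p) (fun X' x y => by
      have h4 := congrArg (· ≫ (Over.pullback (Red.geomPt s)).map p) (hc X' x y)
      simpa only [MonObj.mul_comp, Category.assoc] using h4)
  exact ⟨y, by rwa [← Category.assoc, cancel_mono] at hy⟩

/-- A cocharacter of a split maximal torus `T` of `P` with `P = P_G(λ)` over a geometric point. -/
lemma exists_cochar_geom (h2 : DynK2.{u}) (hG : Red.IsReductive G) {p : P ⟶ G}
    (hp : Red.IsParabolic p) {T : Over S} [GrpObj T] {i : T ⟶ P} (hi : Red.IsMaximalTorus i)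
    {M : Type} [AddCommGroup M] (e : Grp.mk T ≅ Grp.mk (Red.DS S M)) (s : S) :
    ∃ x : M →+ ℤ, IsDynP (bcLam (Red.DSmap S x ≫ e.inv.hom.hom ≫ i ≫ p) (Red.geomPt s))
      ((Over.pullback (Red.geomPt s)).map p) := by
  have h3 := AlgBc.isMaximalTorus_bc (Red.geomPt s) hi
  obtain ⟨mu, hmu, hd⟩ := ((h2 _ _ _ _ (hG.2.2 s) (hp.2.2.2 s)).2 _ _ h3).2
  obtain ⟨x, hx⟩ := DSRigid.exists_eq_DSmap (mu ≫ (Over.pullback (Red.geomPt s)).map e.hom.hom.hom ≫
    (TorusAlgClosed.dsBcIso (Red.geomPt s) M).hom.hom.hom)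
  refine ⟨x, ?_⟩
  have h5 : mu = Red.DSmap _ x ≫ (TorusAlgClosed.dsBcIso (Red.geomPt s) M).inv.hom.hom ≫
      (Over.pullback (Red.geomPt s)).map e.inv.hom.hom := by
    rw [← hx, Category.assoc, Category.assoc, ← Category.assoc (TorusAlgClosed.dsBcIso _ M).hom.hom.hom,
      GeomBC147.hom_inv, Category.id_comp, ← Functor.map_comp, GeomBC147.hom_inv]
    simp
  rw [bcLam_DSmap, Functor.map_comp, Functor.map_comp]
  rw [h5] at hd
  simpa only [Category.assoc] using hd

end

lemma bcLam_comp_bcCompIso {S S' S'' : Scheme.{u}} (v : S' ⟶ S) (w : S'' ⟶ S') {G P : Over S}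
    [GrpObj G] [GrpObj P] {T : Over S'} [GrpObj T] (p : P ⟶ G) (i : T ⟶ Red.bc v P) {M : Type}
    [AddCommGroup M] (e : Grp.mk T ≅ Grp.mk (Red.DS S' M)) (x : M →+ ℤ) :
    bcLam ((Red.DSmap S' x ≫ e.inv.hom.hom ≫ i) ≫ (Over.pullback v).map p) w ≫
        (BcIso.bcCompIso w v G).inv.hom.hom =
      Red.DSmap S'' x ≫ (BcIso.bcMapIso w e ≪≫ TorusAlgClosed.dsBcIso w M).inv.hom.hom ≫
        ((Over.pullback w).map i ≫ (BcIso.bcCompIso w v P).inv.hom.hom) ≫
        (Over.pullback (w ≫ v)).map p := by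
  have hn := GeomBC147.symm_w _ _ (GeomFib147.bcCompIso_natural w v p)
  have h1 : (BcIso.bcMapIso w e ≪≫ TorusAlgClosed.dsBcIso w M).inv.hom.hom =
      (TorusAlgClosed.dsBcIso w M).inv.hom.hom ≫ (Over.pullback w).map e.inv.hom.hom := rfl
  have h2 : bcLam ((Red.DSmap S' x ≫ e.inv.hom.hom ≫ i) ≫ (Over.pullback v).map p) w =
      Red.DSmap S'' x ≫ (TorusAlgClosed.dsBcIso w M).inv.hom.hom ≫
        (Over.pullback w).map e.inv.hom.hom ≫ (Over.pullback w).map i ≫
          (Over.pullback w).map ((Over.pullback v).map p) := by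
    rw [Category.assoc, bcLam_DSmap, Functor.map_comp, Functor.map_comp, Category.assoc]
  rw [h1, h2]
  simp only [Category.assoc]
  rw [hn]

/-- The last step of (PcP). -/
lemma exists_of_open (h2 : DynK2.{u}) {S S' S'' : Scheme.{u}} (v : S' ⟶ S) [Etale v] (w : S'' ⟶ S')
    [Etale w] {G P : Over S} [GrpObj G] [GrpObj P] {p : P ⟶ G} (hG : Red.IsReductive G)
    (hp : Red.IsParabolic p) {T : Over S'} [GrpObj T] {i : T ⟶ Red.bc v P}
    (hi : Red.IsMaximalTorus i) {M : Type} [AddCommGroup M] (e : Grp.mk T ≅ Grp.mk (Red.DS S' M))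
    (x : M →+ ℤ) (hd : IsDynP (bcLam ((Red.DSmap S' x ≫ e.inv.hom.hom ≫ i) ≫
      (Over.pullback v).map p) w) ((Over.pullback w).map ((Over.pullback v).map p))) :
    ∃ (T' : Over S'') (_ : GrpObj T') (t : T' ⟶ Red.bc (w ≫ v) P)
        (e' : Grp.mk T' ≅ Grp.mk (Red.DS S'' M)), IsMonHom t ∧ Red.IsMaximalTorus t ∧
        Red.IsMaximalTorus (t ≫ (Over.pullback (w ≫ v)).map p) ∧
        IsDynP (Red.DSmap S'' x ≫ e'.inv.hom.hom ≫ t ≫ (Over.pullback (w ≫ v)).map p)
          ((Over.pullback (w ≫ v)).map p) := by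
  have hpm := hp.1
  have him := hi.1
  have hwv : Etale (w ≫ v) := inferInstance
  have hwvq : LocallyQuasiFinite (w ≫ v) := Desc.LQF.of_etale (w ≫ v)
  have ht : Red.IsMaximalTorus ((Over.pullback w).map i ≫ (BcIso.bcCompIso w v P).inv.hom.hom) := by
    have h3 := AlgBc.isMaximalTorus_bc w hi
    refine AlgBc.isMaximalTorus_of_arrow (Iso.refl _) (BcIso.bcCompIso w v P).symm ?_ h3
    exact (Category.id_comp _).symm
  have hG'' := RedCover147.isReductive_bc (w ≫ v) hG
  have hp'' := RedCover147.isParabolic_bc (w ≫ v) hp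
  refine ⟨Red.bc w T, inferInstance, (Over.pullback w).map i ≫ (BcIso.bcCompIso w v P).inv.hom.hom,
    BcIso.bcMapIso w e ≪≫ TorusAlgClosed.dsBcIso w _, inferInstance, ht,
    isMaximalTorus_comp h2 hG'' hp'' ht, ?_⟩
  have hn := GeomBC147.symm_w _ _ (GeomFib147.bcCompIso_natural w v p)
  have hψm : IsMonHom (GeomBC147.isoOf (BcIso.bcCompIso w v G).symm).hom :=
    inferInstanceAs (IsMonHom (BcIso.bcCompIso w v G).symm.hom.hom.hom)
  have hfin : IsDynP (bcLam ((Red.DSmap S' x ≫ e.inv.hom.hom ≫ i) ≫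
      (Over.pullback v).map p) w ≫ (BcIso.bcCompIso w v G).inv.hom.hom)
      ((Over.pullback (w ≫ v)).map p) :=
    IsDynP.of_iso₂ hd (GeomBC147.isoOf (BcIso.bcCompIso w v G).symm)
      (q := (Over.pullback (w ≫ v)).map p) (GeomBC147.isoOf (BcIso.bcCompIso w v P).symm) hn.symm
  rw [bcLam_comp_bcCompIso v w p i e x] at hfin
  exact hfin

/-- **(PcP)**, conditional on the facts (K1), (K2), (K8) over algebraically closed fields. -/
theorem pcP (h1 : DynK1.{u}) (h2 : DynK2.{u}) (h8 : DynK8.{u}) : PcP.{u} := by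
  intro S G P _ _ p hG hp s
  have hpm := hp.1
  have hpcl := hp.2.1
  have hPs : Smooth P.hom := hp.2.2.1
  have hPa : IsAffineHom P.hom := isAffineHom_of_closed p hpcl hG.1
  obtain ⟨B₀, _, v, hv, ⟨s', hs'⟩, T, _, i, hi, r, ⟨e⟩⟩ := Groth.Agent.S3003.result S P
    (fun s => isConnected_fibre s (h2 _ _ _ _ (hG.2.2 s) (hp.2.2.2 s)).1) s
    (fun T _ i hi X g hc => selfCent_of_isParabolic h2 h8 hG hp s T i hi X g hc)
  have hvq : LocallyQuasiFinite v := Desc.LQF.of_etale v
  have hG' := RedCover147.isReductive_bc v hG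
  have hp' := RedCover147.isParabolic_bc v hp
  have hpm' := hp'.1
  have him := hi.1
  obtain ⟨x, hx⟩ := exists_cochar_geom h2 hG' hp' hi e s'
  have hxm := PinTransport.isMonHom_DSmap (S := Spec (CommRingCat.of B₀)) x
  obtain ⟨U, hsU, hU⟩ := exists_open_isDynP h1 h2 hG' hp' (Red.DSmap _ x ≫ e.inv.hom.hom ≫ i) s'
    (by simpa only [Category.assoc] using hx)
  obtain ⟨V, hV, hsV, hVU⟩ := exists_isAffineOpen_mem_and_subset hsU
  have hw : Set.range hV.fromSpec ⊆ (U : Set _) := by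
    rw [show Set.range hV.fromSpec = (V : Set _) from hV.range_fromSpec]
    exact hVU
  have hf : s ∈ Set.range (hV.fromSpec ≫ v) := by
    have h3 : s' ∈ Set.range hV.fromSpec := by
      rw [show Set.range hV.fromSpec = (V : Set _) from hV.range_fromSpec]
      exact hsV
    obtain ⟨y, hy⟩ := h3
    exact ⟨y, by rw [Scheme.Hom.comp_apply, hy]; exact hs'⟩
  obtain ⟨T', hT', t, e', h3⟩ := exists_of_open h2 v hV.fromSpec hG hp hi e x (hU _ _ hw)
  have hwe : Etale hV.fromSpec := inferInstance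
  have hwv : Etale (hV.fromSpec ≫ v) := MorphismProperty.comp_mem @Etale _ _ hwe hv
  exact ⟨_, inferInstance, hV.fromSpec ≫ v, hwv, hf, T', hT', t, r, e', x, h3⟩

end Groth.Agent.Sga3B.Parab
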