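import Groth.Prelude.Def_Par
import Groth.Agent.Sga3B.Parab.RedCover147
import Groth.Agent.Sga3B.Parab.Inter

/-!
# Unipotent radicals and Levi subgroups: descent along étale coverings

The groups `P`, `U`, `L` and the homomorphisms `u : U ⟶ P`, `l : L ⟶ P` are given over `S`; the
properties `Par.IsUnipotentRadical u`, `Par.IsLevi l` can be checked after base change along the
members of an étale (for example Zariski) covering.
-/

set_option autoImplicit false

universe u

open CategoryTheory MonoidalCategory CartesianMonoidalCategory MonObj GrpObj AlgebraicGeometry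

namespace Groth.Agent.Sga3B.Parab.LevZar763

open Groth.Agent.Sga3B GeomBC147 GeomFib147 RedCover147

variable {S : Scheme.{u}}

/-- `P` is unchanged when an object over `S'` is written as a base change. -/
theorem exists_lift_of_isIso_fst {C : Type*} [Category C] {A U P : C} {u : U ⟶ P} {g : A ⟶ P}
    [Limits.HasPullback g u] (h : IsIso (Limits.pullback.fst g u)) : ∃ g' : A ⟶ U, g' ≫ u = g :=
  ⟨inv (Limits.pullback.fst g u) ≫ Limits.pullback.snd g u, by
    rw [Category.assoc, ← Limits.pullback.condition, IsIso.inv_hom_id_assoc]⟩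

/-- Two unipotent radicals agree. -/
theorem exists_iso_of_isUnipotentRadical {U U' P : Over S} [GrpObj U] [GrpObj U'] [GrpObj P]
    {u : U ⟶ P} {u' : U' ⟶ P} (h : Par.IsUnipotentRadical u) (h' : Par.IsUnipotentRadical u') :
    ∃ e : U ≅ U', e.hom ≫ u' = u := by
  obtain ⟨h1, h2, h3, h4, h5, h6, h7⟩ := h
  obtain ⟨h1', h2', h3', h4', h5', h6', h7'⟩ := h'
  have : Mono u := Over.mono_of_mono_left u
  have : Mono u' := Over.mono_of_mono_left u'
  obtain ⟨a, ha⟩ := h7 U' u' h2' h3' h4' h5' h6'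
  obtain ⟨b, hb⟩ := h7' U u h2 h3 h4 h5 h6
  refine ⟨⟨b, a, ?_, ?_⟩, hb⟩
  · rw [← cancel_mono u, Category.assoc, ha, hb, Category.id_comp]
  · rw [← cancel_mono u', Category.assoc, hb, ha, Category.id_comp]

/-- The semidirect product decomposition holds for any unipotent radical. -/
theorem isIso_mul_of_isLevi {L U P : Over S} [GrpObj L] [GrpObj U] [GrpObj P] {l : L ⟶ P}
    {u : U ⟶ P} (hl : Par.IsLevi l) (hu : Par.IsUnipotentRadical u) :
    IsIso ((l ⊗ₘ u) ≫ μ[P]) := by
  obtain ⟨h1, h2, h3, U', _, u', hu', hiso⟩ := hl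
  obtain ⟨e, he⟩ := exists_iso_of_isUnipotentRadical hu hu'
  have h4 : (l ⊗ₘ u) ≫ μ[P] = (𝟙 L ⊗ₘ e.hom) ≫ (l ⊗ₘ u') ≫ μ[P] := by
    rw [tensorHom_comp_tensorHom_assoc, Category.id_comp, he]
  rw [h4]
  infer_instance

/-- A closed subgroup complementary to the unipotent radical is a monomorphism. -/
theorem mono_of_isIso_mul {L U P : Over S} [GrpObj U] [GrpObj P] {l : L ⟶ P} {u : U ⟶ P}
    [IsMonHom u] (h : IsIso ((l ⊗ₘ u) ≫ μ[P])) : Mono l := by
  have h1 : l = lift (𝟙 L) 1 ≫ (l ⊗ₘ u) ≫ μ[P] := by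
    rw [← Category.assoc, lift_map, ← Hom.mul_def, Category.id_comp, MonObj.one_comp, _root_.mul_one]
  rw [h1]
  have h2 : Mono (lift (𝟙 L) (1 : L ⟶ U)) := mono_of_mono_fac (h := 𝟙 L) (lift_fst _ _)
  infer_instance

/-- The open covering of `S` by the open subschemes of a Zariski covering is a covering. -/
theorem isEtCov_of_opens {J : Type u} (V : J → S.Opens) (hV : ∀ s : S, ∃ i, s ∈ V i) :
    IsEtCov fun i => (V i).ι :=
  IsEtCov.of_etale _ (fun _ => inferInstance) fun s => by
    obtain ⟨i, hi⟩ := hV s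
    exact ⟨i, by rw [Scheme.Opens.range_ι]; exact hi⟩

section Cover

variable {J : Type u} {S' : J → Scheme.{u}} {f : ∀ i, S' i ⟶ S} (hf : IsEtCov f)

include hf

/-- Factorisation through a monomorphism is local. -/
theorem exists_factor_of_cover {A U P : Over S} {u : U ⟶ P} [Mono u] (g : A ⟶ P)
    (h : ∀ i, ∃ g' : (Over.pullback (f i)).obj A ⟶ (Over.pullback (f i)).obj U,
      g' ≫ (Over.pullback (f i)).map u = (Over.pullback (f i)).map g) :
    ∃ g' : A ⟶ U, g' ≫ u = g := by
  apply exists_lift_of_isIso_fst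
  apply isIso_of_cover hf
  intro i
  obtain ⟨g', hg'⟩ := h i
  have hp : IsPullback ((Over.pullback (f i)).map (Limits.pullback.fst g u))
      ((Over.pullback (f i)).map (Limits.pullback.snd g u)) ((Over.pullback (f i)).map g)
      ((Over.pullback (f i)).map u) :=
    Inter.isPullback_bc (f i) (IsPullback.of_hasPullback g u)
  refine ⟨hp.lift (𝟙 _) g' (by rw [Category.id_comp, hg']), ?_, hp.lift_fst _ _ _⟩
  rw [← cancel_mono ((Over.pullback (f i)).map (Limits.pullback.fst g u)), Category.assoc,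
    hp.lift_fst, Category.comp_id, Category.id_comp]

theorem isNormalHom_of_cover {U P : Over S} [GrpObj U] [GrpObj P] {u : U ⟶ P} [Mono u]
    (h : ∀ i, AlgGrp.IsNormalHom ((Over.pullback (f i)).map u)) : AlgGrp.IsNormalHom u := by
  intro T g n
  obtain ⟨n', hn'⟩ := exists_factor_of_cover hf (u := u) (g * (n ≫ u) * g⁻¹) fun i => by
    obtain ⟨n', hn'⟩ := h i _ ((Over.pullback (f i)).map g) ((Over.pullback (f i)).map n)
    refine ⟨n', ?_⟩
    rw [← hn', Functor.map_mul, Functor.map_mul, Functor.map_comp]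
    congr 1
    exact (Functor.map_inv' (Over.pullback (f i)) g).symm
  exact ⟨n', hn'.symm⟩

/-- Being a unipotent radical can be checked on an étale covering. -/
theorem isUnipotentRadical_of_cover {U P : Over S} [GrpObj U] [GrpObj P] {u : U ⟶ P}
    (hu : IsMonHom u) (h : ∀ i, Par.IsUnipotentRadical ((Over.pullback (f i)).map u)) :
    Par.IsUnipotentRadical u := by
  have hcl : IsClosedImmersion u.left := isClosedImmersion_of_cover hf fun i => (h i).2.1
  have hmono : Mono u := Over.mono_of_mono_left u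
  refine ⟨hu, hcl, isNormalHom_of_cover hf fun i => (h i).2.2.1,
    smooth_of_cover hf fun i => (h i).2.2.2.1, quasiCompact_of_cover hf fun i => (h i).2.2.2.2.1,
    fun s => ?_, ?_⟩
  · obtain ⟨i, s', rfl⟩ := hf.cov.surj s
    have := hf.qf i
    obtain ⟨h1, h2⟩ := (h i).2.2.2.2.2.1 s'
    exact ⟨(connectedSpace_fibre_iff (f i) s' U).1 h1, (hasNoSubtorus_fibre_iff (f i) s' U).1 h2⟩
  · intro U' _ u' _ hcl' hn' hsm' hqc' hfib
    apply exists_factor_of_cover hf
    intro i
    have := hf.qf i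
    have := hsm'
    have := hqc'
    refine (h i).2.2.2.2.2.2 _ ((Over.pullback (f i)).map u') (isClosedImmersion_bc (f i) hcl')
      (Inter.isNormalHom_bc (f i) u' hn')
      (inferInstanceAs (Smooth (Limits.pullback.snd U'.hom (f i))))
      (inferInstanceAs (QuasiCompact (Limits.pullback.snd U'.hom (f i)))) fun s' => ?_
    obtain ⟨h1, h2⟩ := hfib (f i s')
    exact ⟨(connectedSpace_fibre_iff (f i) s' U').2 h1, (hasNoSubtorus_fibre_iff (f i) s' U').2 h2⟩

/-- The multiplication `L × U ⟶ P` is an isomorphism if it is so on a covering. -/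
theorem isIso_mul_of_cover {L U P : Over S} [GrpObj P] {l : L ⟶ P} {u : U ⟶ P}
    (h : ∀ i, IsIso (((Over.pullback (f i)).map l ⊗ₘ (Over.pullback (f i)).map u) ≫
      μ[Red.bc (f i) P])) : IsIso ((l ⊗ₘ u) ≫ μ[P]) := by
  apply isIso_of_cover hf
  intro i
  have e : (Over.pullback (f i)).map ((l ⊗ₘ u) ≫ μ[P]) =
      prodComparison (Over.pullback (f i)) L U ≫
        ((Over.pullback (f i)).map l ⊗ₘ (Over.pullback (f i)).map u) ≫ μ[Red.bc (f i) P] := by
    have e1 : (l ⊗ₘ u) ≫ μ[P] = (fst _ _ ≫ l) * (snd _ _ ≫ u) := by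
      rw [mul_eq_mul, MonObj.comp_mul, tensorHom_fst, tensorHom_snd]
    rw [e1, Functor.map_mul, Functor.map_comp, Functor.map_comp, mul_eq_mul (M := Red.bc (f i) P),
      MonObj.comp_mul, MonObj.comp_mul, tensorHom_fst, tensorHom_snd, prodComparison_fst_assoc,
      prodComparison_snd_assoc]
  rw [e]
  have := h i
  infer_instance

/-- Being a Levi subgroup can be checked on an étale covering, if the unipotent radical exists
over the base. -/
theorem isLevi_of_cover {L U P : Over S} [GrpObj L] [GrpObj U] [GrpObj P] {l : L ⟶ P} {u : U ⟶ P}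
    (hl : IsMonHom l) (hu : IsMonHom u)
    (hU : ∀ i, Par.IsUnipotentRadical ((Over.pullback (f i)).map u))
    (hL : ∀ i, Par.IsLevi ((Over.pullback (f i)).map l)) : Par.IsLevi l := by
  have hu' := isUnipotentRadical_of_cover hf hu hU
  have hiso : IsIso ((l ⊗ₘ u) ≫ μ[P]) :=
    isIso_mul_of_cover hf fun i => isIso_mul_of_isLevi (hL i) (hU i)
  exact ⟨hl, mono_of_isIso_mul hiso, isReductive_of_cover hf fun i => (hL i).2.2.1, U, _, u, hu',
    hiso⟩

end Cover

end Groth.Agent.Sga3B.Parab.LevZar763
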