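import Groth.Agent.Sga3B.Parab.FibIsoSch

/-!
# Closed immersions which are isomorphisms near a section

If `i : Z ⟶ Y` is a closed immersion over `S`, `Z` is flat and locally of finite presentation with
a section `e`, the (geometric) fibres of `Y` are integral and `i` is an isomorphism on the fibre
over `s`, then `i` is an isomorphism over an open neighbourhood of `s`.
-/

set_option autoImplicit false

universe u

open CategoryTheory Limits AlgebraicGeometry TensorProduct

namespace Groth.Agent.Sga3B.Parab.FibIsoSch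

variable {S : Scheme.{u}}

/-- If `i` is an isomorphism on the fibre through `y` then `y` has an open neighbourhood contained
in the image of `i`. -/
theorem exists_open_subset_range {Z Y : Over S} (i : Z ⟶ Y) [IsClosedImmersion i.left] [Flat Z.hom]
    [LocallyOfFinitePresentation Z.hom] [LocallyOfFiniteType Y.hom] (y : Y.left)
    (K : Type u) [Field K] (x : Spec (CommRingCat.of K) ⟶ S)
    (hx : x (IsLocalRing.closedPoint K) = Y.hom y) (hiso : IsIso ((Over.pullback x).map i)) :
    ∃ W : Y.left.Opens, y ∈ W ∧ (W : Set Y.left) ⊆ Set.range i.left := by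
  obtain ⟨U, V, -, hyV, -, -, e⟩ := Divis.IdealComap.exists_affine_le Y.hom y ⊤ trivial ⊤ trivial
  have hV : IsAffineOpen V.1 := V.2
  have hW : IsAffineOpen (i.left ⁻¹ᵁ V.1) := hV.preimage i.left
  have e' : i.left ⁻¹ᵁ V.1 ≤ Z.hom ⁻¹ᵁ U.1 := by
    intro z hz
    have := e hz
    change Z.hom z ∈ U.1
    rw [← Over.w i]
    exact this
  let algA : Algebra Γ(S, U.1) Γ(Y.left, V.1) := (Y.hom.appLE U.1 V.1 e).hom.toAlgebra
  let algB : Algebra Γ(S, U.1) Γ(Z.left, i.left ⁻¹ᵁ V.1) := (Z.hom.appLE U.1 _ e').hom.toAlgebra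
  let algAB : Algebra Γ(Y.left, V.1) Γ(Z.left, i.left ⁻¹ᵁ V.1) := (i.left.app V.1).hom.toAlgebra
  have hcomp : Y.hom.appLE U.1 V.1 e ≫ i.left.app V.1 = Z.hom.appLE U.1 _ e' := by
    rw [Scheme.Hom.app_eq_appLE, Scheme.Hom.appLE_comp_appLE]
    congr 1
    exact Over.w i
  have tower : IsScalarTower Γ(S, U.1) Γ(Y.left, V.1) Γ(Z.left, i.left ⁻¹ᵁ V.1) :=
    .of_algebraMap_eq fun r => (congr($(hcomp).hom r)).symm
  have hsurj : Function.Surjective (algebraMap Γ(Y.left, V.1) Γ(Z.left, i.left ⁻¹ᵁ V.1)) :=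
    Scheme.Hom.app_surjective i.left V.1 V.2
  have hflat : Module.Flat Γ(S, U.1) Γ(Z.left, i.left ⁻¹ᵁ V.1) :=
    Z.hom.flat_appLE U.2 hW e'
  have hfp : Algebra.FinitePresentation Γ(S, U.1) Γ(Z.left, i.left ⁻¹ᵁ V.1) :=
    Z.hom.finitePresentation_appLE U.2 hW e'
  have hft : Algebra.FiniteType Γ(S, U.1) Γ(Y.left, V.1) :=
    Y.hom.finiteType_appLE U.2 V.2 e
  let I : Ideal Γ(Y.left, V.1) := RingHom.ker (i.left.app V.1).hom
  have hI : I.FG := by
    have h1 : Algebra.FinitePresentation Γ(Y.left, V.1) Γ(Z.left, i.left ⁻¹ᵁ V.1) :=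
      .of_restrict_scalars_finitePresentation Γ(S, U.1) _ _
    exact Algebra.FinitePresentation.ker_fG_of_surjective
      (Algebra.ofId Γ(Y.left, V.1) Γ(Z.left, i.left ⁻¹ᵁ V.1)) hsurj
  let eI : (Γ(Y.left, V.1) ⧸ I) ≃ₐ[Γ(S, U.1)] Γ(Z.left, i.left ⁻¹ᵁ V.1) :=
    Ideal.quotientKerAlgEquivOfSurjective
      (f := IsScalarTower.toAlgHom Γ(S, U.1) Γ(Y.left, V.1) Γ(Z.left, i.left ⁻¹ᵁ V.1)) hsurj
  have : Module.Flat Γ(S, U.1) (Γ(Y.left, V.1) ⧸ I) := Module.Flat.of_linearEquiv eI.toLinearEquiv
  have hyU : Y.hom y ∈ U.1 := e hyV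
  have hrange : Set.range x ⊆ Set.range U.2.fromSpec := by
    rintro _ ⟨k, rfl⟩
    have : k = IsLocalRing.closedPoint K := Subsingleton.elim _ _
    rw [this, hx, IsAffineOpen.range_fromSpec]
    exact hyU
  let φ : Γ(S, U.1) ⟶ CommRingCat.of K := Spec.preimage (IsOpenImmersion.lift U.2.fromSpec x hrange)
  have hφ : Spec.map φ ≫ U.2.fromSpec = x := by
    rw [Spec.map_preimage, IsOpenImmersion.lift_fac]
  let algK : Algebra Γ(S, U.1) K := φ.hom.toAlgebra
  let q : PrimeSpectrum Γ(Y.left, V.1) := V.2.primeIdealOf ⟨y, hyV⟩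
  have hq : V.2.fromSpec q = y := V.2.fromSpec_primeIdealOf ⟨y, hyV⟩
  have hK : RingHom.ker (algebraMap Γ(S, U.1) K) =
      q.asIdeal.comap (algebraMap Γ(S, U.1) Γ(Y.left, V.1)) := by
    have h3 : U.2.fromSpec (Spec.map φ (IsLocalRing.closedPoint K)) =
        U.2.fromSpec (Spec.map (Y.hom.appLE U.1 V.1 e) q) := by
      rw [← Scheme.Hom.comp_apply, ← Scheme.Hom.comp_apply, hφ,
        IsAffineOpen.SpecMap_appLE_fromSpec Y.hom U.2 V.2 e, Scheme.Hom.comp_apply, hq, hx]
    have h4 := U.2.fromSpec.isOpenEmbedding.injective h3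
    have h5 := congrArg PrimeSpectrum.asIdeal h4
    change (IsLocalRing.closedPoint K).asIdeal.comap φ.hom =
      q.asIdeal.comap (Y.hom.appLE U.1 V.1 e).hom at h5
    have h6 : (IsLocalRing.closedPoint K).asIdeal = ⊥ := IsLocalRing.maximalIdeal_eq_bot
    rw [h6] at h5
    exact h5
  have h6 := bijective_of_isIso (K := K) (R := Γ(S, U.1)) (A := Γ(Y.left, V.1))
      (B := Γ(Z.left, i.left ⁻¹ᵁ V.1)) i U.2.fromSpec V.2.fromSpec hW.fromSpec
      (by
        rw [← IsAffineOpen.SpecMap_appLE_fromSpec Y.hom U.2 V.2 e]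
        rfl)
      (by
        refine (IsOpenImmersion.isPullback _ _ _ _ ?_ ?_).flip
        · exact (IsAffineOpen.SpecMap_appLE_fromSpec i.left V.2 hW le_rfl).symm.trans
            (by rw [← Scheme.Hom.app_eq_appLE]; rfl)
        · rw [IsAffineOpen.opensRange_fromSpec, IsAffineOpen.opensRange_fromSpec])
      (by
        have : Spec.map (CommRingCat.ofHom (algebraMap Γ(S, U.1) K)) ≫ U.2.fromSpec = x := hφ
        rw [this]
        exact hiso)
  have h7 : (eI.toLinearMap.lTensor K) ∘ₗ ((I.restrictScalars Γ(S, U.1)).mkQ.lTensor K) =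
      (Algebra.TensorProduct.map (AlgHom.id Γ(S, U.1) K)
        (IsScalarTower.toAlgHom Γ(S, U.1) Γ(Y.left, V.1) Γ(Z.left, i.left ⁻¹ᵁ V.1))).toLinearMap := by
    apply TensorProduct.ext'
    intro k a
    rfl
  have h8 : Function.Injective
      ((eI.toLinearMap.lTensor K) ∘ₗ ((I.restrictScalars Γ(S, U.1)).mkQ.lTensor K)) := by
    rw [h7]
    exact h6.1
  rw [LinearMap.coe_comp] at h8
  have h9 : Function.Injective ((I.restrictScalars Γ(S, U.1)).mkQ.lTensor K) :=
    Function.Injective.of_comp h8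
  have hsub : Subsingleton (K ⊗[Γ(S, U.1)] I) := by
    have h1 : Function.Injective ((I.restrictScalars Γ(S, U.1)).subtype.lTensor K) := by
      have : Module.Flat Γ(S, U.1) (Γ(Y.left, V.1) ⧸ I.restrictScalars Γ(S, U.1)) :=
        inferInstanceAs (Module.Flat Γ(S, U.1) (Γ(Y.left, V.1) ⧸ I))
      exact LinearMap.lTensor_injective_of_exact_of_flat (I.restrictScalars Γ(S, U.1)).mkQ
        (Submodule.mkQ_surjective _) (I.restrictScalars Γ(S, U.1)).subtype
        (Submodule.subtype_injective _) (LinearMap.exact_subtype_mkQ _) K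
    constructor
    intro u v
    apply h1
    apply h9
    have h2 : ((I.restrictScalars Γ(S, U.1)).mkQ.lTensor K) ∘ₗ
        ((I.restrictScalars Γ(S, U.1)).subtype.lTensor K) = 0 := by
      rw [← LinearMap.lTensor_comp]
      have : (I.restrictScalars Γ(S, U.1)).mkQ ∘ₗ (I.restrictScalars Γ(S, U.1)).subtype = 0 :=
        (LinearMap.exact_subtype_mkQ _).linearMap_comp_eq_zero
      rw [this, LinearMap.lTensor_zero]
    exact (DFunLike.congr_fun h2 u).trans (DFunLike.congr_fun h2 v).symm
  have hsub' := FibIso.subsingleton_of_field (R := Γ(S, U.1)) I q.asIdeal K hK hsub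
  have hfin : Module.Finite Γ(Y.left, V.1) I := Module.Finite.iff_fg.mpr hI
  have hnot : q ∉ Module.support Γ(Y.left, V.1) I := by
    intro hmem
    rw [Module.mem_support_iff_nontrivial_residueField_tensorProduct] at hmem
    exact not_subsingleton _ hsub'
  rw [Module.support_eq_zeroLocus, PrimeSpectrum.mem_zeroLocus, Set.not_subset] at hnot
  obtain ⟨a, ha, haq⟩ := hnot
  refine ⟨Y.left.basicOpen a, ?_, ?_⟩
  · have h10 : q ∈ V.2.fromSpec ⁻¹ᵁ Y.left.basicOpen a := by
      rw [V.2.fromSpec_preimage_basicOpen]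
      exact haq
    rw [← hq]
    exact h10
  · intro z hz
    have hzV : z ∈ V.1 := Y.left.basicOpen_le a hz
    have h10 : z ∈ i.left.ker.support := by
      rw [Scheme.IdealSheafData.mem_support_iff_of_mem (U := V) hzV, Scheme.mem_zeroLocus_iff]
      intro f hf hzf
      rw [Scheme.Hom.ker_apply] at hf
      have h11 : a * f = 0 := congrArg Subtype.val (Module.mem_annihilator.mp ha ⟨f, hf⟩)
      have h12 : z ∈ Y.left.basicOpen (a * f) := by
        rw [Scheme.basicOpen_mul]
        exact ⟨hz, hzf⟩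
      rw [h11, Scheme.basicOpen_zero] at h12
      exact h12
    have h13 : (i.left.ker.support : Set Y.left) = Set.range i.left := by
      rw [Scheme.Hom.support_ker, i.left.isClosedEmbedding.isClosed_range.closure_eq]
    rw [← h13]
    exact h10

/-- On an integral fibre `i` is an isomorphism as soon as its image contains an open subset which
meets the fibre. -/
theorem isIso_of_mem_open {K : Type u} [CommRing K] (x : Spec (CommRingCat.of K) ⟶ S) {Z Y : Over S}
    (i : Z ⟶ Y) [IsClosedImmersion i.left] [IsIntegral (Red.bc x Y).left] (W : Y.left.Opens)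
    (hW : (W : Set Y.left) ⊆ Set.range i.left) (y : (Red.bc x Y).left)
    (hy : pullback.fst Y.hom x y ∈ W) : IsIso ((Over.pullback x).map i) := by
  have h1 := isPullback_map_left x i
  have hcl : IsClosedImmersion ((Over.pullback x).map i).left :=
    MorphismProperty.of_isPullback h1 inferInstance
  have hred : IsReduced ((Over.pullback x).obj Y).left := by
    have : IsIntegral ((Over.pullback x).obj Y).left := ‹IsIntegral (Red.bc x Y).left›
    infer_instance
  have hirr : IrreducibleSpace ((Over.pullback x).obj Y).left := by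
    have : IsIntegral ((Over.pullback x).obj Y).left := ‹IsIntegral (Red.bc x Y).left›
    infer_instance
  have hrange : Set.range ((Over.pullback x).map i).left =
      (pullback.fst Y.hom x) ⁻¹' (Set.range i.left) := by
    rw [← Set.image_univ, ← Set.preimage_univ (f := pullback.fst Z.hom x)]
    rw [Scheme.image_preimage_eq_of_isPullback h1, Set.image_univ]
  have hsurj : Surjective ((Over.pullback x).map i).left := by
    constructor
    rw [← Set.range_eq_univ]
    have hclosed : IsClosed (Set.range ((Over.pullback x).map i).left) :=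
      ((Over.pullback x).map i).left.isClosedEmbedding.isClosed_range
    have hopen : IsOpen ((pullback.fst Y.hom x) ⁻¹' (W : Set Y.left)) :=
      W.2.preimage (pullback.fst Y.hom x).continuous
    have hdense : Dense (X := ((Over.pullback x).obj Y).left)
        ((pullback.fst Y.hom x) ⁻¹' (W : Set Y.left)) :=
      @IsOpen.dense _ _ _ hirr.toPreirreducibleSpace hopen ⟨y, hy⟩
    have hsub : (pullback.fst Y.hom x) ⁻¹' (W : Set Y.left) ⊆
        Set.range ((Over.pullback x).map i).left := by
      rw [hrange]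
      exact Set.preimage_mono hW
    have := (hdense.mono hsub).closure_eq
    rwa [hclosed.closure_eq] at this
  have hiso : IsIso ((Over.pullback x).map i).left := isIso_of_isClosedImmersion_of_surjective _
  have h2 : IsIso ((Over.forget _).map ((Over.pullback x).map i)) := hiso
  exact isIso_of_reflects_iso _ (Over.forget _)

/-- Base change in two steps. -/
lemma isIso_map_comp_iff {S' S'' : Scheme.{u}} (f : S' ⟶ S) (g : S'' ⟶ S') {Z Y : Over S}
    (i : Z ⟶ Y) : IsIso ((Over.pullback (g ≫ f)).map i) ↔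
      IsIso ((Over.pullback g).map ((Over.pullback f).map i)) :=
  NatIso.isIso_map_iff (Over.pullbackComp g f) i

/-- A closed immersion `i : Z ⟶ Y` over `S` with `Z` flat, locally of finite presentation and with
a section over `S`, which is an isomorphism on the fibre over `s`, is an isomorphism over a
neighbourhood of `s` if the geometric fibres of `Y` are integral. -/
theorem exists_open_isIso {Z Y : Over S} (i : Z ⟶ Y) [IsClosedImmersion i.left] [Flat Z.hom]
    [LocallyOfFinitePresentation Z.hom] [LocallyOfFiniteType Y.hom] (e : S ⟶ Z.left)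
    (he : e ≫ Z.hom = 𝟙 S)
    (hY : ∀ s : S, IsIntegral (Red.geomFibre s Y).left)
    (s : S) (K : Type u) [Field K] (x : Spec (CommRingCat.of K) ⟶ S)
    (hx : x (IsLocalRing.closedPoint K) = s) (hiso : IsIso ((Over.pullback x).map i)) :
    ∃ U : S.Opens, s ∈ U ∧ IsIso ((Over.pullback U.ι).map i) := by
  have hy : Y.hom (i.left (e s)) = s := by
    rw [← Scheme.Hom.comp_apply, ← Scheme.Hom.comp_apply, Over.w i, he]
    rfl
  obtain ⟨W, hyW, hW⟩ := exists_open_subset_range i (i.left (e s)) K x (hx.trans hy.symm) hiso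
  refine ⟨(e ≫ i.left) ⁻¹ᵁ W, hyW, ?_⟩
  set U : S.Opens := (e ≫ i.left) ⁻¹ᵁ W with hU
  have h1 := isPullback_map_left U.ι i
  have hcl : IsClosedImmersion ((Over.pullback U.ι).map i).left :=
    MorphismProperty.of_isPullback h1 inferInstance
  have hfl : Flat ((Over.pullback U.ι).obj Z).hom :=
    inferInstanceAs (Flat (pullback.snd Z.hom U.ι))
  have hlfp : LocallyOfFinitePresentation ((Over.pullback U.ι).obj Z).hom :=
    inferInstanceAs (LocallyOfFinitePresentation (pullback.snd Z.hom U.ι))
  have hlft : LocallyOfFiniteType ((Over.pullback U.ι).obj Y).hom :=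
    inferInstanceAs (LocallyOfFiniteType (pullback.snd Y.hom U.ι))
  refine isIso_of_fibres _ fun t => ?_
  let κ := AlgebraicClosure (S.residueField t.1)
  have htr : Set.range (Red.geomPt t.1) ⊆ Set.range U.ι := by
    rintro _ ⟨k, rfl⟩
    rw [Scheme.Opens.range_ι]
    have h2 : Red.geomPt t.1 k = t.1 := by
      rw [Scheme.Hom.comp_apply]
      exact Scheme.fromSpecResidueField_apply _ _
    rw [h2]
    exact t.2
  refine ⟨κ, inferInstance, IsOpenImmersion.lift U.ι (Red.geomPt t.1) htr, ?_, ?_⟩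
  · apply U.ι.isOpenEmbedding.injective
    rw [← Scheme.Hom.comp_apply, IsOpenImmersion.lift_fac, Scheme.Hom.comp_apply]
    exact Scheme.fromSpecResidueField_apply _ _
  · rw [← isIso_map_comp_iff, IsOpenImmersion.lift_fac]
    have hint : IsIntegral (Red.bc (Red.geomPt t.1) Y).left := hY t.1
    let x' : Spec (CommRingCat.of κ) ⟶ pullback Y.hom (Red.geomPt t.1) :=
      pullback.lift (Red.geomPt t.1 ≫ e ≫ i.left) (𝟙 _) (by
        have h5 : (e ≫ i.left) ≫ Y.hom = 𝟙 S := by rw [Category.assoc, Over.w i, he]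
        rw [Category.assoc (Red.geomPt t.1) (e ≫ i.left) Y.hom, h5, Category.comp_id,
          Category.id_comp])
    refine isIso_of_mem_open (Red.geomPt t.1) i W hW (x' (IsLocalRing.closedPoint κ)) ?_
    have h3 : x' ≫ pullback.fst Y.hom (Red.geomPt t.1) = Red.geomPt t.1 ≫ e ≫ i.left :=
      pullback.lift_fst _ _ _
    rw [← Scheme.Hom.comp_apply, h3, Scheme.Hom.comp_apply]
    have h4 : Red.geomPt t.1 (IsLocalRing.closedPoint κ) = t.1 := by
      rw [Scheme.Hom.comp_apply]
      exact Scheme.fromSpecResidueField_apply _ _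
    rw [h4]
    exact t.2

end Groth.Agent.Sga3B.Parab.FibIsoSch
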