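import Groth.Agent.Sga3B.Parab.DynSmooth678
import Groth.Agent.Sga3B.Parab.DynBc998
import Groth.Agent.Sga3B.Parab.NearIso

/-!
# The dynamic subgroups of `H` are `H` if they are on the geometric fibres

`H` smooth affine over `S` with a cocharacter `λ`.  If `P_H(λ) = H` (resp. `U_H(λ) = H`,
`Z_H(λ) = H`) on every geometric fibre, then this holds over `S`; if this holds on the fibre over
one point and the geometric fibres of `H` are integral, then this holds over a neighbourhood.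
-/

set_option autoImplicit false
set_option linter.unusedSectionVars false

universe u

open CategoryTheory MonoidalCategory CartesianMonoidalCategory MonObj GrpObj AlgebraicGeometry Limits
open Groth.Agent.Sga3B.Parab.FibIsoSch Groth.Agent.Sga3B.Parab.DynExist998

namespace Groth.Agent.Sga3B.Parab.DynFib678

variable {S : Scheme.{u}} {H : Over S} [GrpObj H] {lam : Red.Gm S ⟶ H}

section Id

lemma isDynP_id_iff : IsDynP lam (𝟙 H) ↔ ∀ (X : Over S) (g : X ⟶ H), PtP lam g := by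
  constructor
  · intro h X g
    exact (h.iff_ptP X g).1 ⟨g, Category.comp_id _⟩
  · intro h
    exact ⟨inferInstance, inferInstance, fun X g => ⟨fun _ => h X g, fun _ => ⟨g, Category.comp_id _⟩⟩⟩

lemma isDynU_id_iff : IsDynU lam (𝟙 H) ↔ ∀ (X : Over S) (g : X ⟶ H), PtU lam g := by
  constructor
  · intro h X g
    exact (h.iff_ptU X g).1 ⟨g, Category.comp_id _⟩
  · intro h
    exact ⟨inferInstance, inferInstance, fun X g => ⟨fun _ => h X g, fun _ => ⟨g, Category.comp_id _⟩⟩⟩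

lemma isDynZ_id_iff : IsDynZ lam (𝟙 H) ↔ ∀ (X : Over S) (g : X ⟶ H), PtZ lam g := by
  constructor
  · intro h X g
    exact (h.iff_ptZ X g).1 ⟨g, Category.comp_id _⟩
  · intro h
    exact ⟨inferInstance, inferInstance, fun X g => ⟨fun _ => h X g, fun _ => ⟨g, Category.comp_id _⟩⟩⟩

variable {P : Over S} [GrpObj P] {p : P ⟶ H}

/-- `P_H(λ) = H` iff the inclusion of `P_H(λ)` is an isomorphism. -/
lemma _root_.Groth.Agent.Sga3B.Parab.IsDynP.isIso_iff (h : IsDynP lam p) :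
    IsIso p ↔ IsDynP lam (𝟙 H) := by
  constructor
  · intro _
    rw [isDynP_id_iff]
    intro X g
    exact (h.iff_ptP X g).1 ⟨g ≫ inv p, by simp⟩
  · intro h'
    obtain ⟨φ, -, hφ⟩ := h.exists_iso h'
    rw [← hφ]
    infer_instance

lemma _root_.Groth.Agent.Sga3B.Parab.IsDynU.isIso_iff (h : IsDynU lam p) :
    IsIso p ↔ IsDynU lam (𝟙 H) := by
  constructor
  · intro _
    rw [isDynU_id_iff]
    intro X g
    exact (h.iff_ptU X g).1 ⟨g ≫ inv p, by simp⟩
  · intro h'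
    obtain ⟨φ, -, hφ⟩ := h.exists_iso h'
    rw [← hφ]
    infer_instance

lemma _root_.Groth.Agent.Sga3B.Parab.IsDynZ.isIso_iff (h : IsDynZ lam p) :
    IsIso p ↔ IsDynZ lam (𝟙 H) := by
  constructor
  · intro _
    rw [isDynZ_id_iff]
    intro X g
    exact (h.iff_ptZ X g).1 ⟨g ≫ inv p, by simp⟩
  · intro h'
    obtain ⟨φ, -, hφ⟩ := h.exists_iso h'
    rw [← hφ]
    infer_instance

end Id

section Fibres

variable [IsMonHom lam] [IsAffineHom H.hom] [Smooth H.hom]

/-- **(D0)** `P_H(λ) = H` can be checked on geometric fibres. -/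
theorem isDynP_id_of_fibres
    (h : ∀ s : S, ∃ (K : Type u) (_ : Field K) (x : Spec (CommRingCat.of K) ⟶ S),
      x (IsLocalRing.closedPoint K) = s ∧ IsDynP (bcLam lam x) (𝟙 (Red.bc x H))) :
    IsDynP lam (𝟙 H) := by
  obtain ⟨P, _, p, hp, hc⟩ := exists_isDynP lam
  have := hp.smooth
  rw [← hp.isIso_iff]
  refine isIso_of_fibres p fun s => ?_
  obtain ⟨K, _, x, hx, h1⟩ := h s
  exact ⟨K, inferInstance, x, hx, (hp.bc x).isIso_iff.2 h1⟩

/-- `U_H(λ) = H` can be checked on geometric fibres. -/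
theorem isDynU_id_of_fibres
    (h : ∀ s : S, ∃ (K : Type u) (_ : Field K) (x : Spec (CommRingCat.of K) ⟶ S),
      x (IsLocalRing.closedPoint K) = s ∧ IsDynU (bcLam lam x) (𝟙 (Red.bc x H))) :
    IsDynU lam (𝟙 H) := by
  obtain ⟨P, _, p, hp, hc⟩ := exists_isDynU lam
  have := hp.smooth
  rw [← hp.isIso_iff]
  refine isIso_of_fibres p fun s => ?_
  obtain ⟨K, _, x, hx, h1⟩ := h s
  exact ⟨K, inferInstance, x, hx, (hp.bc x).isIso_iff.2 h1⟩

/-- `Z_H(λ) = H` can be checked on geometric fibres. -/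
theorem isDynZ_id_of_fibres
    (h : ∀ s : S, ∃ (K : Type u) (_ : Field K) (x : Spec (CommRingCat.of K) ⟶ S),
      x (IsLocalRing.closedPoint K) = s ∧ IsDynZ (bcLam lam x) (𝟙 (Red.bc x H))) :
    IsDynZ lam (𝟙 H) := by
  obtain ⟨P, _, p, hp, hc⟩ := exists_isDynZ lam
  have := hp.smooth
  rw [← hp.isIso_iff]
  refine isIso_of_fibres p fun s => ?_
  obtain ⟨K, _, x, hx, h1⟩ := h s
  exact ⟨K, inferInstance, x, hx, (hp.bc x).isIso_iff.2 h1⟩

variable (hH : ∀ s : S, IsIntegral (Red.geomFibre s H).left) (s : S) (K : Type u) [Field K]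
  (x : Spec (CommRingCat.of K) ⟶ S) (hx : x (IsLocalRing.closedPoint K) = s)

include hH hx

/-- `P_H(λ) = H` on the fibre over `s` implies `P_H(λ) = H` over a neighbourhood of `s`. -/
theorem exists_open_isDynP_id (h : IsDynP (bcLam lam x) (𝟙 (Red.bc x H))) :
    ∃ U : S.Opens, s ∈ U ∧ IsDynP (bcLam lam U.ι) (𝟙 (Red.bc U.ι H)) := by
  obtain ⟨P, _, p, hp, hc⟩ := exists_isDynP lam
  have := hp.smooth
  obtain ⟨U, hU, h1⟩ := exists_open_isIso p η[P].left (Over.w η[P]) hH s K x hx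
    ((hp.bc x).isIso_iff.2 h)
  exact ⟨U, hU, (hp.bc U.ι).isIso_iff.1 h1⟩

/-- `U_H(λ) = H` on the fibre over `s` implies `U_H(λ) = H` over a neighbourhood of `s`. -/
theorem exists_open_isDynU_id (h : IsDynU (bcLam lam x) (𝟙 (Red.bc x H))) :
    ∃ U : S.Opens, s ∈ U ∧ IsDynU (bcLam lam U.ι) (𝟙 (Red.bc U.ι H)) := by
  obtain ⟨P, _, p, hp, hc⟩ := exists_isDynU lam
  have := hp.smooth
  obtain ⟨U, hU, h1⟩ := exists_open_isIso p η[P].left (Over.w η[P]) hH s K x hx
    ((hp.bc x).isIso_iff.2 h)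
  exact ⟨U, hU, (hp.bc U.ι).isIso_iff.1 h1⟩

/-- `Z_H(λ) = H` on the fibre over `s` implies `Z_H(λ) = H` over a neighbourhood of `s`. -/
theorem exists_open_isDynZ_id (h : IsDynZ (bcLam lam x) (𝟙 (Red.bc x H))) :
    ∃ U : S.Opens, s ∈ U ∧ IsDynZ (bcLam lam U.ι) (𝟙 (Red.bc U.ι H)) := by
  obtain ⟨P, _, p, hp, hc⟩ := exists_isDynZ lam
  have := hp.smooth
  obtain ⟨U, hU, h1⟩ := exists_open_isIso p η[P].left (Over.w η[P]) hH s K x hx
    ((hp.bc x).isIso_iff.2 h)
  exact ⟨U, hU, (hp.bc U.ι).isIso_iff.1 h1⟩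

end Fibres

end Groth.Agent.Sga3B.Parab.DynFib678
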