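import Groth.Agent.Sga3B.Parab.PcU
import Groth.Agent.Sga3B.Parab.RedCover147

/-!
# A parabolic subgroup together with a Levi subgroup is locally given by a cocharacter

(PcL): `P = P_G(λ)`, `U = U_G(λ)` and `L = Z_G(λ)` for a cocharacter `λ`, étale locally on the base,
as soon as `P` is étale locally of the form `P_G(λ)`.
-/

set_option autoImplicit false
set_option linter.unusedSectionVars false

universe u

open CategoryTheory MonoidalCategory CartesianMonoidalCategory MonObj GrpObj Limits AlgebraicGeometry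

namespace Groth.Agent.Sga3B.Parab.PcL783

open Groth.Agent.Sga3B.Par.LeviProj Groth.Agent.Sga3B.Par.LocMain Groth.Agent.Sga3B.Par.LocBC

section Conj

variable {S : Scheme.{u}} {G : Over S} [GrpObj G] {lam mu : Red.Gm S ⟶ G}
  {C : Type u} [CommRing C] {c : Spec (CommRingCat.of C) ⟶ S}

/-- At `c` the cocharacter `mu` is the conjugate of `lam` by `w`. -/
def CocConj (lam mu : Red.Gm S ⟶ G) (w : aff C c ⟶ G) : Prop :=
  tPt C c ≫ mu = (gmPr C c ≫ w) * (tPt C c ≫ lam) * (gmPr C c ≫ w)⁻¹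

lemma CocConj.symm {w : aff C c ⟶ G} (h : CocConj lam mu w) : CocConj mu lam w⁻¹ := by
  rw [CocConj, h, GrpObj.comp_inv]
  group

lemma CocConj.orb {w : aff C c ⟶ G} (h : CocConj lam mu w) (g : aff C c ⟶ G) :
    orb mu (w * g * w⁻¹) = (gmPr C c ≫ w) * orb lam g * (gmPr C c ≫ w)⁻¹ := by
  rw [Parab.orb, Parab.orb, h, MonObj.comp_mul, MonObj.comp_mul, GrpObj.comp_inv]
  group

lemma CocConj.limEx {w g : aff C c ⟶ G} (h : CocConj lam mu w) (hg : LimEx lam g) :
    LimEx mu (w * g * w⁻¹) := by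
  obtain ⟨k, hk⟩ := hg
  refine ⟨(linPr C c ≫ w) * k * (linPr C c ≫ w)⁻¹, ?_⟩
  rw [h.orb, MonObj.comp_mul, MonObj.comp_mul, GrpObj.comp_inv, hk, ← Category.assoc,
    Dyn998.toLin_linPr]

lemma CocConj.limOne {w g : aff C c ⟶ G} (h : CocConj lam mu w) (hg : LimOne lam g) :
    LimOne mu (w * g * w⁻¹) := by
  obtain ⟨k, hk, hk0⟩ := hg
  refine ⟨(linPr C c ≫ w) * k * (linPr C c ≫ w)⁻¹, ?_, ?_⟩
  · rw [h.orb, MonObj.comp_mul, MonObj.comp_mul, GrpObj.comp_inv, hk, ← Category.assoc,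
      Dyn998.toLin_linPr]
  · rw [MonObj.comp_mul, MonObj.comp_mul, GrpObj.comp_inv, hk0]
    group

/-- Conjugation of the cocharacter by a point of `P_G(λ)` does not change `P_G(λ)`. -/
lemma CocConj.limEx_iff {w : aff C c ⟶ G} (h : CocConj lam mu w) (hw : LimEx lam w)
    (g : aff C c ⟶ G) : LimEx mu g ↔ LimEx lam g := by
  have hw' : LimEx mu w := by
    have := h.limEx hw
    rwa [_root_.mul_assoc, mul_inv_cancel, _root_.mul_one] at this
  constructor
  · intro hg
    have h1 := h.symm.limEx ((hw'.inv.mul hg).mul hw')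
    have h2 := (hw.mul (h.symm.limEx hg)).mul hw.inv
    have e : w * (w⁻¹ * g * w⁻¹⁻¹) * w⁻¹ = g := by group
    rwa [e] at h2
  · intro hg
    have h1 := h.limEx ((hw.inv.mul hg).mul hw)
    have e : w * (w⁻¹ * g * w) * w⁻¹ = g := by group
    rwa [e] at h1

/-- Conjugation of the cocharacter by a point of `P_G(λ)` does not change `U_G(λ)`. -/
lemma CocConj.limOne_iff {w : aff C c ⟶ G} (h : CocConj lam mu w) (hw : LimEx lam w)
    (g : aff C c ⟶ G) : LimOne mu g ↔ LimOne lam g := by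
  constructor
  · intro hg
    have h1 := (h.symm.limOne hg).conj hw
    have e : w * (w⁻¹ * g * w⁻¹⁻¹) * w⁻¹ = g := by group
    rwa [e] at h1
  · intro hg
    have h1 := h.limOne (hg.conj hw.inv)
    have e : w * (w⁻¹ * g * w⁻¹⁻¹) * w⁻¹ = g := by group
    rwa [e] at h1

end Conj

section Main

variable {R : Type u} [CommRing R] {G P U Z L : Over (Spec (CommRingCat.of R))}
  [GrpObj G] [GrpObj P] [GrpObj U] [GrpObj Z] [GrpObj L]

/-- Over an affine base, if `P = P_G(λ)`, `U = U_G(λ)` and `L` is any complement of `U` in `P` then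
there is a cocharacter `μ` with `P = P_G(μ)`, `U = U_G(μ)`, `L = Z_G(μ)`. -/
theorem exists_mu (lam : Red.Gm (Spec (CommRingCat.of R)) ⟶ G) [IsMonHom lam] [IsAffineHom G.hom]
    {p : P ⟶ G} (hp : IsDynP lam p) {u : U ⟶ P} (hu : IsDynU lam (u ≫ p)) {z : Z ⟶ P}
    (hz : IsDynZ lam (z ≫ p)) {l : L ⟶ P} (h' : IsSemi l u) :
    ∃ mu : Red.Gm (Spec (CommRingCat.of R)) ⟶ G, IsMonHom mu ∧ IsDynP mu p ∧
      IsDynU mu (u ≫ p) ∧ IsDynZ mu (l ≫ p) := by
  have hpm := hp.isMonHom
  have hpmono := hp.mono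
  have hum := hu.isMonHom
  have humono := hu.mono
  have hzmono := hz.mono
  have h : IsSemi z u := ⟨DynLevi998.isMonHom_zP hp hz, DynLevi998.isMonHom_uP hp hu,
    mono_of_mono u p, DynLevi998.isNormalHom_uP hp hu, DynLevi998.isIso_levi hp hz hu⟩
  have := h.monHom_l
  have := h.monHom_u
  have := h'.monHom_l
  have := h.mono_u
  have hm_l : Mono l := by
    constructor
    intro X a b hab
    have := congrArg (· ≫ prL h') hab
    simpa only [Category.assoc, l_prL, Category.comp_id] using this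
  obtain ⟨lamL, hL⟩ : ∃ lamL : Red.Gm _ ⟶ Z, lamL ≫ z ≫ p = lam :=
    (hz.iff_ptZ _ _).2 LimLift.ptZ_lam
  obtain ⟨v, hv⟩ := exists_conj_chart h h' p lam (𝟙 _) hu lamL hL
  have hlamL : IsMonHom (lamL ≫ z) := by
    apply Pts.isMonHom_of_points
    intro X x y
    rw [← cancel_mono p, MonObj.mul_comp _ _ p]
    simp only [Category.assoc, hL]
    exact MonObj.mul_comp x y lam
  let cL : Red.Gm _ ⟶ L := (lamL ≫ z) ≫ prL h'
  let mu : Red.Gm (Spec (CommRingCat.of R)) ⟶ G := cL ≫ l ≫ p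
  have hmu : IsMonHom mu := by
    change IsMonHom (((lamL ≫ z) ≫ prL h') ≫ l ≫ p)
    infer_instance
  -- the conjugating point at any affine scheme
  have key : ∀ (C : Type u) [CommRing C] (c : Spec (CommRingCat.of C) ⟶ Spec (CommRingCat.of R)),
      ∃ w : aff C c ⟶ U, CocConj lam mu (w ≫ u ≫ p) := by
    intro C _ c
    let x : aff C c ⟶ aff R (𝟙 _) := Over.homMk c (Category.comp_id _)
    refine ⟨x ≫ v, ?_⟩
    have h1 := congrArg (fun a => Dyn998.mapG x ≫ a ≫ p) hv
    rw [MonObj.mul_comp, MonObj.mul_comp, GrpObj.inv_comp, MonObj.comp_mul, MonObj.comp_mul,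
      GrpObj.comp_inv] at h1
    simp only [Category.assoc, hL, Dyn998.mapG_gmPr_assoc, Dyn998.mapG_tPt_assoc] at h1
    rw [CocConj]
    simp only [mu, cL, Category.assoc]
    exact h1.symm
  have hwP : ∀ (C : Type u) [CommRing C] (c : Spec (CommRingCat.of C) ⟶ Spec (CommRingCat.of R))
      (w : aff C c ⟶ U), LimEx lam (w ≫ u ≫ p) := fun C _ c w =>
    (hu.ptU C c w).limEx
  have hPtP : ∀ {X : Over (Spec (CommRingCat.of R))} (g : X ⟶ G), PtP mu g ↔ PtP lam g := by
    intro X g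
    constructor <;> intro hg C _ c x <;> obtain ⟨w, hw⟩ := key C c
    · exact (hw.limEx_iff (hwP C c w) _).1 (hg C c x)
    · exact (hw.limEx_iff (hwP C c w) _).2 (hg C c x)
  have hPtU : ∀ {X : Over (Spec (CommRingCat.of R))} (g : X ⟶ G), PtU mu g ↔ PtU lam g := by
    intro X g
    constructor <;> intro hg C _ c x <;> obtain ⟨w, hw⟩ := key C c
    · exact (hw.limOne_iff (hwP C c w) _).1 (hg C c x)
    · exact (hw.limOne_iff (hwP C c w) _).2 (hg C c x)
  -- `cL` is central in `L`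
  have hcen : ∀ {Y : Over (Spec (CommRingCat.of R))} (a : Y ⟶ L) (t : Y ⟶ Red.Gm _),
      a * (t ≫ cL) = (t ≫ cL) * a := by
    intro Y a t
    have e1 : ∀ b : Y ⟶ Z, b * (t ≫ lamL) = (t ≫ lamL) * b := by
      intro b
      rw [← cancel_mono (z ≫ p), MonObj.mul_comp, MonObj.mul_comp]
      have h2 := (DynExist998.ptZ_iff_centralizes (lam := lam) (b ≫ z ≫ p)).1 (hz.ptZ.comp b)
      have h3 := h2 Y (𝟙 Y) t
      simp only [Category.id_comp, Category.assoc, hL] at h3 ⊢
      exact h3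
    have e2 : a = ((a ≫ l ≫ prL h) ≫ z) ≫ prL h' := by
      have := (leviIso h h').inv_hom_id
      change (l ≫ prL h) ≫ z ≫ prL h' = 𝟙 L at this
      simp only [Category.assoc] at this ⊢
      rw [this, Category.comp_id]
    have e3 := congrArg (fun b => b ≫ z ≫ prL h') (e1 (a ≫ l ≫ prL h))
    rw [MonObj.mul_comp, MonObj.mul_comp] at e3
    simp only [Category.assoc] at e2 e3
    simp only [cL, Category.assoc]
    rw [← e2] at e3
    exact e3
  refine ⟨mu, hmu, ⟨hpm, hpmono, fun X g => by rw [hp.iff_ptP, hPtP]⟩,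
    ⟨hum, humono, fun X g => by rw [hu.iff_ptU, hPtU]⟩, ⟨inferInstance, mono_comp _ _, ?_⟩⟩
  intro X g
  constructor
  · rintro ⟨a, rfl⟩
    rw [DynExist998.ptZ_iff_centralizes]
    intro Y y t
    have e := congrArg (fun b => b ≫ l ≫ p) (hcen (y ≫ a) t)
    rw [MonObj.mul_comp, MonObj.mul_comp] at e
    simp only [mu, Category.assoc] at e ⊢
    exact e
  · intro hg
    obtain ⟨x, rfl⟩ := (hp.iff_ptP _ g).2 ((hPtP _).1 hg.ptP)
    obtain ⟨a, b, hab⟩ := exists_fac h' x
    have hb : b ≫ u ≫ p = 1 := by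
      apply AffPts998.hom_ext_aff
      intro C _ c y
      rw [MonObj.comp_one]
      have h1 : LimOne mu (y ≫ b ≫ u ≫ p) := (hPtU _).2 (hu.ptU.comp b) C c y
      have h2 : OrbConst mu (y ≫ b ≫ u ≫ p) := by
        have h3 : y ≫ b ≫ u ≫ p = (y ≫ a ≫ l ≫ p)⁻¹ * (y ≫ x ≫ p) := by
          rw [← hab, MonObj.mul_comp, MonObj.comp_mul]
          simp only [Category.assoc]
          group
        rw [h3]
        refine (OrbConst.inv ?_).mul (hg C c y)
        apply orbConst_of_comm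
        have e := congrArg (fun b => b ≫ l ≫ p) (hcen (gmPr C c ≫ y ≫ a) (tPt C c))
        rw [MonObj.mul_comp, MonObj.mul_comp] at e
        simp only [mu, Category.assoc] at e ⊢
        exact e
      exact h1.eq_one h2
    refine ⟨a, ?_⟩
    rw [← hab, MonObj.mul_comp, Category.assoc, Category.assoc, hb, _root_.mul_one]

end Main

section Final

variable {S : Scheme.{u}} {G P U L : Over S} [GrpObj G] [GrpObj P] [GrpObj U] [GrpObj L]

/-- A complement of a normal subgroup is closed. -/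
lemma isClosedImmersion_of_isSemi {l : L ⟶ P} {u : U ⟶ P} (h : IsSemi l u) [IsAffineHom P.hom]
    [IsAffineHom L.hom] : IsClosedImmersion l.left := by
  have h1 : IsAffineHom (prL h).left := by
    have : IsAffineHom ((prL h).left ≫ L.hom) := by
      rw [Over.w]
      infer_instance
    exact .of_comp (prL h).left L.hom
  have h2 : IsClosedImmersion (l.left ≫ (prL h).left) := by
    rw [← Over.comp_left, l_prL]
    exact inferInstanceAs (IsClosedImmersion (𝟙 L.left))
  exact .of_comp l.left (prL h).left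

/-- The base change of the unipotent radical of `P` along an étale morphism over which `P` becomes
`P_G(λ)` is `U_G(λ)`. -/
theorem isDynU_bc (hg : DynGeomU.{u}) (h3 : DynK3.{u}) (hG : Red.IsReductive G) {p : P ⟶ G}
    {u : U ⟶ P} (hu : Par.IsUnipotentRadical u) {l : L ⟶ P} (hl : Par.IsLevi l) {S' : Scheme.{u}}
    (f : S' ⟶ S) [Etale f] (lam : Red.Gm S' ⟶ Red.bc f G) [IsMonHom lam]
    (hp : IsDynP lam ((Over.pullback f).map p)) :
    IsDynU lam ((Over.pullback f).map (u ≫ p)) := by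
  have hqf : LocallyQuasiFinite f := Desc.LQF.of_etale f
  have hG' : Red.IsReductive (Red.bc f G) := RedCover147.isReductive_bc f hG
  have hGa : IsAffineHom (Red.bc f G).hom := hG'.1
  have hGs : Smooth (Red.bc f G).hom := hG'.2.1
  have hpm := hp.isMonHom
  have hpmono := hp.mono
  have hpcl : IsClosedImmersion ((Over.pullback f).map p).left := hp.isClosedImmersion
  have hPa : IsAffineHom (Red.bc f P).hom := isAffineHom_of_closed _ hpcl hGa
  have h' := IsSemi.bc (isSemi_of_isLevi hl hu) f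
  have hL' : Red.IsReductive (Red.bc f L) := RedCover147.isReductive_bc f hl.2.2.1
  have hLa : IsAffineHom (Red.bc f L).hom := hL'.1
  have hlcl := isClosedImmersion_of_isSemi h'
  have := h'.monHom_l
  have := h'.monHom_u
  have := h'.mono_u
  have := h'.iso
  obtain ⟨U1, _, u1, hu1, -⟩ := DynExist998.exists_isDynU lam
  obtain ⟨Z1, _, z1, hz1, -⟩ := DynExist998.exists_isDynZ lam
  obtain ⟨u2, rfl⟩ := DynLevi998.exists_uP hp hu1
  obtain ⟨z2, rfl⟩ := DynLevi998.exists_zP hp hz1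
  have hrad := isUnipotentRadical_of_isDyn lam hg h3 hG' _ hp u2 hu1 z2 hz1
  have hum2 := hrad.1
  have hucl2 : IsClosedImmersion u2.left := hrad.2.1
  have hUa : IsAffineHom U1.hom := isAffineHom_of_closed _ hucl2 hPa
  -- `U ≤ U_G(λ)`
  have hus := hu.2.2.2.1
  have huq := hu.2.2.2.2.1
  obtain ⟨f1, hf1⟩ := hrad.2.2.2.2.2.2 (Red.bc f U) ((Over.pullback f).map u)
    (Inter.isClosedImmersion_bc f u hu.2.1) (Inter.isNormalHom_bc f u hu.2.2.1)
    (inferInstanceAs (Smooth (pullback.snd U.hom f)))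
    (inferInstanceAs (QuasiCompact (pullback.snd U.hom f)))
    (fun s' => ⟨(GeomFib147.connectedSpace_fibre_iff f s' U).2 (hu.2.2.2.2.2.1 (f s')).1,
      (GeomFib147.hasNoSubtorus_fibre_iff f s' U).2 (hu.2.2.2.2.2.1 (f s')).2⟩)
  -- `U_G(λ) ≤ U`
  obtain ⟨f2, hf2⟩ := Kill.exists_factor ((Over.pullback f).map l) ((Over.pullback f).map u)
    hlcl hL' u2 hucl2 hrad.2.2.1 hrad.2.2.2.1 hUa hrad.2.2.2.2.2.1
    (𝟙 U1 * (u2 ≫ Semi.qr ((Over.pullback f).map l) ((Over.pullback f).map u) ≫ f1)⁻¹) (by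
      have h1 := Semi.pr_mul_qr ((Over.pullback f).map l) ((Over.pullback f).map u) u2
      rw [MonObj.mul_comp, GrpObj.inv_comp, Category.id_comp, Category.assoc, Category.assoc, hf1]
      exact mul_inv_eq_of_eq_mul h1.symm)
  have hu1m := hu1.isMonHom
  have hu1mono := hu1.mono
  rw [Functor.map_comp]
  refine ⟨inferInstance, mono_comp _ _, fun X g => ?_⟩
  · rw [← hu1.iff_ptU]
    constructor
    · rintro ⟨x, rfl⟩
      exact ⟨x ≫ f1, by rw [← hf1]; simp only [Category.assoc]⟩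
    · rintro ⟨x, rfl⟩
      exact ⟨x ≫ f2, by rw [← hf2]; simp only [Category.assoc]⟩

/-- **(PcL)** If `P` becomes `P_G(λ)` over the étale affine `S`-scheme `S'` then for the unipotent
radical `U` and any Levi subgroup `L` of `P` there is a cocharacter `μ` over `S'` with
`P = P_G(μ)`, `U = U_G(μ)` and `L = Z_G(μ)`. -/
theorem exists_cochar (hg : DynGeomU.{u}) (h3 : DynK3.{u}) (hG : Red.IsReductive G) {p : P ⟶ G}
    {u : U ⟶ P} (hu : Par.IsUnipotentRadical u) {l : L ⟶ P} (hl : Par.IsLevi l)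
    {R : Type u} [CommRing R] (f : Spec (CommRingCat.of R) ⟶ S) [Etale f]
    (lam : Red.Gm (Spec (CommRingCat.of R)) ⟶ Red.bc f G) [IsMonHom lam]
    (hp : IsDynP lam ((Over.pullback f).map p)) :
    ∃ mu : Red.Gm (Spec (CommRingCat.of R)) ⟶ Red.bc f G, IsMonHom mu ∧
      IsDynP mu ((Over.pullback f).map p) ∧ IsDynU mu ((Over.pullback f).map (u ≫ p)) ∧
      IsDynZ mu ((Over.pullback f).map (l ≫ p)) := by
  have hU := isDynU_bc hg h3 hG hu hl f lam hp
  have hGa : IsAffineHom (Red.bc f G).hom := by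
    have := hG.1
    exact inferInstanceAs (IsAffineHom (pullback.snd G.hom f))
  have h' := IsSemi.bc (isSemi_of_isLevi hl hu) f
  obtain ⟨Z1, _, z1, hz1, -⟩ := DynExist998.exists_isDynZ lam
  obtain ⟨z2, rfl⟩ := DynLevi998.exists_zP hp hz1
  rw [Functor.map_comp] at hU ⊢
  rw [Functor.map_comp]
  exact exists_mu lam hp hU hz1 h'

end Final

end Groth.Agent.Sga3B.Parab.PcL783
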