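import Groth.Agent.Sga3B.Parab.Chart998
import Groth.Agent.Sga3C.CWGlue
import Groth.Agent.Sga3C.ClosedSub

/-!
# Conditions on points of an affine `S`-group which are given by ideals are closed subschemes
-/

set_option autoImplicit false
set_option linter.unusedSectionVars false

universe u

open CategoryTheory MonoidalCategory CartesianMonoidalCategory MonObj GrpObj AlgebraicGeometry Limits
open scoped LaurentPolynomial Polynomial TensorProduct
open WithConv
open Groth.Agent.Books.AffBridge Groth.Agent.Books.DynBasic Groth.Agent.Books.DynLim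
open Groth.Agent.Sga3B.Parab.Chart998 Groth.Agent.Sga3C

namespace Groth.Agent.Sga3B.Parab.Rep998

variable {S : Scheme.{u}} {G : Over S} [GrpObj G]

section Chart

lemma isAffine_bc [IsAffineHom G.hom] {R : Type u} [CommRing R] (r : Spec (CommRingCat.of R) ⟶ S) :
    IsAffine (Red.bc r G).left := by
  have : IsAffineHom (Red.bc r G).hom := by
    change IsAffineHom (pullback.snd G.hom r)
    infer_instance
  exact isAffine_of_isAffineHom (Red.bc r G).hom

/-- an affine group over `S` has charts -/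
lemma exists_chart [IsAffineHom G.hom] {R : Type u} [CommRing R]
    (r : Spec (CommRingCat.of R) ⟶ S) :
    ∃ (A : Type u) (_ : CommRing A) (_ : HopfAlgebra R A) (e : Red.bc r G ≅ SpecOver R A),
      IsMonHom e.hom := by
  have := isAffine_bc (G := G) r
  exact exists_hopf R (Red.bc r G)

variable {R : Type u} [CommRing R] {r : Spec (CommRingCat.of R) ⟶ S}
variable {A : Type u} [CommRing A] [HopfAlgebra R A] (e : Red.bc r G ≅ SpecOver R A) [IsMonHom e.hom]
variable {C : Type u} [CommRing C] [Algebra R C] {c : Spec (CommRingCat.of C) ⟶ S}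
variable (hc : Spec.map (CommRingCat.ofHom (algebraMap R C)) ≫ r = c)

/-- the chart as a morphism to `G` -/
noncomputable def chartι : Spec (CommRingCat.of A) ⟶ G.left :=
  e.inv.left ≫ pullback.fst G.hom r

lemma chartι_hom : chartι e ≫ G.hom = Spec.map (CommRingCat.ofHom (algebraMap R A)) ≫ r := by
  rw [chartι, Category.assoc, pullback.condition, ← Category.assoc]
  congr 1
  exact Over.w e.inv

lemma pt_left (g : A →ₐ[R] C) :
    (pt e hc g).left = Spec.map (CommRingCat.ofHom g.toRingHom) ≫ chartι e := by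
  rw [pt, Over.comp_left, DSPts.bcEquiv_symm_left, Over.comp_left, chartι]
  change 𝟙 _ ≫ _ = _
  rw [Category.id_comp, Category.assoc]
  rfl

instance isIso_inv_left : IsIso e.inv.left := (Over.forget _).map_isIso e.inv

instance [IsOpenImmersion r] : IsOpenImmersion (chartι e) := by
  unfold chartι
  have h1 : IsOpenImmersion e.inv.left := IsOpenImmersion.of_isIso _
  have h2 : IsOpenImmersion (pullback.fst G.hom r) := inferInstance
  exact MorphismProperty.comp_mem _ _ _ h1 h2

lemma range_chartι [IsOpenImmersion r] : Set.range (chartι e) = G.hom ⁻¹' (Set.range r) := by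
  have h1 : Set.range (chartι e) = Set.range (pullback.fst G.hom r) := by
    have h2 : Function.Surjective e.inv.left := e.inv.left.surjective
    rw [chartι]
    ext x
    simp only [Set.mem_range, Scheme.Hom.comp_apply]
    constructor
    · rintro ⟨y, rfl⟩
      exact ⟨e.inv.left y, rfl⟩
    · rintro ⟨y, rfl⟩
      obtain ⟨z, rfl⟩ := h2 y
      exact ⟨z, rfl⟩
  rw [h1]
  exact IsOpenImmersion.range_pullbackFst r G.hom

end Chart

section Cond

variable (Q : ∀ (C : Type u) [CommRing C] (c : Spec (CommRingCat.of C) ⟶ S), (aff C c ⟶ G) → Prop)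

/-- the condition on general points deduced from a condition on affine points -/
def PtQ {X : Over S} (g : X ⟶ G) : Prop :=
  ∀ (C : Type u) [CommRing C] (c : Spec (CommRingCat.of C) ⟶ S) (x : aff C c ⟶ X), Q C c (x ≫ g)

/-- in every chart the condition is given by an ideal -/
def IdealCond : Prop :=
  ∀ (R : Type u) [CommRing R] (r : Spec (CommRingCat.of R) ⟶ S)
    (A : Type u) [CommRing A] [HopfAlgebra R A] (e : Red.bc r G ≅ SpecOver R A) [IsMonHom e.hom],
    ∃ J : Ideal A, ∀ (C : Type u) [CommRing C] [Algebra R C] (c : Spec (CommRingCat.of C) ⟶ S)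
      (hc : Spec.map (CommRingCat.ofHom (algebraMap R C)) ≫ r = c) (g : A →ₐ[R] C),
      Q C c (pt e hc g) ↔ ∀ a ∈ J, g a = 0

variable {Q}

lemma PtQ.comp {X Y : Over S} {g : X ⟶ G} (h : PtQ Q g) (y : Y ⟶ X) : PtQ Q (y ≫ g) := by
  intro C _ c x
  have := h C c (x ≫ y)
  rwa [Category.assoc] at this

variable (hQ : IdealCond Q)

include hQ

/-- the condition is stable under base change -/
lemma IdealCond.comp [IsAffineHom G.hom] {C C' : Type u} [CommRing C] [CommRing C']
    {c : Spec (CommRingCat.of C) ⟶ S} {c' : Spec (CommRingCat.of C') ⟶ S} (g : aff C c ⟶ G)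
    (h : Q C c g) (x : aff C' c' ⟶ aff C c) : Q C' c' (x ≫ g) := by
  obtain ⟨A, _, _, e, _⟩ := exists_chart (G := G) c
  obtain ⟨J, hJ⟩ := hQ C c A e
  obtain ⟨g, rfl⟩ := (pt_bijective e (hcR (r := c))).2 g
  rw [hJ] at h
  let ψ : C →+* C' := (Spec.preimage x.left).hom
  let _ : Algebra C C' := ψ.toAlgebra
  have hx : x.left = Spec.map (CommRingCat.ofHom ψ) := (Spec.map_preimage x.left).symm
  have hc' : Spec.map (CommRingCat.ofHom (algebraMap C C')) ≫ c = c' := by
    change Spec.map (CommRingCat.ofHom ψ) ≫ c = c'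
    rw [← hx]
    exact Over.w x
  rw [comp_pt e (hcR (r := c)) hc' (Algebra.ofId C C') x hx, hJ]
  intro a ha
  rw [AlgHom.comp_apply, h a ha, map_zero]

/-- on affine points the condition can be checked on the point itself -/
lemma IdealCond.ptQ_iff [IsAffineHom G.hom] {C : Type u} [CommRing C]
    {c : Spec (CommRingCat.of C) ⟶ S} (g : aff C c ⟶ G) : PtQ Q g ↔ Q C c g := by
  constructor
  · intro h
    have := h C c (𝟙 _)
    rwa [Category.id_comp] at this
  · intro h C' _ c' x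
    exact hQ.comp g h x

end Cond

section Rep

variable (Q : ∀ (C : Type u) [CommRing C] (c : Spec (CommRingCat.of C) ⟶ S), (aff C c ⟶ G) → Prop)

/-- the condition on morphisms to `G.left` -/
def PS : ∀ ⦃T : Scheme.{u}⦄, (T ⟶ G.left) → Prop := fun _ g =>
  PtQ Q (Over.homMk g rfl : Over.mk (g ≫ G.hom) ⟶ G)

variable {Q}

lemma ps_iff {X : Over S} (g : X ⟶ G) : PS Q g.left ↔ PtQ Q g := by
  constructor
  · intro h
    let y : X ⟶ Over.mk (g.left ≫ G.hom) := Over.homMk (𝟙 _) (by
      change 𝟙 _ ≫ g.left ≫ G.hom = X.hom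
      rw [Category.id_comp, Over.w])
    have h2 : y ≫ (Over.homMk g.left rfl : Over.mk (g.left ≫ G.hom) ⟶ G) = g := by
      ext1
      exact Category.id_comp _
    rw [← h2]
    exact PtQ.comp h y
  · intro h
    let y : Over.mk (g.left ≫ G.hom) ⟶ X := Over.homMk (𝟙 _) (by
      change 𝟙 _ ≫ X.hom = g.left ≫ G.hom
      rw [Category.id_comp, Over.w])
    have h2 : y ≫ g = (Over.homMk g.left rfl : Over.mk (g.left ≫ G.hom) ⟶ G) := by
      ext1
      exact Category.id_comp _
    rw [PS, ← h2]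
    exact PtQ.comp h y

lemma ps_pre {T' T : Scheme.{u}} (h : T' ⟶ T) (g : T ⟶ G.left) (hg : PS Q g) :
    PS Q (h ≫ g) := by
  let y : Over.mk ((h ≫ g) ≫ G.hom) ⟶ Over.mk (g ≫ G.hom) := Over.homMk h (by
    change h ≫ g ≫ G.hom = (h ≫ g) ≫ G.hom
    rw [Category.assoc])
  have h2 : y ≫ (Over.homMk g rfl : Over.mk (g ≫ G.hom) ⟶ G) =
    (Over.homMk (h ≫ g) rfl : Over.mk ((h ≫ g) ≫ G.hom) ⟶ G) := by
    ext1
    rfl
  rw [PS, ← h2]
  exact PtQ.comp hg y

variable (hQ : IdealCond Q) [IsAffineHom G.hom]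

include hQ

lemma ps_loc {T : Scheme.{u}} (g : T ⟶ G.left) (𝒰 : Scheme.OpenCover.{u} T)
    (h : ∀ i, PS Q (𝒰.f i ≫ g)) : PS Q g := by
  intro C _ c x
  obtain ⟨A, _, _, e, _⟩ := exists_chart (G := G) c
  obtain ⟨J, hJ⟩ := hQ C c A e
  obtain ⟨g', hg'⟩ := (pt_bijective e (hcR (r := c))).2
    (x ≫ (Over.homMk g rfl : Over.mk (g ≫ G.hom) ⟶ G))
  rw [← hg', hJ]
  intro a ha
  -- locally
  have key : ∀ y : Spec (CommRingCat.of C), ∃ f : C, y ∈ PrimeSpectrum.basicOpen f ∧
      algebraMap C (Localization.Away f) (g' a) = 0 := by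
    intro y
    obtain ⟨i, z, hz⟩ := 𝒰.exists_eq (x.left y)
    let W : (Spec (CommRingCat.of C)).Opens := x.left ⁻¹ᵁ (𝒰.f i).opensRange
    have hyW : y ∈ W := ⟨z, hz⟩
    obtain ⟨_, ⟨f, rfl⟩, hyf, hfW⟩ := PrimeSpectrum.isTopologicalBasis_basic_opens.exists_subset_of_mem_open
      hyW W.isOpen
    refine ⟨f, hyf, ?_⟩
    let ψ : Spec (CommRingCat.of (Localization.Away f)) ⟶ Spec (CommRingCat.of C) :=
      Spec.map (CommRingCat.ofHom (algebraMap C (Localization.Away f)))
    have hrange : Set.range (ψ ≫ x.left) ⊆ Set.range (𝒰.f i) := by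
      rintro _ ⟨w, rfl⟩
      have h1 : ψ w ∈ (PrimeSpectrum.basicOpen f : Set (PrimeSpectrum C)) := by
        have := PrimeSpectrum.localization_away_comap_range (Localization.Away f) f
        rw [← this]
        exact ⟨w, rfl⟩
      exact hfW h1
    let l := IsOpenImmersion.lift (𝒰.f i) (ψ ≫ x.left) hrange
    have hl : l ≫ 𝒰.f i = ψ ≫ x.left := IsOpenImmersion.lift_fac _ _ _
    have h2 : PS Q (l ≫ 𝒰.f i ≫ g) := ps_pre _ _ (h i)
    rw [← Category.assoc, hl, Category.assoc] at h2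
    let x' : aff (Localization.Away f) (ψ ≫ c) ⟶ aff C c := Over.homMk ψ rfl
    have h3 : PS Q (x' ≫ x ≫ (Over.homMk g rfl : Over.mk (g ≫ G.hom) ⟶ G)).left := h2
    rw [ps_iff, ← hg', comp_pt e (hcR (r := c)) rfl (Algebra.ofId C (Localization.Away f)) x' rfl,
      hQ.ptQ_iff, hJ] at h3
    exact h3 a ha
  choose f hf hf0 using key
  have hspan : Ideal.span (Set.range f) = ⊤ := by
    rw [← PrimeSpectrum.iSup_basicOpen_eq_top_iff]
    apply top_le_iff.1
    intro y _
    rw [TopologicalSpace.Opens.mem_iSup]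
    exact ⟨y, hf y⟩
  apply CWGlue.eq_zero_of_forall_away (Set.range f) hspan
  rintro _ ⟨y, rfl⟩
  exact hf0 y

lemma ps_rep (s : G.left) : ∃ (V : G.left.Opens) (hV : IsAffineOpen V) (K : Ideal Γ(G.left, V)),
    s ∈ V ∧ CWGlue.RepAt (PS Q) V hV K := by
  obtain ⟨_, ⟨V, hV, rfl⟩, hsV, -⟩ := S.isBasis_affineOpens.exists_subset_of_mem_open
    (Set.mem_univ (G.hom s)) isOpen_univ
  let R : Type u := Γ(S, V)
  let r : Spec (CommRingCat.of R) ⟶ S := hV.fromSpec
  have hr : IsOpenImmersion r := inferInstanceAs (IsOpenImmersion hV.fromSpec)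
  have hrange : Set.range r = V := hV.range_fromSpec
  obtain ⟨A, _, _, e, _⟩ := exists_chart (G := G) r
  obtain ⟨J, hJ⟩ := hQ R r A e
  let W : G.left.Opens := G.hom ⁻¹ᵁ V
  have hW : IsAffineOpen W := hV.preimage G.hom
  have hWr : Set.range (chartι e) = Set.range hW.fromSpec := by
    rw [range_chartι, hrange, hW.range_fromSpec]
    rfl
  let σ : Spec (CommRingCat.of A) ≅ Spec Γ(G.left, W) :=
    IsOpenImmersion.isoOfRangeEq (chartι e) hW.fromSpec hWr
  have hσ : σ.hom ≫ hW.fromSpec = chartι e := IsOpenImmersion.isoOfRangeEq_hom_fac _ _ _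
  let ρ : Γ(G.left, W) ≅ CommRingCat.of A :=
    { hom := Spec.preimage σ.hom
      inv := Spec.preimage σ.inv
      hom_inv_id := by
        apply Spec.map_injective
        rw [Spec.map_comp, Spec.map_preimage, Spec.map_preimage, Spec.map_id, Iso.inv_hom_id]
      inv_hom_id := by
        apply Spec.map_injective
        rw [Spec.map_comp, Spec.map_preimage, Spec.map_preimage, Spec.map_id, Iso.hom_inv_id] }
  have hρ : Spec.map ρ.hom = σ.hom := Spec.map_preimage _
  refine ⟨W, hW, J.comap ρ.hom.hom, hsV, ?_⟩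
  intro C φ
  let φ' : A →+* C := (ρ.inv ≫ φ).hom
  let _ : Algebra R C := (φ'.comp (algebraMap R A)).toAlgebra
  let g : A →ₐ[R] C := { φ' with commutes' := fun _ => rfl }
  have h1 : Spec.map (CommRingCat.ofHom g.toRingHom) ≫ chartι e = Spec.map φ ≫ hW.fromSpec := by
    rw [← hσ, ← hρ, ← Category.assoc, ← Spec.map_comp]
    congr 2
    change ρ.hom ≫ ρ.inv ≫ φ = φ
    rw [Iso.hom_inv_id_assoc]
  have h2 : (pt e (c := Spec.map (CommRingCat.ofHom (algebraMap R C)) ≫ r) rfl g).left =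
      Spec.map φ ≫ hW.fromSpec := by
    rw [pt_left]
    exact h1
  have h3 : PS Q (Spec.map φ ≫ hW.fromSpec) ↔ ∀ a ∈ J, g a = 0 := by
    rw [← hJ C _ rfl g, ← hQ.ptQ_iff, ← ps_iff, h2]
  rw [h3]
  constructor
  · intro h
    rw [← le_bot_iff, Ideal.map_le_iff_le_comap]
    intro b hb
    have h4 := h _ hb
    change (ρ.inv ≫ φ).hom (ρ.hom.hom b) = 0 at h4
    change φ.hom b = 0
    rw [← h4, ← CommRingCat.comp_apply, Iso.hom_inv_id_assoc]
  · intro h a ha
    have h4 : ρ.inv.hom a ∈ J.comap ρ.hom.hom := by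
      change ρ.hom.hom (ρ.inv.hom a) ∈ J
      rw [← CommRingCat.comp_apply, Iso.inv_hom_id]
      exact ha
    have h5 := Ideal.mem_map_of_mem φ.hom h4
    rw [h] at h5
    exact h5

/-- **Representability by closed subschemes.** -/
theorem exists_sub : ∃ I : G.left.IdealSheafData, ∀ (X : Over S) (g : X ⟶ G),
    (∃ x : X ⟶ ClosedSub.sub G I, x ≫ ClosedSub.subι G I = g) ↔ PtQ Q g := by
  refine ⟨CWGlue.glued (PS Q) ps_pre (ps_rep hQ), fun X g => ?_⟩
  rw [← ps_iff, ← CWGlue.exists_lift_iff (PS Q) ps_pre (ps_rep hQ) (fun g 𝒰 => ps_loc hQ g 𝒰)]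
  constructor
  · rintro ⟨x, rfl⟩
    exact ⟨x.left, rfl⟩
  · rintro ⟨x, hx⟩
    refine ⟨Over.homMk x ?_, ?_⟩
    · change x ≫ _ ≫ G.hom = X.hom
      rw [← Category.assoc, hx, Over.w]
    · ext1
      exact hx

/-- **Representability by closed subgroup schemes.** -/
theorem exists_subgroup
    (h1 : ∀ (C : Type u) [CommRing C] (c : Spec (CommRingCat.of C) ⟶ S), Q C c 1)
    (hm : ∀ (C : Type u) [CommRing C] (c : Spec (CommRingCat.of C) ⟶ S) (g h : aff C c ⟶ G),
      Q C c g → Q C c h → Q C c (g * h))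
    (hi : ∀ (C : Type u) [CommRing C] (c : Spec (CommRingCat.of C) ⟶ S) (g : aff C c ⟶ G),
      Q C c g → Q C c g⁻¹) :
    ∃ (P : Over S) (_ : GrpObj P) (p : P ⟶ G), IsMonHom p ∧ Mono p ∧ IsClosedImmersion p.left ∧
      ∀ (X : Over S) (g : X ⟶ G), (∃ x : X ⟶ P, x ≫ p = g) ↔ PtQ Q g := by
  obtain ⟨I, hI⟩ := exists_sub hQ
  let i := ClosedSub.subι G I
  have hiQ : PtQ Q i := (hI _ i).1 ⟨𝟙 _, Category.id_comp _⟩
  obtain ⟨inst, hmon⟩ := ClosedSub.exists_grpObj_of_mono i
    ((hI _ η[G]).2 (by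
      intro C _ c x
      rw [one_eq_one, MonObj.comp_one]
      exact h1 C c))
    ((hI _ ((i ⊗ₘ i) ≫ μ[G])).2 (by
      intro C _ c x
      have : (i ⊗ₘ i) ≫ μ[G] = (fst _ _ ≫ i) * (snd _ _ ≫ i) := by
        rw [mul_eq_mul, MonObj.comp_mul, tensorHom_fst, tensorHom_snd]
      rw [this, MonObj.comp_mul, ← Category.assoc, ← Category.assoc]
      exact hm C c _ _ (hiQ C c _) (hiQ C c _)))
    ((hI _ (i ≫ ι[G])).2 (by
      intro C _ c x
      have : i ≫ ι[G] = i⁻¹ := by
        rw [GrpObj.inv_eq_inv, GrpObj.comp_inv, Category.comp_id]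
      rw [this, GrpObj.comp_inv]
      exact hi C c _ (hiQ C c _)))
  exact ⟨_, inst, i, hmon, inferInstance, inferInstance, hI⟩

end Rep

end Groth.Agent.Sga3B.Parab.Rep998
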