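import Groth.Agent.Sga3B.Parab.ConjLocal
import Groth.Prelude.Def_Red

/-!
# Conjugacy of parabolic subgroups over a base with enough sections: abstract assembly

`U`, `V` are the unipotent radicals of `P` and of an opposite parabolic, `V × P ⟶ G` is the open
cell, and `P`, `Q` are conjugate fppf locally on `S`.  If `U` has sections through every open
subset meeting all the fibres, then `P` and `Q` are conjugate over `S`.
-/

set_option autoImplicit false

universe u

open CategoryTheory MonoidalCategory CartesianMonoidalCategory MonObj GrpObj AlgebraicGeometry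

namespace Groth.Agent.Sga3B.Parab.ConjSL

open Groth.Agent.Sga3B Groth.Agent.Sga3C ConjLocal

variable {S : Scheme.{u}}

section Basic

/-- The fibre product of a section of `U` and of the projection `U × Y ⟶ U`. -/
lemma isPullback_section {C : Type*} [Category C] [CartesianMonoidalCategory C] {U : C}
    (Y : C) (a : 𝟙_ C ⟶ U) :
    IsPullback (lift (toUnit Y ≫ a) (𝟙 Y)) (toUnit Y) (fst U Y) a := by
  refine ⟨⟨by simp⟩, ⟨Limits.PullbackCone.IsLimit.mk _ (fun s => s.fst ≫ snd U Y) ?_ ?_ ?_⟩⟩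
  · intro s
    apply CartesianMonoidalCategory.hom_ext
    · rw [Category.assoc, lift_fst, s.condition, ← Category.assoc]
      congr 1
      exact toUnit_unique _ _
    · rw [Category.assoc, lift_snd, Category.comp_id]
  · intro s
    exact toUnit_unique _ _
  · intro s m h1 h2
    rw [← h1, Category.assoc, lift_snd, Category.comp_id]

/-- Locality of a condition transported along a morphism. -/
lemma isLocalPt_comp {G G' : Over S} {F : ∀ X : Over S, (X ⟶ G) → Prop} (hF : EtSub.IsLocalPt F)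
    (φ : G' ⟶ G) : EtSub.IsLocalPt (fun X (g : X ⟶ G') => F X (g ≫ φ)) where
  comp h g H := by
    have := hF.comp h _ H
    rwa [← Category.assoc] at this
  zariski g 𝒰 H := by
    apply hF.zariski _ 𝒰
    intro i
    rw [← Category.assoc]
    exact H i
  flat h g h1 h2 h3 h4 H := by
    apply hF.flat h _ h1 h2 h3 h4
    rw [← Category.assoc]
    exact H

/-- Lifting through an open immersion over `S`. -/
lemma exists_lift_open {X Y Z : Over S} (j : Y ⟶ Z) [IsOpenImmersion j.left] (f : X ⟶ Z)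
    (h : ∀ x : X.left, f.left x ∈ Set.range j.left) : ∃ g : X ⟶ Y, g ≫ j = f := by
  have h' : Set.range f.left ⊆ Set.range j.left := by
    rintro _ ⟨x, rfl⟩
    exact h x
  refine ⟨Over.homMk (IsOpenImmersion.lift j.left f.left h') ?_, ?_⟩
  · rw [← Over.w j, ← Category.assoc, IsOpenImmersion.lift_fac, Over.w]
  · ext1
    exact IsOpenImmersion.lift_fac _ _ _

end Basic

/-- There is a section of `U` with values at the closed points of `S` in any given open subset of
`U` meeting all the fibres. -/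
def SecThrough (U : Over S) : Prop :=
  ∀ W : U.left.Opens, (∀ s : S, ∃ w : U.left, w ∈ W ∧ U.hom w = s) →
    ∃ a : 𝟙_ (Over S) ⟶ U, ∀ s : S, IsClosed {s} → a.left s ∈ W

variable {G P Q U V : Over S} [GrpObj G]

/-- The multiplication `V × P ⟶ G`. -/
noncomputable def cell (v : V ⟶ G) (p : P ⟶ G) : V ⊗ P ⟶ G := (fst V P ≫ v) * (snd V P ≫ p)

lemma lift_cell (v : V ⟶ G) (p : P ⟶ G) {X : Over S} (x : X ⟶ V) (y : X ⟶ P) :
    lift x y ≫ cell v p = (x ≫ v) * (y ≫ p) := by
  rw [cell, comp_mul, ← Category.assoc, ← Category.assoc, lift_fst, lift_snd]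

variable [GrpObj P] [GrpObj V]

lemma eq_one_of_cell (v : V ⟶ G) (p : P ⟶ G) [IsMonHom v] [IsMonHom p] [Mono (cell v p)]
    {X : Over S} (x : X ⟶ V) (y : X ⟶ P) (h : x ≫ v = y ≫ p) : x = 1 := by
  have h1 : lift x (1 : X ⟶ P) ≫ cell v p = lift (1 : X ⟶ V) y ≫ cell v p := by
    rw [lift_cell, lift_cell, one_comp, one_comp, h, _root_.mul_one, _root_.one_mul]
  rw [cancel_mono] at h1
  have h2 := congrArg (fun z => z ≫ fst V P) h1
  simpa using h2

variable (p : P ⟶ G) (q : Q ⟶ G) (u : U ⟶ G) (v : V ⟶ G) [IsMonHom p] [IsMonHom v]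
  [Mono p] [Mono q]

/-- **Assembly.** -/
theorem main [CompactSpace S] (hcell : IsOpenImmersion (cell v p).left)
    (hN : ∀ (X : Over S) (g : X ⟶ G), ConjPt p p X g → ∃ y : X ⟶ P, y ≫ p = g)
    (hUVP : ∀ (K : Type u) [Field K] [IsAlgClosed K] (x : Spec (CommRingCat.of K) ⟶ S)
      (g : Over.mk x ⟶ G), ∃ (a : Over.mk x ⟶ U) (b : Over.mk x ⟶ V) (y : Over.mk x ⟶ P),
        g = (a ≫ u) * ((b ≫ v) * (y ≫ p)))
    (hLC : ∀ s : S, ∃ (S' : Scheme.{u}) (f : S' ⟶ S), Flat f ∧ LocallyOfFinitePresentation f ∧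
      s ∈ Set.range f ∧ ∃ g : Over.mk f ⟶ G, ConjPt p q _ g)
    (hU : SecThrough U) : ∃ g : 𝟙_ (Over S) ⟶ G, ConjPt p q _ g := by
  have : Mono (cell v p).left := inferInstance
  have hcm : Mono (cell v p) := ClosedSub.mono_of_left _
  choose S' f hf1 hf2 hf3 g hg using hLC
  let θ : ∀ r : S, U ⊗ Over.mk (f r) ⟶ G := fun r =>
    (fst U (Over.mk (f r)) ≫ u)⁻¹ * (snd U (Over.mk (f r)) ≫ g r)
  let Cop : G.left.Opens := (cell v p).left.opensRange
  have hfst1 : ∀ r, Flat (fst U (Over.mk (f r))).left := fun r =>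
    inferInstanceAs (Flat (Limits.pullback.fst U.hom (f r)))
  have hfst2 : ∀ r, LocallyOfFinitePresentation (fst U (Over.mk (f r))).left := fun r =>
    inferInstanceAs (LocallyOfFinitePresentation (Limits.pullback.fst U.hom (f r)))
  let Wr : ∀ r : S, U.left.Opens := fun r =>
    ⟨(fst U (Over.mk (f r))).left '' ((θ r).left ⁻¹ᵁ Cop : Set _),
      (fst U (Over.mk (f r))).left.isOpenMap _ ((θ r).left ⁻¹ᵁ Cop).isOpen⟩
  let W : U.left.Opens := ⨆ r, Wr r
  -- `W` meets every fibre
  have hW : ∀ s : S, ∃ w : U.left, w ∈ W ∧ U.hom w = s := by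
    intro t
    obtain ⟨t', ht'⟩ := hf3 t
    let x0 := Red.geomPt t'
    let X : Over S := Over.mk (x0 ≫ f t)
    let b : X ⟶ Over.mk (f t) := Over.homMk x0 rfl
    obtain ⟨a, c, y, hacy⟩ := hUVP (AlgebraicClosure ((S' t).residueField t')) (x0 ≫ f t)
      (b ≫ g t)
    let z : X ⟶ U ⊗ Over.mk (f t) := lift a b
    have hz : z ≫ θ t = lift c y ≫ cell v p := by
      rw [lift_cell]
      change z ≫ ((fst U (Over.mk (f t)) ≫ u)⁻¹ * (snd U (Over.mk (f t)) ≫ g t)) = _
      rw [comp_mul, comp_inv, ← Category.assoc, ← Category.assoc, lift_fst, lift_snd, hacy]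
      group
    let pt : X.left := (IsLocalRing.closedPoint (AlgebraicClosure ((S' t).residueField t')) :
      PrimeSpectrum _)
    have hx0 : x0 pt = t' := by
      change (Spec.map _ ≫ (S' t).fromSpecResidueField t') pt = t'
      rw [Scheme.Hom.comp_apply]
      exact Scheme.fromSpecResidueField_apply _ _
    refine ⟨(fst U (Over.mk (f t))).left (z.left pt), ?_, ?_⟩
    · rw [TopologicalSpace.Opens.mem_iSup]
      refine ⟨t, ⟨z.left pt, ?_, rfl⟩⟩
      change (θ t).left (z.left pt) ∈ Set.range (cell v p).left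
      rw [← Scheme.Hom.comp_apply, ← Over.comp_left, hz, Over.comp_left, Scheme.Hom.comp_apply]
      exact ⟨_, rfl⟩
    · rw [← Scheme.Hom.comp_apply, ← Scheme.Hom.comp_apply, Over.w, Over.w]
      change (x0 ≫ f t) pt = t
      rw [Scheme.Hom.comp_apply, hx0, ht']
  obtain ⟨a, ha⟩ := hU W hW
  have ha' : ∀ s : S, a.left s ∈ W := by
    by_contra hcon
    push Not at hcon
    obtain ⟨s, hs⟩ := hcon
    obtain ⟨m, hm, hmc⟩ := IsClosed.exists_closed_singleton (S := ((a.left ⁻¹ᵁ W : S.Opens) : Set S)ᶜ)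
      (a.left ⁻¹ᵁ W : S.Opens).isOpen.isClosed_compl ⟨s, hs⟩
    exact hm (ha m hmc)
  -- local existence
  have hloc : ∀ s : S, ∃ (S'' : Scheme.{u}) (f'' : S'' ⟶ S), Flat f'' ∧
      LocallyOfFinitePresentation f'' ∧ s ∈ Set.range f'' ∧ ∃ w : Over.mk f'' ⟶ V,
        ConjPt p q _ ((toUnit _ ≫ a ≫ u) * (w ≫ v)) := by
    intro s
    have h1 := ha' s
    rw [TopologicalSpace.Opens.mem_iSup] at h1
    obtain ⟨r, z, hz, hz2⟩ := h1
    have hpb := (isPullback_section (Over.mk (f r)) a).map (Over.forget S)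
    obtain ⟨s0, hs0, hs00⟩ := Scheme.Pullback.exists_preimage_pullback (f := (fst U (Over.mk (f r))).left)
      (g := a.left) z s hz2
    let s' : S' r := hpb.isoPullback.inv s0
    let j : Over.mk (f r) ⟶ U ⊗ Over.mk (f r) := lift (toUnit _ ≫ a) (𝟙 _)
    have hs1 : j.left s' = z := by
      rw [← hs0]
      change (hpb.isoPullback.inv ≫ (Over.forget S).map j) s0 = _
      rw [hpb.isoPullback_inv_fst]
      rfl
    have hs2 : f r s' = s := by
      have h2 : (hpb.isoPullback.inv ≫ (Over.forget S).map (toUnit (Over.mk (f r)))) s0 = s := by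
        rw [hpb.isoPullback_inv_snd]
        exact hs00
      have h3 : (toUnit (Over.mk (f r))).left = f r := by
        have := Over.w (toUnit (Over.mk (f r)))
        rw [show (𝟙_ (Over S)).hom = 𝟙 S from rfl] at this
        exact (Category.comp_id _).symm.trans this
      rw [← h3]
      exact h2
    let D : (S' r).Opens := (j ≫ θ r).left ⁻¹ᵁ Cop
    have hs'D : s' ∈ D := by
      change (j ≫ θ r).left s' ∈ Cop
      rw [Over.comp_left, Scheme.Hom.comp_apply, hs1]
      exact hz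
    have := hf1 r
    have := hf2 r
    let k : Over.mk (D.ι ≫ f r) ⟶ Over.mk (f r) := Over.homMk D.ι rfl
    obtain ⟨w, hw⟩ := exists_lift_open (cell v p) (k ≫ j ≫ θ r) (by
      intro x
      rw [Over.comp_left, Scheme.Hom.comp_apply]
      exact x.2)
    refine ⟨D, D.ι ≫ f r, inferInstance, inferInstance, ⟨⟨s', hs'D⟩, ?_⟩, w ≫ fst V P, ?_⟩
    · rw [Scheme.Hom.comp_apply]
      exact hs2
    · have h4 : (toUnit _ ≫ a ≫ u) * ((w ≫ fst V P) ≫ v) =
          (k ≫ g r) * ((w ≫ snd V P)⁻¹ ≫ p) := by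
        have h5 : ((w ≫ fst V P) ≫ v) * ((w ≫ snd V P) ≫ p) =
            (toUnit _ ≫ a ≫ u)⁻¹ * (k ≫ g r) := by
          rw [← lift_cell]
          have h6 : lift (w ≫ fst V P) (w ≫ snd V P) = w := by
            rw [← comp_lift]
            simp
          rw [h6, hw]
          change k ≫ j ≫ ((fst U (Over.mk (f r)) ≫ u)⁻¹ * (snd U (Over.mk (f r)) ≫ g r)) = _
          rw [comp_mul, comp_mul, comp_inv, comp_inv, ← Category.assoc j, ← Category.assoc j,
            lift_fst, lift_snd, Category.id_comp]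
          congr 2
        rw [inv_comp, ← mul_inv_eq_iff_eq_mul.mpr h5.symm]
        group
      rw [h4]
      exact ((hg r).comp k).mul_right _
  choose S'' f'' hf1'' hf2'' hf3'' w hw using hloc
  let φ : 𝟙_ (Over S) ⊗ V ⟶ G := (toUnit _ ≫ a ≫ u) * (snd _ _ ≫ v)
  have hφ : ∀ (T : Over S) (x : T ⟶ 𝟙_ (Over S)) (y : T ⟶ V),
      lift x y ≫ φ = (toUnit T ≫ a ≫ u) * (y ≫ v) := by
    intro T x y
    change lift x y ≫ ((toUnit _ ≫ a ≫ u) * (snd _ _ ≫ v)) = _
    rw [comp_mul, ← Category.assoc (lift x y) (snd _ _), lift_snd, ← Category.assoc (lift x y),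
      toUnit_unique (lift x y ≫ toUnit _) (toUnit T)]
  obtain ⟨y, hy, -⟩ := EtHom.exists_hom (X := 𝟙_ (Over S)) (Y := V)
    (isLocalPt_comp (isLocalPt_conjPt (p := p) (q := q)) φ)
    (by
      intro T x y y' h1 h2
      rw [hφ] at h1 h2
      obtain ⟨z, hz⟩ := hN T _ (h1.inv_mul h2)
      have h3 : (y⁻¹ * y') ≫ v = z ≫ p := by
        rw [hz, mul_comp, inv_comp]
        group
      have h4 := eq_one_of_cell v p _ _ h3
      exact inv_mul_eq_one.mp h4)
    (f := f'') ⟨hf1'', hf2'', fun s => ⟨s, hf3'' s⟩⟩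
    (by
      intro r
      refine ⟨snd _ _ ≫ w r, ?_⟩
      rw [hφ]
      have h1 := (hw r).comp (snd (𝟙_ (Over S)) (Over.mk (f'' r)))
      rw [comp_mul, ← Category.assoc] at h1
      rw [Category.assoc]
      convert h1 using 2
      congr 1
      exact toUnit_unique _ _)
  rw [hφ] at hy
  exact ⟨_, hy⟩

end Groth.Agent.Sga3B.Parab.ConjSL
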