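import Groth.Agent.Sga3B.Parab.DynExist998

/-!
# The opposite cocharacter on points

* `lamB_negLam`: the bialgebra map of the opposite cocharacter;
* `orbConst_iff`: for `G` affine over `S` a point with limits for `λ` and `-λ` is centralised by `λ`;
  `ptZ_iff_and : PtZ λ g ↔ PtP λ g ∧ PtP (-λ) g`;
* `isPullback_of_isDyn`: `P_G(λ) ∩ P_G(-λ) = Z_G(λ)`.
-/

set_option autoImplicit false
set_option linter.unusedSectionVars false

universe u

open CategoryTheory MonoidalCategory CartesianMonoidalCategory MonObj GrpObj AlgebraicGeometry Limits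
open scoped LaurentPolynomial Polynomial TensorProduct
open WithConv
open Groth.Agent.Books.AffBridge Groth.Agent.Books.DynBasic Groth.Agent.Books.DynLim
open Groth.Agent.Sga3B.Parab.Chart998 Groth.Agent.Sga3B.Parab.AffPts998
open Groth.Agent.Sga3B.Parab.Rep998 Groth.Agent.Sga3B.Parab.Dyn998
open Groth.Agent.Sga3B.Parab.DynExist998

namespace Groth.Agent.Sga3B.Parab.OppPts172

variable {S : Scheme.{u}}

section Neg

variable {C : Type u} [CommRing C] {c : Spec (CommRingCat.of C) ⟶ S}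

/-- the point `T⁻¹` -/
lemma tPt_comp_neg : tPt C c ≫ Red.DSmap S (-(AddMonoidHom.id ℤ)) =
    DSPts.dsEquiv (gmo C c) ℤ (secChar (C' := C[T;T⁻¹])
      (Spec.map (CommRingCat.ofHom (algebraMap C C[T;T⁻¹])) ≫ c)
      (((LaurentPolynomial.invert (R := C)).toAlgHom : C[T;T⁻¹] →* C[T;T⁻¹]).comp (tC C))) := by
  rw [← DSPts.dsEquiv_dsChar (tPt C c ≫ Red.DSmap S (-(AddMonoidHom.id ℤ))), DSPts.dsChar_DSmap]
  congr 1
  rw [tPt, DSPts.dsChar_dsEquiv]
  refine MonoidHom.ext fun n => ?_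
  change (Scheme.ΓSpecIso (CommRingCat.of C[T;T⁻¹])).inv (LaurentPolynomial.T (-n.toAdd)) =
    (Scheme.ΓSpecIso (CommRingCat.of C[T;T⁻¹])).inv.hom
      (LaurentPolynomial.invert (LaurentPolynomial.T n.toAdd))
  rw [LaurentPolynomial.invert_T]

variable {G : Over S} [GrpObj G] (lam : Red.Gm S ⟶ G) [IsMonHom lam]
variable {R : Type u} [CommRing R] {r : Spec (CommRingCat.of R) ⟶ S}
variable {A : Type u} [CommRing A] [HopfAlgebra R A] (e : Red.bc r G ≅ SpecOver R A) [IsMonHom e.hom]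

/-- the bialgebra map of the opposite cocharacter -/
lemma lamB_negLam : (lamB (negLam lam) e : A →ₐ[R] R[T;T⁻¹]) = Dyn.negParam R A (lamB lam e) := by
  rw [lamB_coe, Dyn.negParam, lamB_coe]
  apply (pt_bijective e (hcL (hcR (r := r)))).1
  rw [pt_lamAlg, pt_comp_lamAlg lam e (hcL hcR) (LaurentPolynomial.invert (R := R)).toAlgHom
    (((LaurentPolynomial.invert (R := R)).toAlgHom : R[T;T⁻¹] →* R[T;T⁻¹]).comp (tC R))
    (fun n => rfl), negLam, ← Category.assoc, tPt_comp_neg]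

end Neg

section NegNeg

variable {G : Over S} [GrpObj G] (lam : Red.Gm S ⟶ G)

lemma negLam_negLam : negLam (negLam lam) = lam := by
  rw [negLam, negLam, ← Category.assoc]
  have : Red.DSmap S (-(AddMonoidHom.id ℤ)) ≫ Red.DSmap S (-(AddMonoidHom.id ℤ)) =
      𝟙 (Red.Gm S) := by
    apply hom_ext_aff
    intro C _ c x
    rw [← DSPts.dsEquiv_dsChar (x ≫ _), ← Category.assoc, DSPts.dsChar_DSmap, DSPts.dsChar_DSmap,
      Category.comp_id]
    conv_rhs => rw [← DSPts.dsEquiv_dsChar x]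
    congr 1
    refine MonoidHom.ext fun n => ?_
    change DSPts.dsChar x (Multiplicative.ofAdd (- - n.toAdd)) = DSPts.dsChar x n
    rw [neg_neg]
    rfl
  rw [this, Category.id_comp]

end NegNeg

section Main

variable {G : Over S} [GrpObj G] {lam : Red.Gm S ⟶ G} [IsMonHom lam]
variable {C : Type u} [CommRing C] {c : Spec (CommRingCat.of C) ⟶ S}

lemma JP_negLam {R : Type u} [CommRing R] {r : Spec (CommRingCat.of R) ⟶ S}
    {A : Type u} [CommRing A] [HopfAlgebra R A] (e : Red.bc r G ≅ SpecOver R A) [IsMonHom e.hom] :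
    JP (lamB lam e) ⊔ JP (lamB (negLam lam) e) = JZ (lamB lam e) := by
  rw [JP, JP, JZ, ← Ideal.span_union]
  congr 1
  ext a
  constructor
  · rintro (⟨n, hn, ha⟩ | ⟨n, hn, ha⟩)
    · exact ⟨n, hn.ne, ha⟩
    · rw [gr_neg _ _ (lamB_negLam lam e)] at ha
      exact ⟨-n, by omega, ha⟩
  · rintro ⟨n, hn, ha⟩
    rcases lt_or_gt_of_ne hn with h | h
    · exact Or.inl ⟨n, h, ha⟩
    · refine Or.inr ⟨-n, by omega, ?_⟩
      rw [gr_neg _ _ (lamB_negLam lam e), neg_neg]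
      exact ha

lemma forall_sup {R A : Type*} [CommRing R] [CommRing A] (f : A →+* R) (I J : Ideal A) :
    (∀ a ∈ I ⊔ J, f a = 0) ↔ (∀ a ∈ I, f a = 0) ∧ (∀ a ∈ J, f a = 0) := by
  change I ⊔ J ≤ RingHom.ker f ↔ I ≤ RingHom.ker f ∧ J ≤ RingHom.ker f
  exact sup_le_iff

variable [IsAffineHom G.hom]

/-- **A point with limits in both directions is centralised by `λ`.** -/
theorem orbConst_iff {g : aff C c ⟶ G} :
    OrbConst lam g ↔ LimEx lam g ∧ LimEx (negLam lam) g := by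
  obtain ⟨A, _, _, e, _⟩ := exists_chart (G := G) c
  obtain ⟨g, rfl⟩ := (pt_bijective e (hcR (r := c))).2 g
  rw [limEx_pt_iff, limEx_pt_iff, orbConst_pt_iff, ← JP_negLam]
  exact forall_sup g.toRingHom _ _

theorem ptZ_iff_and {X : Over S} {g : X ⟶ G} : PtZ lam g ↔ PtP lam g ∧ PtP (negLam lam) g := by
  constructor
  · intro h
    exact ⟨fun C _ c x => (orbConst_iff.1 (h C c x)).1, fun C _ c x => (orbConst_iff.1 (h C c x)).2⟩
  · rintro ⟨h1, h2⟩ C _ c x
    exact orbConst_iff.2 ⟨h1 C c x, h2 C c x⟩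

lemma ptZ_negLam {X : Over S} {g : X ⟶ G} : PtZ (negLam lam) g ↔ PtZ lam g := by
  rw [ptZ_iff_and, ptZ_iff_and, negLam_negLam, and_comm]

/-- `P_G(λ) ∩ P_G(-λ) = Z_G(λ)` -/
theorem isPullback_of_isDyn {P P' L : Over S} [GrpObj P] [GrpObj P'] [GrpObj L] {p : P ⟶ G}
    {p' : P' ⟶ G} {l : L ⟶ P} {m : L ⟶ P'} (hp : IsDynP lam p) (hp' : IsDynP (negLam lam) p')
    (hl : IsDynZ lam (l ≫ p)) (h : l ≫ p = m ≫ p') : IsPullback l m p p' := by
  have := hp.mono
  have := hp'.mono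
  have := hl.mono
  refine IsPullback.mk ⟨h⟩ ⟨PullbackCone.IsLimit.mk _ (fun s => ?_) ?_ ?_ ?_⟩
  · have h1 : ∃ x : s.pt ⟶ L, x ≫ l ≫ p = s.fst ≫ p := by
      rw [hl.iff_ptZ, ptZ_iff_and]
      refine ⟨(hp.iff_ptP _ _).1 ⟨s.fst, rfl⟩, ?_⟩
      rw [s.condition]
      exact (hp'.iff_ptP _ _).1 ⟨s.snd, rfl⟩
    exact h1.choose
  · intro s
    generalize_proofs h1
    have h2 := h1.choose_spec
    rw [← cancel_mono p, Category.assoc]
    exact h2
  · intro s
    generalize_proofs h1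
    have h2 := h1.choose_spec
    rw [← cancel_mono p', Category.assoc, ← h, h2, s.condition]
  · intro s f hf _
    generalize_proofs h1
    have h2 := h1.choose_spec
    rw [← cancel_mono (l ≫ p), h2, ← Category.assoc, hf]

/-- The opposite of `P_G(λ)` relative to `Z_G(λ)`. -/
theorem exists_opp {P L : Over S} [GrpObj P] [GrpObj L] {p : P ⟶ G} {l : L ⟶ P}
    (hp : IsDynP lam p) (hl : IsDynZ lam (l ≫ p)) :
    ∃ (P' : Over S) (_ : GrpObj P') (p' : P' ⟶ G) (m : L ⟶ P'), IsDynP (negLam lam) p' ∧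
      IsClosedImmersion p'.left ∧ IsPullback l m p p' := by
  obtain ⟨P', _, p', hp', hc⟩ := exists_isDynP (negLam lam)
  have h1 : PtZ lam (l ≫ p) := (hl.iff_ptZ _ _).1 ⟨𝟙 _, Category.id_comp _⟩
  obtain ⟨m, hm⟩ := (hp'.iff_ptP _ _).2 (ptZ_iff_and.1 h1).2
  exact ⟨P', inferInstance, p', m, hp', hc, isPullback_of_isDyn hp hp' hl hm.symm⟩

end Main

end Groth.Agent.Sga3B.Parab.OppPts172
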