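import Groth.Agent.Sga3B.Parab.Defs
import Groth.Agent.Books.AffBridge
import Groth.Agent.Books.DynLim

/-!
# The dynamic method over a base scheme: the affine dictionary

`r : Spec R ⟶ S`, `e : Red.bc r G ≅ Spec A` an isomorphism of groups, `A` a Hopf algebra over `R`.
For an `R`-algebra `C` and `c : Spec C ⟶ S` with `c = (Spec C ⟶ Spec R ⟶ S)` the points
`Spec C ⟶ G` over `S` are the algebra maps `A → C`.
-/

set_option autoImplicit false
set_option linter.unusedSectionVars false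

universe u

open CategoryTheory MonoidalCategory CartesianMonoidalCategory MonObj GrpObj AlgebraicGeometry Limits
open scoped LaurentPolynomial Polynomial TensorProduct
open WithConv
open Groth.Agent.Books.AffBridge Groth.Agent.Books.DynBasic Groth.Agent.Books.DynLim

namespace Groth.Agent.Sga3B.Parab.Chart998

variable {S : Scheme.{u}} {G : Over S} [GrpObj G]
variable {R : Type u} [CommRing R] {r : Spec (CommRingCat.of R) ⟶ S}
variable {A : Type u} [CommRing A] [HopfAlgebra R A]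

section Pt

variable {C : Type u} [CommRing C] [Algebra R C] {c : Spec (CommRingCat.of C) ⟶ S}

/-- comparison of the two ways to view `Spec C` over `S` -/
noncomputable def cmp (hc : Spec.map (CommRingCat.ofHom (algebraMap R C)) ≫ r = c) :
    aff C c ≅ (Over.map r).obj (SpecOver R C) :=
  Over.isoMk (Iso.refl _) (by
    change 𝟙 _ ≫ Spec.map (CommRingCat.ofHom (algebraMap R C)) ≫ r = c
    rw [Category.id_comp, hc])

variable (e : Red.bc r G ≅ SpecOver R A) [IsMonHom e.hom]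

/-- The point of `G` with values in `Spec C` attached to an algebra map `A → C`. -/
noncomputable def pt (hc : Spec.map (CommRingCat.ofHom (algebraMap R C)) ≫ r = c)
    (g : A →ₐ[R] C) : aff C c ⟶ G :=
  (cmp hc).hom ≫ (DSPts.bcEquiv r (SpecOver R C) G).symm (specMap R g ≫ e.inv)

variable (hc : Spec.map (CommRingCat.ofHom (algebraMap R C)) ≫ r = c)

lemma pt_bijective : Function.Bijective (pt e hc) := by
  have h1 : Function.Bijective (fun g : A →ₐ[R] C => specMap R g ≫ e.inv) := by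
    constructor
    · intro g h hgh
      exact specMap_injective R ((cancel_mono e.inv).1 hgh)
    · intro x
      exact ⟨specPreimage R (x ≫ e.hom), by simp⟩
  have h2 : Function.Bijective fun x : (Over.map r).obj (SpecOver R C) ⟶ G => (cmp hc).hom ≫ x := by
    constructor
    · intro x y h
      exact (cancel_epi (cmp hc).hom).1 h
    · intro x
      exact ⟨(cmp hc).inv ≫ x, by simp⟩
  exact h2.comp ((DSPts.bcEquiv r (SpecOver R C) G).symm.bijective.comp h1)

lemma pt_mul (f g : WithConv (A →ₐ[R] C)) :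
    pt e hc (f * g).ofConv = pt e hc f.ofConv * pt e hc g.ofConv := by
  simp only [pt]
  rw [specMap_mul, MonObj.mul_comp, map_mul, MonObj.comp_mul]

lemma pt_one : pt e hc (1 : WithConv (A →ₐ[R] C)).ofConv = 1 := by
  simp only [pt]
  rw [specMap_one, MonObj.one_comp, map_one, MonObj.comp_one]

/-- points as a group isomorphism -/
noncomputable def ptEquiv : WithConv (A →ₐ[R] C) ≃* (aff C c ⟶ G) where
  toEquiv := (WithConv.equiv _).trans (Equiv.ofBijective _ (pt_bijective e hc))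
  map_mul' f g := pt_mul e hc f g

lemma ptEquiv_apply (g : WithConv (A →ₐ[R] C)) : ptEquiv e hc g = pt e hc g.ofConv := rfl

end Pt


section Nat

variable {C C' : Type u} [CommRing C] [Algebra R C] [CommRing C'] [Algebra R C']
variable {c : Spec (CommRingCat.of C) ⟶ S} {c' : Spec (CommRingCat.of C') ⟶ S}
variable (e : Red.bc r G ≅ SpecOver R A) [IsMonHom e.hom]
variable (hc : Spec.map (CommRingCat.ofHom (algebraMap R C)) ≫ r = c)
variable (hc' : Spec.map (CommRingCat.ofHom (algebraMap R C')) ≫ r = c')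

/-- naturality of `pt` in the ring -/
lemma comp_pt (ψ : C →ₐ[R] C') (x : aff C' c' ⟶ aff C c)
    (hx : x.left = Spec.map (CommRingCat.ofHom ψ.toRingHom)) (g : A →ₐ[R] C) :
    x ≫ pt e hc g = pt e hc' (ψ.comp g) := by
  simp only [pt]
  have h1 : x ≫ (cmp hc).hom = (cmp hc').hom ≫ (Over.map r).map (specMap R ψ) := by
    ext1
    change x.left ≫ 𝟙 _ = 𝟙 _ ≫ (specMap R ψ).left
    rw [hx, Category.comp_id, Category.id_comp, specMap_left]
  rw [← Category.assoc, h1, Category.assoc, DSPts.bcEquiv_symm_naturality, specMap_comp,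
    Category.assoc]

end Nat

section Orbit

variable {C : Type u} [CommRing C] [Algebra R C] {c : Spec (CommRingCat.of C) ⟶ S}
variable (e : Red.bc r G ≅ SpecOver R A) [IsMonHom e.hom]
variable (hc : Spec.map (CommRingCat.ofHom (algebraMap R C)) ≫ r = c)

include hc in
lemma hcL : Spec.map (CommRingCat.ofHom (algebraMap R C[T;T⁻¹])) ≫ r =
    Spec.map (CommRingCat.ofHom (algebraMap C C[T;T⁻¹])) ≫ c := by
  rw [← hc, ← Category.assoc, ← Spec.map_comp, ← CommRingCat.ofHom_comp]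

include hc in
lemma hcP : Spec.map (CommRingCat.ofHom (algebraMap R C[X])) ≫ r =
    Spec.map (CommRingCat.ofHom (algebraMap C C[X])) ≫ c := by
  rw [← hc, ← Category.assoc, ← Spec.map_comp, ← CommRingCat.ofHom_comp]

lemma gmPr_pt (g : A →ₐ[R] C) : gmPr C c ≫ pt e hc g = pt e (hcL hc) ((cst R C).comp g) :=
  comp_pt e hc (hcL hc) (cst R C) (gmPr C c) rfl g

lemma toLin_pt (g : A →ₐ[R] C[X]) :
    toLin C c ≫ pt e (hcP hc) g = pt e (hcL hc) ((tl R C).comp g) :=
  comp_pt e (hcP hc) (hcL hc) (tl R C) (toLin C c) rfl g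

lemma zeroSec_pt (g : A →ₐ[R] C[X]) :
    zeroSec C c ≫ pt e (hcP hc) g = pt e hc ((ev0 R C).comp g) :=
  comp_pt e (hcP hc) hc (ev0 R C) (zeroSec C c) rfl g

end Orbit

section TPt

variable {C C' : Type u} [CommRing C] [CommRing C']
variable {c : Spec (CommRingCat.of C) ⟶ S} {c' : Spec (CommRingCat.of C') ⟶ S}

variable (c') in
/-- the character with values in the functions on `Spec C'` attached to a character in `C'` -/
noncomputable def secChar (χ : Multiplicative ℤ →* C') : Multiplicative ℤ →* Γ((aff C' c').left, ⊤) :=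
  ((Scheme.ΓSpecIso (CommRingCat.of C')).inv.hom.toMonoidHom).comp χ

variable (c') in
lemma secChar_mul (χ χ' : Multiplicative ℤ →* C') :
    secChar c' (χ * χ') = secChar c' χ * secChar c' χ' := by
  refine MonoidHom.ext fun n => ?_
  exact map_mul (Scheme.ΓSpecIso (CommRingCat.of C')).inv.hom _ _

variable (c') in
lemma secChar_one : secChar c' (1 : Multiplicative ℤ →* C') = 1 := by
  refine MonoidHom.ext fun n => ?_
  exact map_one (Scheme.ΓSpecIso (CommRingCat.of C')).inv.hom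

/-- The point of `𝔾_m` with values in `Spec C'` attached to a ring map `C[T;T⁻¹] → C'`. -/
lemma comp_tPt (x : aff C' c' ⟶ gmo C c) (ψ : C[T;T⁻¹] →+* C')
    (hx : x.left = Spec.map (CommRingCat.ofHom ψ)) (χ : Multiplicative ℤ →* C')
    (hχ : ∀ n : ℤ, ψ (LaurentPolynomial.T n) = χ (Multiplicative.ofAdd n)) :
    x ≫ tPt C c = DSPts.dsEquiv (aff C' c') ℤ (secChar c' χ) := by
  rw [tPt, DSPts.dsEquiv_naturality]
  congr 1
  refine MonoidHom.ext fun n => ?_
  have h := Scheme.ΓSpecIso_inv_naturality (CommRingCat.ofHom ψ)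
  have h2 := congrArg (fun f => f.hom (LaurentPolynomial.T (Multiplicative.toAdd n))) h
  change x.left.appTop.hom ((Scheme.ΓSpecIso (CommRingCat.of C[T;T⁻¹])).inv.hom
    (LaurentPolynomial.T n.toAdd)) = (Scheme.ΓSpecIso (CommRingCat.of C')).inv.hom (χ n)
  rw [hx]
  refine h2.symm.trans ?_
  change (Scheme.ΓSpecIso (CommRingCat.of C')).inv.hom (ψ (LaurentPolynomial.T n.toAdd)) = _
  rw [hχ]
  rfl

end TPt

section Lam

variable (lam : Red.Gm S ⟶ G)
variable (e : Red.bc r G ≅ SpecOver R A) [IsMonHom e.hom]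

lemma hcR : Spec.map (CommRingCat.ofHom (algebraMap R R)) ≫ r = r := by
  have : CommRingCat.ofHom (algebraMap R R) = 𝟙 _ := rfl
  rw [this, Spec.map_id, Category.id_comp]

/-- the one-parameter subgroup, as an algebra map `A → R[T;T⁻¹]` -/
noncomputable def lamAlg : A →ₐ[R] R[T;T⁻¹] :=
  (Equiv.ofBijective _ (pt_bijective e (hcL (hcR (r := r))))).symm (tPt R r ≫ lam)

lemma pt_lamAlg : pt e (hcL (hcR (r := r))) (lamAlg lam e) = tPt R r ≫ lam :=
  (Equiv.ofBijective _ (pt_bijective e (hcL (hcR (r := r))))).apply_symm_apply _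

variable {C : Type u} [CommRing C] [Algebra R C] {c : Spec (CommRingCat.of C) ⟶ S}
variable (hc : Spec.map (CommRingCat.ofHom (algebraMap R C)) ≫ r = c)

/-- the morphism `Spec C ⟶ Spec R[T;T⁻¹]` attached to an algebra map -/
noncomputable def toGmo (ψ : R[T;T⁻¹] →ₐ[R] C) : aff C c ⟶ gmo R r :=
  Over.homMk (Spec.map (CommRingCat.ofHom ψ.toRingHom)) (by
    change Spec.map (CommRingCat.ofHom ψ.toRingHom) ≫
      Spec.map (CommRingCat.ofHom (algebraMap R R[T;T⁻¹])) ≫ r = c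
    rw [← Category.assoc, ← Spec.map_comp, ← CommRingCat.ofHom_comp, ← hc]
    congr 3
    exact ψ.comp_algebraMap)

lemma pt_comp_lamAlg (ψ : R[T;T⁻¹] →ₐ[R] C) (χ : Multiplicative ℤ →* C)
    (hχ : ∀ n : ℤ, ψ (LaurentPolynomial.T n) = χ (Multiplicative.ofAdd n)) :
    pt e hc (ψ.comp (lamAlg lam e)) = DSPts.dsEquiv (aff C c) ℤ (secChar c χ) ≫ lam := by
  rw [← comp_tPt (toGmo hc ψ) ψ.toRingHom rfl χ hχ, Category.assoc, ← pt_lamAlg lam e,
    comp_pt e (hcL hcR) hc ψ (toGmo hc ψ) rfl]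

variable [IsMonHom lam]

lemma counit_lamAlg : (Bialgebra.counitAlgHom R R[T;T⁻¹]).comp (lamAlg lam e) =
    Bialgebra.counitAlgHom R A := by
  apply (pt_bijective e (hcR (r := r))).1
  rw [pt_comp_lamAlg lam e hcR (Bialgebra.counitAlgHom R R[T;T⁻¹]) 1 (fun n => by simp)]
  rw [secChar_one, map_one, MonObj.one_comp]
  rw [← pt_one e (hcR (r := r))]
  rfl

variable (R) in
/-- the character `n ↦ Tⁿ` -/
noncomputable def tC : Multiplicative ℤ →* R[T;T⁻¹] where
  toFun n := LaurentPolynomial.T n.toAdd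
  map_one' := LaurentPolynomial.T_zero
  map_mul' _ _ := LaurentPolynomial.T_add _ _

lemma comul_lamAlg : (Algebra.TensorProduct.map (lamAlg lam e) (lamAlg lam e)).comp
      (Bialgebra.comulAlgHom R A) =
    (Bialgebra.comulAlgHom R R[T;T⁻¹]).comp (lamAlg lam e) := by
  have hc2 : Spec.map (CommRingCat.ofHom (algebraMap R (R[T;T⁻¹] ⊗[R] R[T;T⁻¹]))) ≫ r =
      Spec.map (CommRingCat.ofHom (algebraMap R (R[T;T⁻¹] ⊗[R] R[T;T⁻¹]))) ≫ r := rfl
  have h1 : (Algebra.TensorProduct.map (lamAlg lam e) (lamAlg lam e)).comp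
      (Bialgebra.comulAlgHom R A) = (toConv ((Algebra.TensorProduct.includeLeft).comp
        (lamAlg lam e)) * toConv ((Algebra.TensorProduct.includeRight).comp
        (lamAlg lam e)) : WithConv (A →ₐ[R] R[T;T⁻¹] ⊗[R] R[T;T⁻¹])).ofConv := by
    ext a
    rw [AlgHom.convMul_def]
    change _ = Algebra.TensorProduct.lmul' R (Algebra.TensorProduct.map _ _
      (Bialgebra.comulAlgHom R A a))
    rw [AlgHom.comp_apply]
    generalize Bialgebra.comulAlgHom R A a = x
    induction x using TensorProduct.induction_on with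
    | zero => simp
    | tmul x y => simp
    | add x y hx hy => simp only [map_add, hx, hy]
  apply (pt_bijective e hc2).1
  rw [h1, pt_mul]
  change pt e hc2 (Algebra.TensorProduct.includeLeft.comp (lamAlg lam e)) *
    pt e hc2 (Algebra.TensorProduct.includeRight.comp (lamAlg lam e)) = _
  rw [pt_comp_lamAlg lam e hc2 (Algebra.TensorProduct.includeLeft)
      (((Algebra.TensorProduct.includeLeft : R[T;T⁻¹] →ₐ[R] R[T;T⁻¹] ⊗[R] R[T;T⁻¹]) :
        R[T;T⁻¹] →* R[T;T⁻¹] ⊗[R] R[T;T⁻¹]).comp (tC R)) (fun n => rfl),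
    pt_comp_lamAlg lam e hc2 (Algebra.TensorProduct.includeRight)
      (((Algebra.TensorProduct.includeRight : R[T;T⁻¹] →ₐ[R] R[T;T⁻¹] ⊗[R] R[T;T⁻¹]) :
        R[T;T⁻¹] →* R[T;T⁻¹] ⊗[R] R[T;T⁻¹]).comp (tC R)) (fun n => rfl),
    pt_comp_lamAlg lam e hc2 (Bialgebra.comulAlgHom R R[T;T⁻¹])
      (((Algebra.TensorProduct.includeLeft : R[T;T⁻¹] →ₐ[R] R[T;T⁻¹] ⊗[R] R[T;T⁻¹]) :
        R[T;T⁻¹] →* R[T;T⁻¹] ⊗[R] R[T;T⁻¹]).comp (tC R) *
        ((Algebra.TensorProduct.includeRight : R[T;T⁻¹] →ₐ[R] R[T;T⁻¹] ⊗[R] R[T;T⁻¹]) :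
        R[T;T⁻¹] →* R[T;T⁻¹] ⊗[R] R[T;T⁻¹]).comp (tC R)) (fun n => ?_),
    secChar_mul, map_mul, MonObj.mul_comp]
  have h2 : Coalgebra.comul (R := R) (LaurentPolynomial.T n : R[T;T⁻¹]) =
      ((LaurentPolynomial.T n : R[T;T⁻¹]) ⊗ₜ[R] (1 : R[T;T⁻¹])) *
      ((1 : R[T;T⁻¹]) ⊗ₜ[R] (LaurentPolynomial.T n : R[T;T⁻¹])) := by
    rw [LaurentPolynomial.comul_T, Algebra.TensorProduct.tmul_mul_tmul, _root_.one_mul, _root_.mul_one]
  exact h2

/-- the one-parameter subgroup, as a bialgebra map `A → R[T;T⁻¹]` -/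
noncomputable def lamB : A →ₐc[R] R[T;T⁻¹] :=
  BialgHom.ofAlgHom (lamAlg lam e) (counit_lamAlg lam e) (comul_lamAlg lam e)

lemma lamB_coe : (lamB lam e : A →ₐ[R] R[T;T⁻¹]) = lamAlg lam e := rfl

/-- the point `λ(T)` -/
lemma pt_lamR : pt e (hcL hc) (Dyn.lamR R A (lamB lam e) C) = tPt C c ≫ lam := by
  rw [Dyn.lamR, lamB_coe,
    pt_comp_lamAlg lam e (hcL hc) (AddMonoidAlgebra.mapAlgHom ℤ (Algebra.ofId R C)) (tC C)
    (fun n => ?_)]
  · rfl
  · change AddMonoidAlgebra.mapAlgHom ℤ (Algebra.ofId R C) (LaurentPolynomial.T n) =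
      LaurentPolynomial.T n
    rw [LaurentPolynomial.T, AddMonoidAlgebra.mapAlgHom_single, map_one]
    rfl

/-- conjugated orbits correspond -/
lemma orb_pt (g : A →ₐ[R] C) :
    orb lam (pt e hc g) = pt e (hcL hc) (Dyn.conjOrbit R A (lamB lam e) C g) := by
  have h1 : Dyn.conjOrbit R A (lamB lam e) C g =
    (toConv (Dyn.lamR R A (lamB lam e) C) * toConv ((cst R C).comp g) *
      (toConv (Dyn.lamR R A (lamB lam e) C))⁻¹).ofConv := conv3_eq _ _ _
  have h2 : ∀ x y : WithConv (A →ₐ[R] C[T;T⁻¹]),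
      pt e (hcL hc) (x * y * x⁻¹).ofConv =
      pt e (hcL hc) x.ofConv * pt e (hcL hc) y.ofConv * (pt e (hcL hc) x.ofConv)⁻¹ := by
    intro x y
    have h3 := map_mul (ptEquiv e (hcL hc)) (x * y) x⁻¹
    have h4 := map_mul (ptEquiv e (hcL hc)) x y
    have h5 := map_inv (ptEquiv e (hcL hc)) x
    rw [h4, h5] at h3
    exact h3
  rw [h1, h2, orb, gmPr_pt e hc]
  change _ = pt e (hcL hc) (Dyn.lamR R A (lamB lam e) C) * _ *
    (pt e (hcL hc) (Dyn.lamR R A (lamB lam e) C))⁻¹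
  rw [pt_lamR lam e hc]

lemma limEx_pt (g : A →ₐ[R] C) :
    LimEx lam (pt e hc g) ↔ Dyn.LimExists R A (lamB lam e) C g := by
  constructor
  · rintro ⟨h, hh⟩
    obtain ⟨h, rfl⟩ := (pt_bijective e (hcP hc)).2 h
    refine ⟨h, ?_⟩
    rw [toLin_pt e hc, orb_pt lam e hc] at hh
    exact (pt_bijective e (hcL hc)).1 hh
  · rintro ⟨h, hh⟩
    refine ⟨pt e (hcP hc) h, ?_⟩
    rw [toLin_pt e hc, orb_pt lam e hc, ← hh]
    rfl

lemma limOne_pt (g : A →ₐ[R] C) :
    LimOne lam (pt e hc g) ↔ Dyn.LimIsOne R A (lamB lam e) C g := by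
  constructor
  · rintro ⟨h, hh, h0⟩
    obtain ⟨h, rfl⟩ := (pt_bijective e (hcP hc)).2 h
    rw [toLin_pt e hc, orb_pt lam e hc] at hh
    rw [zeroSec_pt e hc, ← pt_one e hc] at h0
    exact ⟨h, (pt_bijective e (hcL hc)).1 hh, (pt_bijective e hc).1 h0⟩
  · rintro ⟨h, hh, h0⟩
    refine ⟨pt e (hcP hc) h, ?_, ?_⟩
    · rw [toLin_pt e hc, orb_pt lam e hc, ← hh]
      rfl
    · rw [zeroSec_pt e hc, ← pt_one e hc]
      exact congrArg (pt e hc) h0

lemma orbConst_pt (g : A →ₐ[R] C) :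
    OrbConst lam (pt e hc g) ↔ Centralizes (lamB lam e) (toConv g) := by
  rw [OrbConst, orb_pt lam e hc, gmPr_pt e hc, (pt_bijective e (hcL hc)).1.eq_iff,
    centralizes_iff_conjOrbit]
  rfl

lemma limEx_pt_iff (g : A →ₐ[R] C) :
    LimEx lam (pt e hc g) ↔ ∀ a ∈ JP (lamB lam e), g a = 0 := by
  rw [limEx_pt, vanish_JP_iff]

lemma limOne_pt_iff (g : A →ₐ[R] C) :
    LimOne lam (pt e hc g) ↔ ∀ a ∈ JU (lamB lam e), g a = 0 := by
  rw [limOne_pt, vanish_JU_iff]

end Lam

end Groth.Agent.Sga3B.Parab.Chart998
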