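import Mathlib.LinearAlgebra.FreeModule.Finite.Basic
import Mathlib.LinearAlgebra.FreeModule.PID
import Mathlib.LinearAlgebra.Dimension.Free
import Mathlib.LinearAlgebra.InvariantBasisNumber
import Groth.Prelude.Def_Red2
import Mathlib.Algebra.Order.BigOperators.Group.Finset

/-!
# Total orders on finitely generated free abelian groups and one-parameter approximations
-/

set_option autoImplicit false

universe u

namespace Groth.Agent.Sga3B.Parab.Cone156

/-- There is a "positive cone" `S ⊆ M` which, on every finite set, is the set of non-negative elements for a linear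
form with integral values which vanishes only at `0`. -/
def HasCone (M : Type u) [AddCommGroup M] : Prop :=
  ∃ S : AddSubmonoid M, ∀ F : Finset M, ∃ ν : M →+ ℤ, (∀ m ∈ F, m ∈ S ↔ 0 ≤ ν m) ∧ ∀ m ∈ F, ν m = 0 → m = 0

theorem HasCone.of_equiv {M N : Type*} [AddCommGroup M] [AddCommGroup N] (e : M ≃+ N) (h : HasCone M) : HasCone N := by
  classical
  obtain ⟨S, hS⟩ := h
  refine ⟨S.comap e.symm.toAddMonoidHom, fun F => ?_⟩
  obtain ⟨ν, h1, h2⟩ := hS (F.image e.symm)
  refine ⟨ν.comp e.symm.toAddMonoidHom, fun m hm => ?_, fun m hm h => ?_⟩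
  · exact h1 (e.symm m) (Finset.mem_image_of_mem _ hm)
  · have := h2 (e.symm m) (Finset.mem_image_of_mem _ hm) h
    simpa using this

theorem HasCone.of_subsingleton (M : Type*) [AddCommGroup M] [Subsingleton M] : HasCone M :=
  ⟨⊤, fun F => ⟨0, fun m _ => by simp, fun m _ _ => Subsingleton.elim _ _⟩⟩

theorem HasCone.prod {M : Type*} [AddCommGroup M] (h : HasCone M) : HasCone (ℤ × M) := by
  classical
  obtain ⟨S, hS⟩ := h
  refine ⟨{ carrier := {x | 0 < x.1 ∨ (x.1 = 0 ∧ x.2 ∈ S)}
            zero_mem' := Or.inr ⟨rfl, S.zero_mem⟩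
            add_mem' := ?_ }, fun F => ?_⟩
  · rintro ⟨a, m⟩ ⟨b, n⟩ h h'
    simp only [Set.mem_ofPred_eq, Prod.mk_add_mk] at h h' ⊢
    rcases h with h | ⟨h, hm⟩ <;> rcases h' with h' | ⟨h', hn⟩
    · left; omega
    · left; omega
    · left; omega
    · right; exact ⟨by omega, S.add_mem hm hn⟩
  · obtain ⟨ν, h1, h2⟩ := hS (F.image Prod.snd)
    let N : ℤ := 1 + ∑ x ∈ F, |ν x.2|
    have hN : ∀ x ∈ F, |ν x.2| < N := by
      intro x hx
      have := Finset.single_le_sum (f := fun x : ℤ × M => |ν x.2|) (fun _ _ => abs_nonneg _) hx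
      change |ν x.2| ≤ ∑ x ∈ F, |ν x.2| at this
      omega
    refine ⟨N • AddMonoidHom.fst ℤ M + ν.comp (AddMonoidHom.snd ℤ M), ?_, ?_⟩
    · rintro ⟨a, m⟩ hx
      have hN' := abs_lt.mp (hN _ hx)
      simp only at hN'
      have h1' := h1 m (Finset.mem_image_of_mem Prod.snd hx)
      change (0 < a ∨ (a = 0 ∧ m ∈ S)) ↔ 0 ≤ N • a + ν m
      rw [smul_eq_mul]
      rcases lt_trichotomy a 0 with ha | rfl | ha
      · constructor
        · rintro (h | ⟨h, -⟩) <;> omega
        · intro h
          nlinarith
      · rw [mul_zero, zero_add, h1']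
        simp
      · constructor
        · intro _
          nlinarith
        · intro _
          exact Or.inl ha
    · rintro ⟨a, m⟩ hx h
      have hN' := abs_lt.mp (hN _ hx)
      simp only at hN'
      change N • a + ν m = 0 at h
      rw [smul_eq_mul] at h
      have ha : a = 0 := by
        rcases lt_trichotomy a 0 with ha | ha | ha
        · nlinarith
        · exact ha
        · nlinarith
      subst ha
      rw [mul_zero, zero_add] at h
      rw [h2 m (Finset.mem_image_of_mem Prod.snd hx) h]
      rfl

theorem hasCone_fin (r : ℕ) : HasCone (Fin r → ℤ) := by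
  induction r with
  | zero => exact HasCone.of_subsingleton _
  | succ r ih =>
    refine HasCone.of_equiv ?_ ih.prod
    exact
      { toFun := fun x => Fin.cons x.1 x.2
        invFun := fun f => (f 0, Fin.tail f)
        left_inv := fun x => by simp
        right_inv := fun f => by simp
        map_add' := fun x y => by
          ext i
          refine Fin.cases ?_ (fun i => ?_) i <;> simp }

theorem hasCone (M : Type*) [AddCommGroup M] [Module.Finite ℤ M] [Module.Free ℤ M] : HasCone M :=
  HasCone.of_equiv (Module.finBasis ℤ M).equivFun.symm.toAddEquiv (hasCone_fin _)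

end Groth.Agent.Sga3B.Parab.Cone156
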