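import Groth.Agent.Sga3B.Parab.EtHom

/-!
# Conjugation of subgroups by points: the local condition `g P g⁻¹ = Q`
-/

set_option autoImplicit false

universe u

open CategoryTheory MonoidalCategory CartesianMonoidalCategory MonObj GrpObj AlgebraicGeometry

namespace Groth.Agent.Sga3B.Parab.ConjLocal

open Groth.Agent.Sga3B Groth.Agent.Sga3C

variable {S : Scheme.{u}}

section Factor

variable {G P : Over S}

/-- Factoring through a monomorphism is local for fppf coverings. -/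
lemma factors_of_flat (p : P ⟶ G) [Mono p] {T' T : Over S} (h : T' ⟶ T) [Flat h.left]
    [Surjective h.left] [LocallyOfFinitePresentation h.left] (x : T ⟶ G)
    (H : ∃ y' : T' ⟶ P, y' ≫ p = h ≫ x) : ∃ y : T ⟶ P, y ≫ p = x := by
  obtain ⟨y', hy'⟩ := H
  obtain ⟨y, hy⟩ := QuotProps.exists_desc h y' (by
    intro T a b hab
    rw [← cancel_mono p, Category.assoc, Category.assoc, hy', ← Category.assoc, ← Category.assoc,
      hab])
  refine ⟨y, ?_⟩
  have := QuotProps.epi_of_flat_surjective h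
  rw [← cancel_epi h, ← Category.assoc, hy, hy']

/-- Factoring through a monomorphism is local for Zariski coverings. -/
lemma factors_of_zariski (p : P ⟶ G) [Mono p] {T : Over S} (x : T ⟶ G)
    (𝒰 : Scheme.OpenCover.{u} T.left)
    (H : ∀ i, ∃ y : Over.mk (𝒰.f i ≫ T.hom) ⟶ P,
      y ≫ p = (Over.homMk (𝒰.f i) : Over.mk (𝒰.f i ≫ T.hom) ⟶ T) ≫ x) :
    ∃ y : T ⟶ P, y ≫ p = x := by
  choose y hy using H
  let T' : Over S := Over.mk
    (Limits.Sigma.desc (f := fun i => 𝒰.X i) fun i => 𝒰.f i ≫ T.hom)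
  let h : T' ⟶ T := Over.homMk (Limits.Sigma.desc fun i => 𝒰.f i) (by
    apply Limits.Sigma.hom_ext
    intro i
    rw [← Category.assoc, Limits.Sigma.ι_desc]
    exact (Limits.Sigma.ι_desc (f := fun i => 𝒰.X i) (fun i => 𝒰.f i ≫ T.hom) i).symm)
  let yT : T' ⟶ P := Over.homMk (Limits.Sigma.desc (f := fun i => 𝒰.X i) fun i => (y i).left) (by
    apply Limits.Sigma.hom_ext
    intro i
    rw [← Category.assoc, Limits.Sigma.ι_desc, Over.w]
    exact (Limits.Sigma.ι_desc (f := fun i => 𝒰.X i) (fun i => 𝒰.f i ≫ T.hom) i).symm)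
  have h1 : Flat h.left := IsZariskiLocalAtSource.sigmaDesc fun i => inferInstance
  have h2 : LocallyOfFinitePresentation h.left :=
    IsZariskiLocalAtSource.sigmaDesc fun i => inferInstance
  have h3 : Surjective h.left := by
    apply Surjective.sigmaDesc_of_union_range_eq_univ
    rw [Set.eq_univ_iff_forall]
    intro z
    rw [Set.mem_iUnion]
    exact ⟨𝒰.idx z, 𝒰.covers z⟩
  refine factors_of_flat p h x ⟨yT, ?_⟩
  ext1
  apply Limits.Sigma.hom_ext
  intro i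
  change Limits.Sigma.ι _ i ≫ Limits.Sigma.desc _ ≫ p.left =
    Limits.Sigma.ι _ i ≫ Limits.Sigma.desc _ ≫ x.left
  rw [← Category.assoc, ← Category.assoc, Limits.Sigma.ι_desc, Limits.Sigma.ι_desc]
  exact congrArg (fun z => z.left) (hy i)

end Factor

section Conj

variable {G P Q : Over S} [GrpObj G]

/-- `g` conjugates `P` into `Q` over `X`: `g P g⁻¹ = Q`. -/
def ConjPt (p : P ⟶ G) (q : Q ⟶ G) (X : Over S) (g : X ⟶ G) : Prop :=
  ∀ (T : Over S) (t : T ⟶ X) (x : T ⟶ G),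
    (∃ y : T ⟶ P, y ≫ p = x) ↔ ∃ z : T ⟶ Q, z ≫ q = (t ≫ g) * x * (t ≫ g)⁻¹

variable {p : P ⟶ G} {q : Q ⟶ G}

lemma ConjPt.comp {X' X : Over S} (h : X' ⟶ X) {g : X ⟶ G} (H : ConjPt p q X g) :
    ConjPt p q X' (h ≫ g) := by
  intro T t x
  rw [H T (t ≫ h) x, Category.assoc]

/-- Two points conjugating `P` into `Q` differ by a point normalising `P`. -/
lemma ConjPt.inv_mul {X : Over S} {g g' : X ⟶ G} (H : ConjPt p q X g) (H' : ConjPt p q X g') :
    ConjPt p p X (g⁻¹ * g') := by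
  intro T t x
  have h1 := H' T t x
  rw [h1, H T t ((t ≫ (g⁻¹ * g')) * x * (t ≫ (g⁻¹ * g'))⁻¹)]
  have h2 : (t ≫ g) * ((t ≫ (g⁻¹ * g')) * x * (t ≫ (g⁻¹ * g'))⁻¹) * (t ≫ g)⁻¹ =
      (t ≫ g') * x * (t ≫ g')⁻¹ := by
    rw [comp_mul, comp_inv]
    group
  rw [h2]

lemma ConjPt.mul {R : Over S} {r : R ⟶ G} {X : Over S} {g g' : X ⟶ G} (H : ConjPt p q X g)
    (H' : ConjPt q r X g') : ConjPt p r X (g' * g) := by
  intro T t x
  rw [H T t x, H' T t]
  have h2 : (t ≫ g') * ((t ≫ g) * x * (t ≫ g)⁻¹) * (t ≫ g')⁻¹ =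
      (t ≫ (g' * g)) * x * (t ≫ (g' * g))⁻¹ := by
    rw [comp_mul]
    group
  rw [h2]

lemma ConjPt.inv {X : Over S} {g : X ⟶ G} (H : ConjPt p q X g) : ConjPt q p X g⁻¹ := by
  intro T t x
  rw [H T t]
  have h2 : (t ≫ g) * ((t ≫ g⁻¹) * x * (t ≫ g⁻¹)⁻¹) * (t ≫ g)⁻¹ = x := by
    rw [comp_inv]
    group
  rw [h2]

lemma conjPt_one (p : P ⟶ G) (X : Over S) : ConjPt p p X 1 := by
  intro T t x
  rw [comp_one, _root_.one_mul, inv_one, _root_.mul_one]

/-- The points of `P` normalise `P`. -/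
lemma conjPt_self [GrpObj P] [IsMonHom p] {X : Over S} (y : X ⟶ P) : ConjPt p p X (y ≫ p) := by
  intro T t x
  constructor
  · rintro ⟨z, rfl⟩
    refine ⟨(t ≫ y) * z * (t ≫ y)⁻¹, ?_⟩
    rw [mul_comp, mul_comp, inv_comp, Category.assoc]
  · rintro ⟨z, hz⟩
    refine ⟨(t ≫ y)⁻¹ * z * (t ≫ y), ?_⟩
    rw [mul_comp, mul_comp, inv_comp, hz, Category.assoc]
    group

lemma ConjPt.mul_right [GrpObj P] [IsMonHom p] {X : Over S} {g : X ⟶ G} (H : ConjPt p q X g)
    (y : X ⟶ P) : ConjPt p q X (g * (y ≫ p)) :=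
  (conjPt_self y).mul H

/-- The condition `g P g⁻¹ = Q` is local. -/
theorem isLocalPt_conjPt [Mono p] [Mono q] : EtSub.IsLocalPt (ConjPt p q) where
  comp h _ H := H.comp h
  zariski {X} g 𝒰 H := by
    intro T t x
    let 𝒱 : Scheme.OpenCover.{u} T.left := 𝒰.pullback₁ t.left
    have key : ∀ i, (∃ y : Over.mk (𝒱.f i ≫ T.hom) ⟶ P,
        y ≫ p = (Over.homMk (𝒱.f i) : Over.mk (𝒱.f i ≫ T.hom) ⟶ T) ≫ x) ↔
        ∃ y : Over.mk (𝒱.f i ≫ T.hom) ⟶ Q,
        y ≫ q = (Over.homMk (𝒱.f i) : Over.mk (𝒱.f i ≫ T.hom) ⟶ T) ≫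
          ((t ≫ g) * x * (t ≫ g)⁻¹) := by
      intro i
      let r : Over.mk (𝒱.f i ≫ T.hom) ⟶ Over.mk (𝒰.f i ≫ X.hom) :=
        Over.homMk (Limits.pullback.snd t.left (𝒰.f i)) (by
          change Limits.pullback.snd t.left (𝒰.f i) ≫ 𝒰.f i ≫ X.hom =
            Limits.pullback.fst t.left (𝒰.f i) ≫ T.hom
          rw [← Category.assoc, ← Limits.pullback.condition, Category.assoc, Over.w])
      rw [H i _ r]
      have h1 : r ≫ (Over.homMk (𝒰.f i) : Over.mk (𝒰.f i ≫ X.hom) ⟶ X) =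
          (Over.homMk (𝒱.f i) : Over.mk (𝒱.f i ≫ T.hom) ⟶ T) ≫ t := by
        ext1
        exact Limits.pullback.condition.symm
      rw [← Category.assoc r, h1, comp_mul, comp_mul, comp_inv, Category.assoc]
    constructor
    · rintro ⟨y, hy⟩
      refine factors_of_zariski q _ 𝒱 fun i => (key i).1 ⟨Over.homMk (𝒱.f i) ≫ y, ?_⟩
      rw [Category.assoc, hy]
    · rintro ⟨y, hy⟩
      refine factors_of_zariski p _ 𝒱 fun i => (key i).2 ⟨Over.homMk (𝒱.f i) ≫ y, ?_⟩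
      rw [Category.assoc, hy]
  flat {X' X} h g h1 h2 h3 h4 H := by
    intro T t x
    let T' : Over S := Over.mk (Limits.pullback.fst t.left h.left ≫ T.hom)
    let a : T' ⟶ T := Over.homMk (Limits.pullback.fst t.left h.left)
    let b : T' ⟶ X' := Over.homMk (Limits.pullback.snd t.left h.left) (by
      change Limits.pullback.snd t.left h.left ≫ X'.hom =
        Limits.pullback.fst t.left h.left ≫ T.hom
      rw [← Over.w h, ← Over.w t, ← Category.assoc, ← Category.assoc, Limits.pullback.condition])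
    have hab : a ≫ t = b ≫ h := by
      ext1
      exact Limits.pullback.condition
    have ha1 : Flat a.left := inferInstanceAs (Flat (Limits.pullback.fst t.left h.left))
    have ha2 : Surjective a.left := inferInstanceAs (Surjective (Limits.pullback.fst t.left h.left))
    have ha3 : LocallyOfFinitePresentation a.left :=
      inferInstanceAs (LocallyOfFinitePresentation (Limits.pullback.fst t.left h.left))
    have key := H T' b (a ≫ x)
    have e1 : (b ≫ h ≫ g) * (a ≫ x) * (b ≫ h ≫ g)⁻¹ = a ≫ ((t ≫ g) * x * (t ≫ g)⁻¹) := by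
      rw [← Category.assoc b, ← hab, comp_mul, comp_mul, comp_inv, Category.assoc]
    rw [e1] at key
    constructor
    · rintro ⟨y, hy⟩
      exact factors_of_flat q a _ (key.1 ⟨a ≫ y, by rw [Category.assoc, hy]⟩)
    · rintro ⟨y, hy⟩
      exact factors_of_flat p a _ (key.2 ⟨a ≫ y, by rw [Category.assoc, hy]⟩)

/-- A global point conjugating `P` into `Q` gives an isomorphism `P ≅ Q`. -/
theorem exists_iso [Mono p] [Mono q] {g : 𝟙_ (Over S) ⟶ G} (H : ConjPt p q _ g) :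
    ∃ e : P ≅ Q, e.hom ≫ q = (toUnit P ≫ g) * p * (toUnit P ≫ g)⁻¹ := by
  obtain ⟨a, ha⟩ := (H P (toUnit P) p).1 ⟨𝟙 P, Category.id_comp _⟩
  obtain ⟨b, hb⟩ := (H Q (toUnit Q) ((toUnit Q ≫ g)⁻¹ * q * (toUnit Q ≫ g))).2 ⟨𝟙 Q, by
    rw [Category.id_comp]
    group⟩
  refine ⟨⟨a, b, ?_, ?_⟩, ha⟩
  · rw [← cancel_mono p, Category.assoc, hb, comp_mul, comp_mul, comp_inv, ha, Category.id_comp]
    have : a ≫ toUnit Q ≫ g = toUnit P ≫ g := by
      rw [← Category.assoc, comp_toUnit]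
    rw [this]
    group
  · rw [← cancel_mono q, Category.assoc, ha, comp_mul, comp_mul, comp_inv, hb, Category.id_comp]
    have : b ≫ toUnit P ≫ g = toUnit Q ≫ g := by
      rw [← Category.assoc, comp_toUnit]
    rw [this]
    group

end Conj

end Groth.Agent.Sga3B.Parab.ConjLocal
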