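import Groth.Agent.Sga3B.RG.BrMax

/-!
# Conjugacy of maximal tori over an algebraically closed field: scheme form from the points form
-/

set_option autoImplicit false

universe u

open CategoryTheory MonoidalCategory CartesianMonoidalCategory MonObj GrpObj AlgebraicGeometry
open Groth.Agent.Books.AffBridge Groth.Agent.Books.AffBridge2

namespace Groth.Agent.Sga3B.Parab.TorusK

open Groth.Agent.Sga3B Groth.Agent.Sga3B.RG Groth.Agent.Sga3B.RG.BrPts Groth.Agent.Sga3B.RG.BrTorus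
  Groth.Agent.Sga3B.RG.BrMax

variable {K : Type u} [Field K] [IsAlgClosed K]

/-- Conjugacy of the maximal tori of a smooth connected affine group over an algebraically closed
field, from its points form `hP7`. -/
theorem exists_conj_torus
    (hP7 : ∀ (A : Type u) [CommRing A] [HopfAlgebra K A] [Algebra.FiniteType K A] [IsDomain A]
      (T T' : Subgroup (Pt K A)), IsMaxTorusSub T → IsMaxTorusSub T' →
        ∃ g : Pt K A, T.map (MulAut.conj g).toMonoidHom = T')
    {Q T₁ T₂ : Over (Spec (CommRingCat.of K))} [GrpObj Q] [GrpObj T₁] [GrpObj T₂]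
    [IsAffineHom Q.hom] [Smooth Q.hom] [ConnectedSpace Q.left] (t₁ : T₁ ⟶ Q) (t₂ : T₂ ⟶ Q)
    (h₁ : Red.IsMaximalTorus t₁) (h₂ : Red.IsMaximalTorus t₂) :
    ∃ (g : 𝟙_ (Over (Spec (CommRingCat.of K))) ⟶ Q) (φ : T₁ ⟶ T₂), IsMonHom φ ∧
      φ ≫ t₂ = (toUnit _ ≫ g) * t₁ * (toUnit _ ≫ g)⁻¹ := by
  have : IsAffine Q.left := isAffine_of_isAffineHom Q.hom
  obtain ⟨A, _, _, e, he⟩ := exists_hopf K Q
  have hei : IsMonHom e.inv := inferInstance
  have hlft : LocallyOfFiniteType (SpecOver K A).hom := by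
    have h : (SpecOver K A).hom = e.inv.left ≫ Q.hom := (Over.w e.inv).symm
    rw [h]
    infer_instance
  have hft : Algebra.FiniteType K A := (locallyOfFiniteType_specOver_iff K A).1 hlft
  have hdom : IsDomain A := by
    rw [← isDomain_iff (K := K)]
    constructor
    · have h : (SpecOver K A).hom = e.inv.left ≫ Q.hom := (Over.w e.inv).symm
      rw [h]
      infer_instance
    · have : ConnectedSpace ((Over.forget (Spec (CommRingCat.of K))).obj Q) :=
        inferInstanceAs (ConnectedSpace Q.left)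
      exact (Scheme.homeoOfIso ((Over.forget _).mapIso e)).surjective.connectedSpace
        (Scheme.homeoOfIso ((Over.forget _).mapIso e)).continuous
  have m₁ : IsMonHom t₁ := h₁.1
  have m₂ : IsMonHom t₂ := h₂.1
  have n₁ : Mono t₁ := h₁.2.1
  have n₂ : Mono t₂ := h₂.2.1
  obtain ⟨g0, hg0⟩ := hP7 A (ptsSub (t₁ ≫ e.hom)) (ptsSub (t₂ ≫ e.hom))
    (isMaxTorusSub_of_isMaximalTorus t₁ e h₁) (isMaxTorusSub_of_isMaximalTorus t₂ e h₂)
  let g : 𝟙_ (Over (Spec (CommRingCat.of K))) ⟶ Q := ptEquiv K A g0 ≫ e.inv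
  have hcl : IsClosedImmersion (t₂ ≫ e.hom).left := isClosedImmersion_of_torus _ h₂.2.2.1
  have hcl' : IsClosedImmersion t₂.left := by
    have h : t₂.left = (t₂ ≫ e.hom).left ≫ e.inv.left := by
      rw [← Over.comp_left, Category.assoc, e.hom_inv_id, Category.comp_id]
    rw [h]
    infer_instance
  have hsm : Smooth T₁.hom := TorusAlgClosed.smooth_of_isTorus h₁.2.2.1
  have hred : IsReduced T₁.left := Books.AlgPtsSmooth.isReduced_of_smooth T₁
  obtain ⟨φ, hφ⟩ := BrPts.exists_factor t₂ ((toUnit T₁ ≫ g) * t₁ * (toUnit T₁ ≫ g)⁻¹) (by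
    intro x
    have h1 : x ≫ ((toUnit T₁ ≫ g) * t₁ * (toUnit T₁ ≫ g)⁻¹) = g * (x ≫ t₁) * g⁻¹ := by
      rw [comp_mul, comp_mul, comp_inv, ← Category.assoc, toUnit_unique (x ≫ toUnit T₁) (𝟙 _),
        Category.id_comp]
    obtain ⟨a, ha⟩ := (ptEquiv K A).surjective (x ≫ t₁ ≫ e.hom)
    have h2 : a ∈ ptsSub (t₁ ≫ e.hom) := ⟨x, ha.symm⟩
    have h3 : g0 * a * g0⁻¹ ∈ ptsSub (t₂ ≫ e.hom) := by
      rw [← hg0]
      exact ⟨a, h2, rfl⟩
    obtain ⟨n, hn⟩ := h3
    refine ⟨n, ?_⟩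
    rw [← cancel_mono e.hom, Category.assoc, hn, h1, MonObj.mul_comp, MonObj.mul_comp,
      GrpObj.inv_comp, map_mul, map_mul, map_inv, ha]
    simp only [g, Category.assoc, Iso.inv_hom_id, Category.comp_id])
  refine ⟨g, φ, ?_, hφ⟩
  apply Pts.isMonHom_of_points
  intro X x y
  have key : ∀ z : X ⟶ T₁, (z ≫ φ) ≫ t₂ = (toUnit X ≫ g) * (z ≫ t₁) * (toUnit X ≫ g)⁻¹ := by
    intro z
    rw [Category.assoc, hφ, comp_mul, comp_mul, comp_inv, ← Category.assoc,
      toUnit_unique (z ≫ toUnit T₁) (toUnit X)]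
  rw [← cancel_mono t₂, MonObj.mul_comp (x ≫ φ), key, key, key, MonObj.mul_comp]
  group

end Groth.Agent.Sga3B.Parab.TorusK
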