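import Groth.Agent.Sga3B.Parab.Transp
import Groth.Agent.Sga3B.Parab.TorusK
import Groth.Agent.Sga3B.Parab.DSHom
import Groth.Agent.Sga3B.Parab.ConjLocal
import Groth.Agent.Sga3B.Parab.ConjPt
import Groth.Agent.Sga3B.Parab.DynBc998
import Groth.Agent.Sga3B.BcNat

/-!
# Conjugation of dynamic subgroups

* `conj_of_trPt`: if `g lam g⁻¹ = mu` then `g P_G(lam) g⁻¹ = P_G(mu)`.
* `dsBcIso_nat`: base change of homomorphisms of diagonalizable groups.
* `exists_cochar_conj`: over an algebraically closed field, if `g P g⁻¹ = Q`, a cocharacter of a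
  maximal torus of `P` becomes a cocharacter of a given maximal torus of `Q` after conjugation by
  `a g`, `a` a point of `Q`.
-/

set_option autoImplicit false

universe u

open CategoryTheory MonoidalCategory CartesianMonoidalCategory MonObj GrpObj AlgebraicGeometry
open Groth.Agent.Sga3B.Parab.Transp Groth.Agent.Sga3B.Parab.Dyn998

namespace Groth.Agent.Sga3B.Parab.ConjDyn

open Groth.Agent.Sga3B Groth.Agent.Sga3C

section Dyn

variable {S : Scheme.{u}} {G : Over S} [GrpObj G] {lam mu : Red.Gm S ⟶ G}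

lemma TrPt.symm {X : Over S} {g : X ⟶ G} (h : TrPt lam mu g) : TrPt mu lam g⁻¹ := by
  intro Y y t
  rw [← h Y y t, comp_inv]
  group

lemma limEx_conj {C : Type u} [CommRing C] {c : Spec (CommRingCat.of C) ⟶ S} {g : aff C c ⟶ G}
    (h : TrPt lam mu g) {y : aff C c ⟶ G} (hy : LimEx lam y) : LimEx mu (g * y * g⁻¹) := by
  obtain ⟨l, hl⟩ := hy
  refine ⟨(linPr C c ≫ g) * l * (linPr C c ≫ g)⁻¹, ?_⟩
  rw [comp_mul, comp_mul, comp_inv, toLin_linPr_assoc, hl, orb, orb, ← h (gmo C c) (gmPr C c) (tPt C c),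
    comp_mul, comp_mul, comp_inv]
  group

lemma ptP_conj {X : Over S} {g : X ⟶ G} (h : TrPt lam mu g) {y : X ⟶ G} (hy : PtP lam y) :
    PtP mu (g * y * g⁻¹) := by
  intro C _ c x
  rw [comp_mul, comp_mul, comp_inv]
  exact limEx_conj (h.comp x) (hy C c x)

lemma ptP_conj_iff {X : Over S} {g : X ⟶ G} (h : TrPt lam mu g) {y : X ⟶ G} :
    PtP lam y ↔ PtP mu (g * y * g⁻¹) := by
  refine ⟨ptP_conj h, fun hy => ?_⟩
  have h1 := ptP_conj (TrPt.symm h) hy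
  have h2 : g⁻¹ * (g * y * g⁻¹) * g⁻¹⁻¹ = y := by group
  rwa [h2] at h1

/-- If `g lam g⁻¹ = mu` then `g P_G(lam) g⁻¹ = P_G(mu)`. -/
theorem conj_of_trPt {P Q : Over S} [GrpObj P] [GrpObj Q] {p : P ⟶ G} {q : Q ⟶ G}
    (hp : IsDynP lam p) (hq : IsDynP mu q) {X : Over S} {g : X ⟶ G} (h : TrPt lam mu g) :
    ConjPt.Conj p q g := by
  intro X' x y
  change (∃ z, z ≫ p = y) ↔ ∃ z, z ≫ q = _
  rw [hp.iff_ptP, hq.iff_ptP]
  exact ptP_conj_iff (h.comp x)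

end Dyn

section DS

variable {S S' : Scheme.{u}} (f : S' ⟶ S) {M N : Type} [AddCommGroup M] [AddCommGroup N]

/-- Base change of homomorphisms of diagonalizable groups. -/
lemma dsBcIso_nat (φ : M →+ N) :
    (RedIso.und (TorusAlgClosed.dsBcIso f N)).hom ≫ Red.DSmap S' φ =
      (Over.pullback f).map (Red.DSmap S φ) ≫ (RedIso.und (TorusAlgClosed.dsBcIso f M)).hom := by
  simp only [TorusAlgClosed.dsBcIso, BcNat.und_trans, BcNat.und_symm, Category.assoc]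
  rw [Red.DSmap, BcNat.congr_nat, ← Category.assoc, BcNat.comp_nat_inv, Category.assoc]
  rfl

end DS

section AlgClosed

open Groth.Agent.Sga3B.RG

variable {K : Type u} [Field K] [IsAlgClosed K]

/-- A homomorphism characterised by `φ ≫ q = g f g⁻¹` with `q` a mono homomorphism. -/
lemma isMonHom_of_conj {S : Scheme.{u}} {G P Q : Over S} [GrpObj G] [GrpObj P] [GrpObj Q]
    (q : Q ⟶ G) [IsMonHom q] [Mono q] (f : P ⟶ G) [IsMonHom f] (φ : P ⟶ Q) (g : 𝟙_ (Over S) ⟶ G)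
    (h : φ ≫ q = (toUnit _ ≫ g) * f * (toUnit _ ≫ g)⁻¹) : IsMonHom φ := by
  apply Pts.isMonHom_of_points
  intro X x y
  have key : ∀ z : X ⟶ P, (z ≫ φ) ≫ q = (toUnit X ≫ g) * (z ≫ f) * (toUnit X ≫ g)⁻¹ := by
    intro z
    rw [Category.assoc, h, comp_mul, comp_mul, comp_inv, ← Category.assoc,
      toUnit_unique (z ≫ toUnit P) (toUnit X)]
  rw [← cancel_mono q, MonObj.mul_comp (x ≫ φ), key, key, key, MonObj.mul_comp]
  group

/-- Over an algebraically closed field, if `g P g⁻¹ = Q`, a cocharacter `l₁` of a maximal torus of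
`P` becomes a cocharacter of a given maximal torus of `Q` after conjugation by `a g`, where `a` is
a point of `Q`. -/
theorem exists_cochar_conj
    (hP7 : ∀ (A : Type u) [CommRing A] [HopfAlgebra K A] [Algebra.FiniteType K A] [IsDomain A]
      (T T' : Subgroup (Pt K A)), IsMaxTorusSub T → IsMaxTorusSub T' →
        ∃ g : Pt K A, T.map (MulAut.conj g).toMonoidHom = T')
    {G P Q T₁ T₂ : Over (Spec (CommRingCat.of K))} [GrpObj G] [GrpObj P] [GrpObj Q] [GrpObj T₁]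
    [GrpObj T₂] (p : P ⟶ G) (q : Q ⟶ G) [IsMonHom p] [IsMonHom q] [Mono p] [Mono q]
    [IsAffineHom Q.hom] [Smooth Q.hom] [ConnectedSpace Q.left]
    (g : 𝟙_ (Over (Spec (CommRingCat.of K))) ⟶ G) (hg : ConjPt.Conj p q g)
    (t₁ : T₁ ⟶ P) (t₂ : T₂ ⟶ Q) (h₁ : Red.IsMaximalTorus t₁) (h₂ : Red.IsMaximalTorus t₂)
    {M : Type} [AddCommGroup M]
    (e : T₂ ≅ Red.DS (Spec (CommRingCat.of K)) M) [IsMonHom e.hom]
    (l₁ : Red.Gm (Spec (CommRingCat.of K)) ⟶ T₁) [IsMonHom l₁] :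
    ∃ (a : 𝟙_ (Over (Spec (CommRingCat.of K))) ⟶ Q) (y : M →+ ℤ),
      Red.DSmap (Spec (CommRingCat.of K)) y ≫ e.inv ≫ t₂ ≫ q =
        (toUnit _ ≫ ((a ≫ q) * g)) * (l₁ ≫ t₁ ≫ p) * (toUnit _ ≫ ((a ≫ q) * g))⁻¹ := by
  obtain ⟨φ, hφ⟩ := ConjLocal.exists_iso (p := p) (q := q) (g := g) hg
  have hφm : IsMonHom φ.hom := isMonHom_of_conj q p φ.hom g hφ
  have h₁' : Red.IsMaximalTorus (t₁ ≫ φ.hom) :=
    (BrMax.isMaximalTorus_iff_abs _).2 (BrMax.isAbsMax_comp_iso t₁ φ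
      ((BrMax.isMaximalTorus_iff_abs _).1 h₁))
  obtain ⟨a, ψ, hψm, hψ⟩ := TorusK.exists_conj_torus hP7 (t₁ ≫ φ.hom) t₂ h₁' h₂
  obtain ⟨y, hy⟩ := DSHom.exists_DSmap (M := ℤ) (N := M) (l₁ ≫ ψ ≫ e.hom)
  refine ⟨a, y, ?_⟩
  rw [← hy]
  have e1 : (l₁ ≫ ψ ≫ e.hom) ≫ e.inv ≫ t₂ ≫ q = l₁ ≫ (ψ ≫ t₂) ≫ q := by simp
  have e2 : t₁ ≫ φ.hom ≫ q = (toUnit _ ≫ g) * (t₁ ≫ p) * (toUnit _ ≫ g)⁻¹ := by
    rw [hφ, comp_mul, comp_mul, comp_inv, ← Category.assoc,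
      toUnit_unique (t₁ ≫ toUnit P) (toUnit T₁)]
  have e3 : (ψ ≫ t₂) ≫ q =
      (toUnit _ ≫ ((a ≫ q) * g)) * (t₁ ≫ p) * (toUnit _ ≫ ((a ≫ q) * g))⁻¹ := by
    rw [hψ, MonObj.mul_comp, MonObj.mul_comp, GrpObj.inv_comp, Category.assoc, Category.assoc,
      e2, comp_mul]
    group
  rw [e1, e3, comp_mul, comp_mul, comp_inv, ← Category.assoc l₁ (toUnit T₁),
    toUnit_unique (l₁ ≫ toUnit T₁) (toUnit _)]

end AlgClosed

end Groth.Agent.Sga3B.Parab.ConjDyn
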