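import Groth.Agent.Sga3B.Parab.ConjPt

/-!
# Gluing local conjugations of parabolic subgroups using the open cell
-/

set_option autoImplicit false

universe u

open CategoryTheory MonoidalCategory CartesianMonoidalCategory MonObj GrpObj AlgebraicGeometry

namespace Groth.Agent.Sga3B.Parab.ConjGlue

open Groth.Agent.Sga3B Groth.Agent.Sga3C ConjPt

variable {S : Scheme.{u}}

lemma isLocalPt_comp {G Y : Over S} {F : ∀ X : Over S, (X ⟶ G) → Prop} (hF : EtSub.IsLocalPt F)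
    (Φ : Y ⟶ G) : EtSub.IsLocalPt (fun X (r : X ⟶ Y) => F X (r ≫ Φ)) where
  comp h g hg := by
    rw [Category.assoc]
    exact hF.comp h _ hg
  zariski g 𝒰 H := hF.zariski _ 𝒰 fun i => by
    rw [← Category.assoc]
    exact H i
  flat h g h1 h2 h3 h4 H := hF.flat h _ h1 h2 h3 h4 (by
    rw [← Category.assoc]
    exact H)

section

variable {G P U : Over S} [GrpObj G]

/-- the multiplication `U × P ⟶ G` -/
noncomputable abbrev cellMap (v : U ⟶ G) (p : P ⟶ G) : U ⊗ P ⟶ G := (v ⊗ₘ p) ≫ μ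

lemma comp_cellMap (v : U ⟶ G) (p : P ⟶ G) {X : Over S} (x : X ⟶ U) (y : X ⟶ P) :
    lift x y ≫ cellMap v p = (x ≫ v) * (y ≫ p) := by
  rw [Hom.mul_def, ← Category.assoc]
  congr 1
  simp

lemma mem_cell_iff (v : U ⟶ G) (p : P ⟶ G) {X : Over S} (g : X ⟶ G) :
    Mem (cellMap v p) g ↔ ∃ (x : X ⟶ U) (y : X ⟶ P), (x ≫ v) * (y ≫ p) = g := by
  constructor
  · rintro ⟨z, rfl⟩
    refine ⟨z ≫ fst _ _, z ≫ snd _ _, ?_⟩
    rw [← comp_cellMap]
    congr 1
    ext1 <;> simp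
  · rintro ⟨x, y, rfl⟩
    exact ⟨lift x y, comp_cellMap v p x y⟩

lemma mem_cell_mul [GrpObj P] (v : U ⟶ G) (p : P ⟶ G) [IsMonHom p] {X : Over S} {g n : X ⟶ G}
    (hg : Mem (cellMap v p) g) (hn : Mem p n) : Mem (cellMap v p) (g * n) := by
  rw [mem_cell_iff] at hg ⊢
  obtain ⟨x, y, rfl⟩ := hg
  obtain ⟨z, rfl⟩ := hn
  refine ⟨x, y * z, ?_⟩
  rw [MonObj.mul_comp, _root_.mul_assoc]

lemma mem_of_isOpenImmersion {Y Z X : Over S} (i : Y ⟶ Z) [IsOpenImmersion i.left] (g : X ⟶ Z)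
    (h : Set.range g.left ⊆ Set.range i.left) : Mem i g := by
  refine ⟨Over.homMk (IsOpenImmersion.lift i.left g.left h) ?_, ?_⟩
  · rw [← Over.w i, ← Category.assoc, IsOpenImmersion.lift_fac, Over.w]
  · ext1
    exact IsOpenImmersion.lift_fac _ _ _

end

theorem exists_conj {G P Q U : Over S} [GrpObj G] [GrpObj P] (p : P ⟶ G) [IsMonHom p] [Mono p]
    (q : Q ⟶ G) [Mono q] (v : U ⟶ G)
    (hN : ∀ (X : Over S) (g : X ⟶ G), Conj p p g → Mem p g)
    (hΩ : IsOpenImmersion (cellMap v p).left)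
    (hloc : ∀ s : S, ∃ (S' : Scheme.{u}) (f : S' ⟶ S), Flat f ∧ LocallyOfFinitePresentation f ∧
      s ∈ Set.range f ∧ ∃ h : Over.mk f ⟶ G, Conj p q h)
    (w : 𝟙_ (Over S) ⟶ G)
    (hclosed : ∀ Z : Set S, IsClosed Z → Z.Nonempty → ∃ s ∈ Z, IsClosed {s})
    (hw : ∀ s : S, IsClosed {s} → ∃ (T : Over S), s ∈ Set.range T.hom ∧
      ∃ h : T ⟶ G, Conj p q h ∧ Mem (cellMap v p) ((toUnit _ ≫ w)⁻¹ * h)) :
    ∃ g : 𝟙_ (Over S) ⟶ G, Conj p q g := by
  choose S' f hf1 hf2 hf3 h hh using hloc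
  let g : ∀ s, Over.mk (f s) ⟶ G := fun s => (toUnit _ ≫ w)⁻¹ * h s
  let V : ∀ s, (S' s).Opens := fun s => (g s).left ⁻¹ᵁ (cellMap v p).left.opensRange
  let f' : ∀ s, (V s : Scheme.{u}) ⟶ S := fun s => (V s).ι ≫ f s
  let b : ∀ s, Over.mk (f' s) ⟶ Over.mk (f s) := fun s => Over.homMk (V s).ι rfl
  have hmono : Mono (cellMap v p) := by
    have : Mono (cellMap v p).left := inferInstance
    exact Over.mono_of_mono_left _
  have hcov : EtHom.IsCov f' := by
    refine ⟨fun s => ?_, fun s => ?_, ?_⟩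
    · have := hf1 s
      exact inferInstanceAs (Flat ((V s).ι ≫ f s))
    · have := hf2 s
      exact inferInstanceAs (LocallyOfFinitePresentation ((V s).ι ≫ f s))
    · by_contra hne
      push Not at hne
      obtain ⟨s₁, hs₁⟩ := hne
      let Z : Set S := (⋃ s, Set.range (f' s))ᶜ
      have hZ : IsClosed Z := by
        rw [isClosed_compl_iff]
        refine isOpen_iUnion fun s => ?_
        have := hf1 s
        have := hf2 s
        have h1 : UniversallyOpen ((V s).ι ≫ f s) := inferInstance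
        exact ((V s).ι ≫ f s).isOpenMap.isOpen_range
      obtain ⟨s₀, hs₀, hs₀'⟩ := hclosed Z hZ ⟨s₁, by
        simp only [Z, Set.mem_compl_iff, Set.mem_iUnion, not_exists]
        exact hs₁⟩
      apply hs₀
      rw [Set.mem_iUnion]
      obtain ⟨T, ⟨a₀, ha₀⟩, k, hk, hkm⟩ := hw s₀ hs₀'
      obtain ⟨s', hs'⟩ := hf3 s₀
      obtain ⟨z, hz1, hz2⟩ := Scheme.Pullback.exists_preimage_pullback (f := T.hom) (g := f s₀)
        a₀ s' (ha₀.trans hs'.symm)
      let X : Over S := Over.mk (Limits.pullback.fst T.hom (f s₀) ≫ T.hom)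
      let a : X ⟶ T := Over.homMk (Limits.pullback.fst T.hom (f s₀))
      let c : X ⟶ Over.mk (f s₀) := Over.homMk (Limits.pullback.snd T.hom (f s₀)) (by
        exact Limits.pullback.condition.symm)
      have h1 : Conj p p ((a ≫ k)⁻¹ * (c ≫ h s₀)) := (hk.comp a).inv.mul ((hh s₀).comp c)
      have h2 := hN _ _ h1
      have h3 := mem_cell_mul v p (hkm.comp a) h2
      have h4 : a ≫ ((toUnit _ ≫ w)⁻¹ * k) * ((a ≫ k)⁻¹ * (c ≫ h s₀)) = c ≫ g s₀ := by
        simp only [g]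
        rw [MonObj.comp_mul, MonObj.comp_mul, GrpObj.comp_inv, GrpObj.comp_inv, comp_toUnit_assoc,
          comp_toUnit_assoc]
        group
      rw [h4] at h3
      obtain ⟨y, hy⟩ := h3
      have h5 : s' ∈ V s₀ := by
        change (g s₀).left s' ∈ Set.range (cellMap v p).left
        refine ⟨y.left z, ?_⟩
        have h6 : (cellMap v p).left (y.left z) = (y ≫ cellMap v p).left z :=
          (Scheme.Hom.comp_apply _ _ _).symm
        have h7 : (g s₀).left (c.left z) = (c ≫ g s₀).left z :=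
          (Scheme.Hom.comp_apply _ _ _).symm
        rw [h6, hy, ← h7]
        congr 1
      refine ⟨s₀, ⟨s', h5⟩, ?_⟩
      change ((V s₀).ι ≫ f s₀) ⟨s', h5⟩ = s₀
      rw [Scheme.Hom.comp_apply]
      exact hs'
  have hdec : ∀ s, ∃ (y : Over.mk (f' s) ⟶ U) (x : Over.mk (f' s) ⟶ P),
      (y ≫ v) * (x ≫ p) = b s ≫ g s := by
    intro s
    rw [← mem_cell_iff]
    apply mem_of_isOpenImmersion
    rintro _ ⟨z, rfl⟩
    exact z.2
  let Φ : 𝟙_ (Over S) ⊗ U ⟶ G := (fst _ _ ≫ w) * (snd _ _ ≫ v)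
  have hΦ : ∀ (X : Over S) (x : X ⟶ 𝟙_ (Over S)) (y : X ⟶ U), lift x y ≫ Φ = (x ≫ w) * (y ≫ v) := by
    intro X x y
    simp only [Φ]
    rw [MonObj.comp_mul, lift_fst_assoc, lift_snd_assoc]
  obtain ⟨φ, hφ, -⟩ := EtHom.exists_hom (X := 𝟙_ (Over S)) (Y := U)
    (F := fun _ r => Conj p q (r ≫ Φ)) (isLocalPt_comp (isLocalPt_conj p q) Φ) (by
      intro T x y y' h1 h2
      rw [hΦ] at h1 h2
      obtain ⟨n, hn⟩ := hN _ _ (h1.inv.mul h2)
      have h3 : (x ≫ w * y ≫ v)⁻¹ * (x ≫ w * y' ≫ v) = (y ≫ v)⁻¹ * (y' ≫ v) := by group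
      rw [h3] at hn
      have h4 : lift y n ≫ cellMap v p = lift y' 1 ≫ cellMap v p := by
        rw [comp_cellMap, comp_cellMap, hn, MonObj.one_comp]
        group
      have h5 := (cancel_mono (cellMap v p)).1 h4
      have h6 := congrArg (fun r => r ≫ fst _ _) h5
      simpa using h6) hcov (by
      intro s
      obtain ⟨y, x, hxy⟩ := hdec s
      refine ⟨snd _ _ ≫ y, ?_⟩
      have h1 : lift (fst (𝟙_ (Over S)) (Over.mk (f' s))) (snd _ _ ≫ y) ≫ Φ =
          snd _ _ ≫ ((b s ≫ h s) * (x ≫ p)⁻¹) := by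
        rw [hΦ]
        have h2 : (b s ≫ h s) * (x ≫ p)⁻¹ = (toUnit _ ≫ w) * (y ≫ v) := by
          have h3 : b s ≫ g s = (toUnit _ ≫ w)⁻¹ * (b s ≫ h s) := by
            simp only [g]
            rw [MonObj.comp_mul, GrpObj.comp_inv, comp_toUnit_assoc]
          rw [h3] at hxy
          have h4 : b s ≫ h s = (toUnit _ ≫ w) * ((y ≫ v) * (x ≫ p)) := by
            rw [hxy]
            group
          rw [h4]
          group
        rw [h2, MonObj.comp_mul, comp_toUnit_assoc, Category.assoc]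
        congr 2
      change Conj p q _
      rw [h1]
      refine Conj.comp (Conj.mul ((hh s).comp (b s)) ?_) _
      exact (conj_of_mem p (mem_comp p x)).inv)
  refine ⟨_, hφ⟩

end Groth.Agent.Sga3B.Parab.ConjGlue
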