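import Groth.Agent.Sga3B.CellDim
import Groth.Agent.Sga3B.BcIso
import Groth.Agent.Sga3B.Desc
import Groth.Agent.Books.AffBridge
import Groth.Prelude.Def_Red

/-!
# Fibres of smooth affine groups with connected geometric fibres over algebraically closed fields
-/

set_option autoImplicit false

universe u

open CategoryTheory MonoidalCategory CartesianMonoidalCategory MonObj GrpObj AlgebraicGeometry Limits
open scoped TensorProduct
open Groth.Agent.Books.AffBridge

namespace Groth.Agent.Sga3B.Parab.IrrFib

variable {S : Scheme.{u}}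

/-- A point with values in an algebraically closed field factors through a geometric point. -/
theorem exists_factor_geomPt {K : Type u} [Field K] [IsAlgClosed K]
    (x : Spec (CommRingCat.of K) ⟶ S) :
    ∃ (s : S) (φ : Spec (CommRingCat.of K) ⟶
      Spec (CommRingCat.of (AlgebraicClosure (S.residueField s)))), φ ≫ Red.geomPt s = x := by
  have h := (Scheme.SpecToEquivOfField K S).symm_apply_apply x
  generalize Scheme.SpecToEquivOfField K S x = y at h
  obtain ⟨s, f⟩ := y
  change Spec.map f ≫ S.fromSpecResidueField s = x at h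
  let _ : Algebra (S.residueField s) K := f.hom.toAlgebra
  let ψ : AlgebraicClosure (S.residueField s) →ₐ[S.residueField s] K := IsAlgClosed.lift
  refine ⟨s, Spec.map (CommRingCat.ofHom ψ.toRingHom), ?_⟩
  rw [← h, Red.geomPt, ← Category.assoc, ← Spec.map_comp]
  congr 2
  ext a
  exact ψ.commutes a

lemma isIntegral_of_iso {X Y : Scheme.{u}} (e : X ≅ Y) [IsIntegral Y] : IsIntegral X := by
  have : Nonempty X := ⟨e.inv (Classical.arbitrary Y)⟩
  exact isIntegral_of_isOpenImmersion e.hom

/-- integrality is preserved by extensions of algebraically closed fields (affine case) -/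
theorem isIntegral_bc {k K : Type u} [Field k] [IsAlgClosed k] [Field K]
    (φ : Spec (CommRingCat.of K) ⟶ Spec (CommRingCat.of k)) (X : Over (Spec (CommRingCat.of k)))
    [IsAffine X.left] [IsIntegral X.left] : IsIntegral (Red.bc φ X).left := by
  obtain ⟨ψ, rfl⟩ : ∃ ψ : k →+* K, Spec.map (CommRingCat.ofHom ψ) = φ :=
    ⟨(Spec.preimage φ).hom, Spec.map_preimage φ⟩
  let _ : Algebra k K := ψ.toAlgebra
  obtain ⟨B, _, _, ⟨e⟩⟩ := Desc.exists_iso_sp (R := CommRingCat.of k) X
  have hB : IsIntegral (Spec (CommRingCat.of B)) := by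
    exact @isIntegral_of_iso _ _ ((Over.forget _).mapIso e) ‹IsIntegral X.left›
  have hBd : IsDomain B := by
    rw [affine_isIntegral_iff] at hB
    exact hB
  have h1 : IsDomain (B ⊗[k] K) := by
    have := CellDim.isDomain_tensor (K := k) (L := K) (B := B)
    exact (Algebra.TensorProduct.comm k B K).toMulEquiv.isDomain _
  have h2 : IsIntegral (Spec (CommRingCat.of (B ⊗[k] K))) := by
    rw [affine_isIntegral_iff]
    exact h1
  let e1 : (Red.bc (Spec.map (CommRingCat.ofHom ψ)) (Desc.sp (CommRingCat.of k) B)).left ≅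
      Spec (CommRingCat.of (B ⊗[k] K)) := pullbackSpecIso k B K
  let e2 : Red.bc (Spec.map (CommRingCat.ofHom ψ)) (Desc.sp (CommRingCat.of k) B) ≅
      Red.bc (Spec.map (CommRingCat.ofHom ψ)) X := (Over.pullback _).mapIso e
  have h3 : IsIntegral (Red.bc (Spec.map (CommRingCat.ofHom ψ)) (Desc.sp (CommRingCat.of k) B)).left :=
    isIntegral_of_iso e1
  exact @isIntegral_of_iso _ _ ((Over.forget _).mapIso e2.symm) h3

theorem isIntegral_fibre (G : Over S) [GrpObj G] [IsAffineHom G.hom] [Smooth G.hom]
    (hG : ∀ s : S, ConnectedSpace (Red.geomFibre s G).left) {K : Type u} [Field K] [IsAlgClosed K]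
    (x : Spec (CommRingCat.of K) ⟶ S) : IsIntegral (Red.bc x G).left := by
  obtain ⟨s, φ, rfl⟩ := exists_factor_geomPt x
  have := hG s
  have h1 : Smooth (Red.geomFibre s G).hom := inferInstanceAs (Smooth (pullback.snd G.hom _))
  have h2 : IsAffineHom (Red.geomFibre s G).hom :=
    inferInstanceAs (IsAffineHom (pullback.snd G.hom _))
  have h3 : IsAffine (Red.geomFibre s G).left := isAffine_of_isAffineHom (Red.geomFibre s G).hom
  have h4 := CellDim.isIntegral_of_connected_grp (Red.geomFibre s G)
  have h5 := isIntegral_bc φ (Red.geomFibre s G)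
  let e := (Over.pullbackComp φ (Red.geomPt s)).app G
  exact @isIntegral_of_iso _ _ ((Over.forget _).mapIso e) h5

end Groth.Agent.Sga3B.Parab.IrrFib
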