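import Groth.Agent.Sga3C.CWMain
import Mathlib.RingTheory.Flat.FaithfullyFlat.Algebra
import Mathlib.AlgebraicGeometry.Morphisms.Flat

/-!
# A condition represented flat locally by closed subschemes is represented by a closed subscheme

`P` is a condition on morphisms `T ⟶ Y` which is stable under composition and local for the
Zariski and the fppf topology.  If every point of `Y` is in the image of a flat open morphism
`q : Y' ⟶ Y` over which `P` is represented by a closed subscheme, then `P` is represented by a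
closed subscheme of `Y`.
-/

set_option autoImplicit false

universe u

open CategoryTheory CategoryTheory.Limits AlgebraicGeometry TopologicalSpace
open scoped TensorProduct

namespace Groth.Agent.Sga3B.Parab.EtClosed

/-- `P` is stable under composition and local for the Zariski topology and for quasi-compact fppf
coverings. -/
structure IsFppfLocal {Y : Scheme.{u}} (P : ∀ ⦃T : Scheme.{u}⦄, (T ⟶ Y) → Prop) : Prop where
  comp : ∀ {T' T : Scheme.{u}} (h : T' ⟶ T) (g : T ⟶ Y), P g → P (h ≫ g)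
  zariski : ∀ {T : Scheme.{u}} (g : T ⟶ Y) (𝒰 : Scheme.OpenCover.{u} T),
    (∀ i, P (𝒰.f i ≫ g)) → P g
  flat : ∀ {T' T : Scheme.{u}} (h : T' ⟶ T) (g : T ⟶ Y), Flat h → Surjective h →
    QuasiCompact h → LocallyOfFinitePresentation h → P (h ≫ g) → P g

section Algebra

variable {B B' : Type u} [CommRing B] [CommRing B'] [Algebra B B'] [Module.FaithfullyFlat B B']

/-- Faithfully flat descent of ideals. -/
theorem map_comap_eq_of_descent (J : Ideal B')
    (h : J.map (Algebra.TensorProduct.includeLeft : B' →ₐ[B] B' ⊗[B] B').toRingHom ≤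
      J.map (Algebra.TensorProduct.includeRight : B' →ₐ[B] B' ⊗[B] B').toRingHom) :
    (J.comap (algebraMap B B')).map (algebraMap B B') = J := by
  apply le_antisymm Ideal.map_comap_le
  intro x hx
  let f : B →ₗ[B] B' ⧸ J := Algebra.linearMap B (B' ⧸ J)
  let K : Submodule B B := LinearMap.ker f
  have hK : K = J.comap (algebraMap B B') := by
    ext b
    change algebraMap B (B' ⧸ J) b = 0 ↔ algebraMap B B' b ∈ J
    rw [IsScalarTower.algebraMap_apply B B' (B' ⧸ J), Ideal.Quotient.algebraMap_eq,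
      Ideal.Quotient.eq_zero_iff_mem]
  have hex : Function.Exact (K.subtype.lTensor B') (f.lTensor B') := by
    apply Module.Flat.lTensor_exact
    exact LinearMap.exact_subtype_ker_map f
  -- `x ⊗ 1` dies in `B' ⊗ (B' / J)`
  have h0 : (f.lTensor B') (x ⊗ₜ[B] (1 : B)) = 0 := by
    rw [LinearMap.lTensor_tmul]
    have h1 : (Algebra.TensorProduct.includeLeft : B' →ₐ[B] B' ⊗[B] B') x ∈
        J.map (Algebra.TensorProduct.includeRight : B' →ₐ[B] B' ⊗[B] B').toRingHom :=
      h (Ideal.mem_map_of_mem _ hx)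
    let π : B' ⊗[B] B' →ₐ[B] B' ⊗[B] (B' ⧸ J) :=
      Algebra.TensorProduct.map (AlgHom.id B B') (Ideal.Quotient.mkₐ B J)
    have h2 : J.map (Algebra.TensorProduct.includeRight : B' →ₐ[B] B' ⊗[B] B').toRingHom ≤
        RingHom.ker π.toRingHom := by
      rw [Ideal.map_le_iff_le_comap]
      intro y hy
      rw [Ideal.mem_comap, RingHom.mem_ker]
      change π ((1 : B') ⊗ₜ[B] y) = 0
      rw [Algebra.TensorProduct.map_tmul]
      have : Ideal.Quotient.mkₐ B J y = 0 := Ideal.Quotient.eq_zero_iff_mem.2 hy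
      rw [this, TensorProduct.tmul_zero]
    have h3 : π (x ⊗ₜ[B] (1 : B')) = 0 := h2 h1
    rw [Algebra.TensorProduct.map_tmul] at h3
    have h4 : f (1 : B) = Ideal.Quotient.mkₐ B J 1 := by
      change algebraMap B (B' ⧸ J) 1 = Ideal.Quotient.mkₐ B J 1
      rw [map_one, map_one]
    rw [h4]
    exact h3
  obtain ⟨z, hz⟩ := (hex (x ⊗ₜ[B] (1 : B))).1 h0
  have h5 : ∀ z : B' ⊗[B] K, TensorProduct.rid B B' ((K.subtype.lTensor B') z) ∈
      (J.comap (algebraMap B B')).map (algebraMap B B') := by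
    intro z
    induction z with
    | zero => rw [map_zero, map_zero]; exact Ideal.zero_mem _
    | add a b ha hb => rw [map_add, map_add]; exact Ideal.add_mem _ ha hb
    | tmul b' k =>
      rw [LinearMap.lTensor_tmul, TensorProduct.rid_tmul, Algebra.smul_def]
      apply Ideal.mul_mem_right
      apply Ideal.mem_map_of_mem
      rw [← hK]
      exact k.2
  have h6 := h5 z
  rw [hz, TensorProduct.rid_tmul, one_smul] at h6
  exact h6

end Algebra

section Main

variable {Y : Scheme.{u}} {P : ∀ ⦃T : Scheme.{u}⦄, (T ⟶ Y) → Prop} (hP : IsFppfLocal P)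

include hP in
/-- The descended ideal represents the condition. -/
theorem repAt_comap (D : Y.Opens) (hD : IsAffineOpen D) {B' : CommRingCat.{u}}
    (φ : Γ(Y, D) ⟶ B') (hφ : φ.hom.FaithfullyFlat) (hfp : φ.hom.FinitePresentation) (J : Ideal B')
    (hJ : ∀ (C : CommRingCat.{u}) (χ : B' ⟶ C),
      P (Spec.map χ ≫ Spec.map φ ≫ hD.fromSpec) ↔ J.map χ.hom = ⊥) :
    Sga3C.CWGlue.RepAt P D hD (J.comap φ.hom) := by
  algebraize [φ.hom]
  have hff : Module.FaithfullyFlat Γ(Y, D) B' := hφ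
  have hfp' : Algebra.FinitePresentation Γ(Y, D) B' := hfp
  -- the two extensions of `J` agree
  let E : CommRingCat.{u} := CommRingCat.of (B' ⊗[Γ(Y, D)] B')
  let i₁ : B' ⟶ E := CommRingCat.ofHom
    (Algebra.TensorProduct.includeLeft : B' →ₐ[Γ(Y, D)] B' ⊗[Γ(Y, D)] B').toRingHom
  let i₂ : B' ⟶ E := CommRingCat.ofHom
    (Algebra.TensorProduct.includeRight : B' →ₐ[Γ(Y, D)] B' ⊗[Γ(Y, D)] B').toRingHom
  have hi : φ ≫ i₁ = φ ≫ i₂ := by
    ext b
    change (algebraMap Γ(Y, D) B' b) ⊗ₜ[Γ(Y, D)] (1 : B') =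
      (1 : B') ⊗ₜ[Γ(Y, D)] (algebraMap Γ(Y, D) B' b)
    rw [Algebra.algebraMap_eq_smul_one, TensorProduct.smul_tmul]
  have hle : J.map i₁.hom ≤ J.map i₂.hom := by
    let C : CommRingCat.{u} := CommRingCat.of (E ⧸ J.map i₂.hom)
    let m : E ⟶ C := CommRingCat.ofHom (Ideal.Quotient.mk (J.map i₂.hom))
    have h1 : J.map (i₂ ≫ m).hom = ⊥ := by
      rw [CommRingCat.hom_comp, ← Ideal.map_map]
      exact Ideal.map_quotient_self _
    rw [← hJ, Spec.map_comp, Category.assoc, ← Spec.map_comp_assoc φ i₂, ← hi,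
      Spec.map_comp_assoc φ i₁, ← Spec.map_comp_assoc i₁ m, hJ, CommRingCat.hom_comp,
      ← Ideal.map_map] at h1
    rw [Ideal.map_eq_bot_iff_le_ker] at h1
    refine h1.trans ?_
    intro x hx
    rw [RingHom.mem_ker] at hx
    exact Ideal.Quotient.eq_zero_iff_mem.1 hx
  have hK : (J.comap φ.hom).map φ.hom = J := map_comap_eq_of_descent J hle
  intro C ψ
  -- the pushout
  algebraize [ψ.hom]
  let C' : CommRingCat.{u} := CommRingCat.of (C ⊗[Γ(Y, D)] B')
  let χ : B' ⟶ C' := CommRingCat.ofHom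
    (Algebra.TensorProduct.includeRight : B' →ₐ[Γ(Y, D)] C ⊗[Γ(Y, D)] B').toRingHom
  let ι : C ⟶ C' := CommRingCat.ofHom (algebraMap C (C ⊗[Γ(Y, D)] B'))
  have hc : φ ≫ χ = ψ ≫ ι := by
    ext b
    change (1 : C) ⊗ₜ[Γ(Y, D)] (algebraMap Γ(Y, D) B' b) =
      (algebraMap Γ(Y, D) C b) ⊗ₜ[Γ(Y, D)] (1 : B')
    rw [Algebra.algebraMap_eq_smul_one, Algebra.algebraMap_eq_smul_one,
      TensorProduct.smul_tmul]
  have hffι : Module.FaithfullyFlat C (C ⊗[Γ(Y, D)] B') := inferInstance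
  have key : P (Spec.map ι ≫ Spec.map ψ ≫ hD.fromSpec) ↔
      ((J.comap φ.hom).map ψ.hom).map ι.hom = ⊥ := by
    rw [← Spec.map_comp_assoc, ← hc, Spec.map_comp_assoc, hJ, ← hK, Ideal.map_map, Ideal.map_map,
      ← CommRingCat.hom_comp, ← CommRingCat.hom_comp, hc, hK]
  constructor
  · intro h
    have h1 := key.1 (hP.comp _ _ h)
    rw [Ideal.map_eq_bot_iff_le_ker] at h1
    rw [eq_bot_iff]
    intro x hx
    have h2 : ι.hom x = 0 := h1 hx
    have h3 : Function.Injective (algebraMap C (C ⊗[Γ(Y, D)] B')) :=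
      FaithfulSMul.algebraMap_injective _ _
    exact h3 (by rw [map_zero]; exact h2)
  · intro h
    have h1 := (flat_and_surjective_SpecMap_iff ι).2 (RingHom.faithfullyFlat_algebraMap_iff.2 hffι)
    have h2 : LocallyOfFinitePresentation (Spec.map ι) := by
      rw [HasRingHomProperty.Spec_iff (P := @LocallyOfFinitePresentation)]
      change (algebraMap C (C ⊗[Γ(Y, D)] B')).FinitePresentation
      rw [RingHom.finitePresentation_algebraMap]
      infer_instance
    refine hP.flat (Spec.map ι) _ h1.1 h1.2 inferInstance h2 (key.2 ?_)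
    rw [h, Ideal.map_bot]

include hP in
/-- A condition represented flat locally by closed subschemes is represented by a closed
subscheme. -/
theorem exists_isClosedImmersion
    (h : ∀ y : Y, ∃ (Y' Z : Scheme.{u}) (q : Y' ⟶ Y) (i : Z ⟶ Y'), Flat q ∧
      LocallyOfFinitePresentation q ∧ y ∈ Set.range q ∧ IsClosedImmersion i ∧
      ∀ ⦃T : Scheme.{u}⦄ (g : T ⟶ Y'), (∃ g' : T ⟶ Z, g' ≫ i = g) ↔ P (g ≫ q)) :
    ∃ (Z : Scheme.{u}) (j : Z ⟶ Y), IsClosedImmersion j ∧
      ∀ ⦃T : Scheme.{u}⦄ (g : T ⟶ Y), (∃ g' : T ⟶ Z, g' ≫ j = g) ↔ P g := by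
  have hrep : ∀ y : Y, ∃ (V : Y.Opens) (hV : IsAffineOpen V) (K : Ideal Γ(Y, V)),
      y ∈ V ∧ Sga3C.CWGlue.RepAt P V hV K := by
    intro y
    obtain ⟨Y', Z, q, i, hq, hqfp, ⟨y', rfl⟩, hi, hrep⟩ := h y
    have hqo : IsOpenMap q := q.isOpenMap
    obtain ⟨_, ⟨V, hV, rfl⟩, hyV, -⟩ :=
      Y.isBasis_affineOpens.exists_subset_of_mem_open (Set.mem_univ (q y')) isOpen_univ
    obtain ⟨_, ⟨V', hV', rfl⟩, hyV', hV'V : V' ≤ q ⁻¹ᵁ V⟩ :=
      Y'.isBasis_affineOpens.exists_subset_of_mem_open (show y' ∈ (q ⁻¹ᵁ V : Set Y') from hyV)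
        (q ⁻¹ᵁ V).isOpen
    -- a basic open of `V` in the image of `V'`
    let W : Y.Opens := ⟨q '' (V' : Set Y'), hqo _ V'.isOpen⟩
    have hyW : q y' ∈ W := ⟨y', hyV', rfl⟩
    obtain ⟨a, haW, hya⟩ := hV.exists_basicOpen_le ⟨q y', hyW⟩ hyV
    let D : Y.Opens := Y.basicOpen a
    have hD : IsAffineOpen D := hV.basicOpen a
    let a' : Γ(Y', V') := q.appLE V V' hV'V a
    let D' : Y'.Opens := Y'.basicOpen a'
    have hD' : IsAffineOpen D' := hV'.basicOpen a'
    have hDD' : D' = V' ⊓ q ⁻¹ᵁ D := Scheme.basicOpen_appLE q V' V hV'V a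
    have hle : D' ≤ q ⁻¹ᵁ D := hDD' ▸ inf_le_right
    let φ : Γ(Y, D) ⟶ Γ(Y', D') := q.appLE D D' hle
    have hφq : hD'.fromSpec ≫ q = Spec.map φ ≫ hD.fromSpec :=
      (hD.SpecMap_appLE_fromSpec q hD' hle).symm
    have hsurj : ∀ d ∈ D, ∃ d' ∈ D', q d' = d := by
      intro d hd
      obtain ⟨d', hd', rfl⟩ := haW hd
      exact ⟨d', hDD' ▸ ⟨hd', hd⟩, rfl⟩
    have hφ : φ.hom.FaithfullyFlat := by
      rw [RingHom.FaithfullyFlat.iff_flat_and_comap_surjective]
      refine ⟨q.flat_appLE hD hD' hle, ?_⟩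
      intro p
      have hp : hD.fromSpec p ∈ D := by
        rw [← SetLike.mem_coe, ← hD.range_fromSpec]
        exact ⟨p, rfl⟩
      obtain ⟨d', hd', hd⟩ := hsurj _ hp
      rw [← SetLike.mem_coe, ← hD'.range_fromSpec] at hd'
      obtain ⟨p', rfl⟩ := hd'
      refine ⟨p', ?_⟩
      apply hD.fromSpec.isOpenEmbedding.injective
      rw [← hd, ← Scheme.Hom.comp_apply, hφq]
      rfl
    refine ⟨D, hD, (i.ker.ideal ⟨D', hD'⟩).comap φ.hom, hya,
      repAt_comap hP D hD φ hφ (q.finitePresentation_appLE hD hD' hle) _ ?_⟩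
    intro C χ
    rw [← hφq, ← Category.assoc, ← hrep, Sga3C.CWMain.factors_iff, Ideal.map_eq_bot_iff_le_ker]
    rfl
  refine ⟨_, (Sga3C.CWGlue.glued P hP.comp hrep).subschemeι, inferInstance, fun T g => ?_⟩
  exact Sga3C.CWGlue.exists_lift_iff P hP.comp hrep (fun g 𝒰 => hP.zariski g 𝒰) g

end Main

end Groth.Agent.Sga3B.Parab.EtClosed
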