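import Groth.Agent.Sga3B.Parab.EtClosed
import Groth.Agent.Sga3B.BcPts
import Groth.Agent.Sga3B.Pts
import Groth.Agent.Sga3C.ClosedSub
import Groth.Agent.Sga3C.QuotProps
import Mathlib.AlgebraicGeometry.Morphisms.LocalFlatDescent

/-!
# Flat (étale) local construction of closed subschemes, closed subgroups and homomorphisms over `S`

`F X g` is a condition on points `g : X ⟶ G` over `S`.
-/

set_option autoImplicit false

universe u

open CategoryTheory MonoidalCategory CartesianMonoidalCategory MonObj GrpObj AlgebraicGeometry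

namespace Groth.Agent.Sga3B.Parab.EtSub

open Groth.Agent.Sga3B Groth.Agent.Sga3C

variable {S : Scheme.{u}} {G : Over S}

/-- The condition `F` on points of `G` is stable under composition and local for the Zariski
topology and for quasi-compact fppf coverings. -/
structure IsLocalPt (F : ∀ X : Over S, (X ⟶ G) → Prop) : Prop where
  comp : ∀ {X' X : Over S} (h : X' ⟶ X) (g : X ⟶ G), F X g → F X' (h ≫ g)
  zariski : ∀ {X : Over S} (g : X ⟶ G) (𝒰 : Scheme.OpenCover.{u} X.left),
    (∀ i, F (Over.mk (𝒰.f i ≫ X.hom)) (Over.homMk (𝒰.f i) ≫ g)) → F X g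
  flat : ∀ {X' X : Over S} (h : X' ⟶ X) (g : X ⟶ G), Flat h.left → Surjective h.left →
    QuasiCompact h.left → LocallyOfFinitePresentation h.left → F X' (h ≫ g) → F X g

/-- The condition on scheme morphisms `T ⟶ G.left` attached to `F`. -/
def toP (F : ∀ X : Over S, (X ⟶ G) → Prop) ⦃T : Scheme.{u}⦄ (g : T ⟶ G.left) : Prop :=
  F (Over.mk (g ≫ G.hom)) (Over.homMk g)

lemma IsLocalPt.iff_toP {F : ∀ X : Over S, (X ⟶ G) → Prop} (hF : IsLocalPt F) {X : Over S}
    (g : X ⟶ G) : F X g ↔ toP F g.left := by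
  let e : Over.mk (g.left ≫ G.hom) ⟶ X := Over.homMk (𝟙 _) (by simp)
  let e' : X ⟶ Over.mk (g.left ≫ G.hom) := Over.homMk (𝟙 _) (by simp)
  constructor
  · intro h
    have h1 := hF.comp e g h
    have : e ≫ g = (Over.homMk g.left : Over.mk (g.left ≫ G.hom) ⟶ G) := by
      ext1
      simp [e]
    rw [this] at h1
    exact h1
  · intro h
    have h1 := hF.comp e' _ h
    have : e' ≫ (Over.homMk g.left : Over.mk (g.left ≫ G.hom) ⟶ G) = g := by
      ext1
      simp [e']
    rw [this] at h1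
    exact h1

lemma IsLocalPt.isFppfLocal {F : ∀ X : Over S, (X ⟶ G) → Prop} (hF : IsLocalPt F) :
    EtClosed.IsFppfLocal (toP F) where
  comp {T' T} h g hg := by
    let h' : Over.mk ((h ≫ g) ≫ G.hom) ⟶ Over.mk (g ≫ G.hom) := Over.homMk h (by simp)
    have h1 := hF.comp h' _ hg
    rw [hF.iff_toP] at h1
    simpa [h'] using h1
  zariski {T} g 𝒰 H := by
    refine hF.zariski (X := Over.mk (g ≫ G.hom)) (Over.homMk g) 𝒰 fun i => ?_
    rw [hF.iff_toP]
    simpa using H i
  flat {T' T} h g h1 h2 h3 h4 H := by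
    let h' : Over.mk ((h ≫ g) ≫ G.hom) ⟶ Over.mk (g ≫ G.hom) := Over.homMk h (by simp)
    refine hF.flat h' _ h1 h2 h3 h4 ?_
    rw [hF.iff_toP]
    simpa [h'] using H

/-- `F` is represented by a closed subscheme after the flat base change `f : S' ⟶ S`. -/
def RepBC (F : ∀ X : Over S, (X ⟶ G) → Prop) {S' : Scheme.{u}} (f : S' ⟶ S) : Prop :=
  ∃ (P' : Over S') (p' : P' ⟶ Red.bc f G), IsClosedImmersion p'.left ∧
    ∀ (X : Over S') (g : X ⟶ Red.bc f G), (∃ x : X ⟶ P', x ≫ p' = g) ↔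
      F ((Over.map f).obj X) ((BcPts.bcEquiv f X G).symm g)

/-- A local condition on points of `G` which is represented by closed subschemes flat locally on
`S` is represented by a closed subscheme. -/
theorem exists_closed {F : ∀ X : Over S, (X ⟶ G) → Prop} (hF : IsLocalPt F)
    (h : ∀ s : S, ∃ (S' : Scheme.{u}) (f : S' ⟶ S), Flat f ∧ LocallyOfFinitePresentation f ∧
      s ∈ Set.range f ∧ RepBC F f) :
    ∃ (P : Over S) (p : P ⟶ G), IsClosedImmersion p.left ∧
      ∀ (X : Over S) (g : X ⟶ G), (∃ x : X ⟶ P, x ≫ p = g) ↔ F X g := by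
  obtain ⟨Z, j, hj, hZ⟩ := EtClosed.exists_isClosedImmersion hF.isFppfLocal (by
    intro y
    obtain ⟨S', f, hf, hfp, ⟨s', hs'⟩, P', p', hp', hrep⟩ := h (G.hom y)
    refine ⟨(Red.bc f G).left, P'.left, Limits.pullback.fst G.hom f, p'.left, inferInstance,
      inferInstance, ?_, hp', ?_⟩
    · obtain ⟨z, hz, -⟩ := Scheme.Pullback.exists_preimage_pullback y s' hs'.symm
      exact ⟨z, hz⟩
    · intro T g
      let X : Over S' := Over.mk (g ≫ (Red.bc f G).hom)
      let g' : X ⟶ Red.bc f G := Over.homMk g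
      have h1 := hrep X g'
      rw [hF.iff_toP] at h1
      have h2 : ((BcPts.bcEquiv f X G).symm g').left = g ≫ Limits.pullback.fst G.hom f := by
        simp [BcPts.bcEquiv, Adjunction.homEquiv_counit, g', X]
      rw [h2] at h1
      rw [← h1]
      constructor
      · rintro ⟨x, hx⟩
        refine ⟨Over.homMk x ?_, ?_⟩
        · change x ≫ P'.hom = g ≫ (Red.bc f G).hom
          rw [← hx, Category.assoc, Over.w]
        · ext1
          exact hx
      · rintro ⟨x, hx⟩
        exact ⟨x.left, congrArg (fun z => z.left) hx⟩)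
  refine ⟨Over.mk (j ≫ G.hom), Over.homMk j, hj, fun X g => ?_⟩
  rw [hF.iff_toP, ← hZ]
  constructor
  · rintro ⟨x, hx⟩
    exact ⟨x.left, congrArg (fun z => z.left) hx⟩
  · rintro ⟨x, hx⟩
    refine ⟨Over.homMk x ?_, ?_⟩
    · change x ≫ j ≫ G.hom = X.hom
      rw [← Category.assoc, hx, Over.w]
    · ext1
      exact hx

/-- Group version of `exists_closed`: if the condition defines a subgroup of `G(X)` for all `X`,
the closed subscheme is a closed subgroup scheme. -/
theorem exists_closed_subgroup [GrpObj G] {F : ∀ X : Over S, (X ⟶ G) → Prop} (hF : IsLocalPt F)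
    (hone : ∀ X : Over S, F X 1) (hmul : ∀ (X : Over S) (x y : X ⟶ G), F X x → F X y → F X (x * y))
    (hinv : ∀ (X : Over S) (x : X ⟶ G), F X x → F X x⁻¹)
    (h : ∀ s : S, ∃ (S' : Scheme.{u}) (f : S' ⟶ S), Flat f ∧ LocallyOfFinitePresentation f ∧
      s ∈ Set.range f ∧ RepBC F f) :
    ∃ (P : Over S) (_ : GrpObj P) (p : P ⟶ G), IsMonHom p ∧ IsClosedImmersion p.left ∧
      ∀ (X : Over S) (g : X ⟶ G), (∃ x : X ⟶ P, x ≫ p = g) ↔ F X g := by
  obtain ⟨P, p, hp, hP⟩ := exists_closed hF h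
  have : Mono p := ClosedSub.mono_of_left p
  obtain ⟨hG, hm⟩ := ClosedSub.exists_grpObj_of_mono p
    ((hP _ _).2 (by
      have := hone (𝟙_ (Over S))
      rw [← one_eq_one] at this
      exact this))
    ((hP _ _).2 (by
      have h1 : (p ⊗ₘ p) ≫ μ[G] = (fst P P ≫ p) * (snd P P ≫ p) := by
        rw [Hom.mul_def]
        congr 1
      rw [h1]
      exact hmul _ _ _ ((hP _ _).1 ⟨_, rfl⟩) ((hP _ _).1 ⟨_, rfl⟩)))
    ((hP _ _).2 (by
      have h1 : p ≫ ι[G] = p⁻¹ := rfl
      rw [h1]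
      exact hinv _ _ ((hP _ _).1 ⟨𝟙 _, by simp⟩)))
  exact ⟨P, hG, p, hm, hp, hP⟩

end Groth.Agent.Sga3B.Parab.EtSub
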