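import Mathlib.RingTheory.Flat.Equalizer
import Mathlib.RingTheory.LocalRing.Module
import Mathlib.RingTheory.Spectrum.Prime.Topology
import Mathlib.RingTheory.Flat.FaithfullyFlat.Basic

/-!
# A fibrewise criterion for the vanishing of an ideal
-/

set_option autoImplicit false

universe u

open TensorProduct

namespace Groth.Agent.Sga3B.Parab.FibIso

variable {R A : Type u} [CommRing R] [CommRing A] [Algebra R A]

/-- `κ(q) ⊗_A I = 0` as soon as `K ⊗_R I = 0` for some field extension `K` of `κ(q ∩ R)`. -/
lemma subsingleton_of_field (I : Type u) [AddCommGroup I] [Module A I] [Module R I]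
    [IsScalarTower R A I] (q : Ideal A) [q.IsPrime] (K : Type u) [Field K] [Algebra R K]
    (hK : RingHom.ker (algebraMap R K) = q.comap (algebraMap R A))
    (h : Subsingleton (K ⊗[R] I)) : Subsingleton (q.ResidueField ⊗[A] I) := by
  let p := q.comap (algebraMap R A)
  have h1 : RingHom.ker (algebraMap R K) = p := hK
  -- `K` is an extension of `κ(p)`
  let φ : p.ResidueField →+* K :=
    Ideal.ResidueField.lift p (algebraMap R K) (by rw [h1]) (by
      intro x hx
      rw [Submonoid.mem_comap, IsUnit.mem_submonoid_iff, isUnit_iff_ne_zero]
      intro hx0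
      exact hx (h1 ▸ (RingHom.mem_ker.mpr hx0)))
  letI : Algebra p.ResidueField K := φ.toAlgebra
  have : IsScalarTower R p.ResidueField K := .of_algebraMap_eq fun x => by
    simp [RingHom.algebraMap_toAlgebra, φ]
  have h2 : Subsingleton (p.ResidueField ⊗[R] I) := by
    have e := AlgebraTensorModule.cancelBaseChange R p.ResidueField p.ResidueField K I
    have h3 : Subsingleton (K ⊗[p.ResidueField] (p.ResidueField ⊗[R] I)) :=
      e.toEquiv.subsingleton
    exact (Module.FaithfullyFlat.subsingleton_tensorProduct_iff_right p.ResidueField K).mp h3
  letI : Algebra p.ResidueField q.ResidueField :=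
    (Ideal.ResidueField.map p q (algebraMap R A) rfl).toAlgebra
  have : IsScalarTower R p.ResidueField q.ResidueField := .of_algebraMap_eq fun x => by
    rw [RingHom.algebraMap_toAlgebra, Ideal.ResidueField.map_algebraMap]
    exact IsScalarTower.algebraMap_apply R A q.ResidueField x
  have h4 : Subsingleton (q.ResidueField ⊗[R] I) := by
    have e := AlgebraTensorModule.cancelBaseChange R p.ResidueField p.ResidueField q.ResidueField I
    exact e.toEquiv.symm.subsingleton
  exact (TensorProduct.mapOfCompatibleSMul_surjective A R R q.ResidueField I).subsingleton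

/-- If `I` is a finitely generated ideal of `A`, `A ⧸ I` is `R`-flat and `A → A ⧸ I` induces
injections on all (geometric) fibres, then `I = 0`. -/
theorem eq_bot_of_fibres (I : Ideal A) (hI : I.FG) [Module.Flat R (A ⧸ I)]
    (h : ∀ (p : Ideal R) [p.IsPrime], ∃ (K : Type u) (_ : Field K) (_ : Algebra R K),
      RingHom.ker (algebraMap R K) = p ∧
      Function.Injective ((I.restrictScalars R).mkQ.lTensor K)) : I = ⊥ := by
  have hfin : Module.Finite A I := Module.Finite.iff_fg.mpr hI
  have key : Module.support A I = ∅ := by
    rw [Set.eq_empty_iff_forall_notMem]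
    intro q hq
    rw [Module.mem_support_iff_nontrivial_residueField_tensorProduct] at hq
    obtain ⟨K, _, _, hK, hinj⟩ := h (q.asIdeal.comap (algebraMap R A))
    have hsub : Subsingleton (K ⊗[R] I) := by
      have h1 : Function.Injective ((I.restrictScalars R).subtype.lTensor K) := by
        have : Module.Flat R (A ⧸ I.restrictScalars R) := inferInstanceAs (Module.Flat R (A ⧸ I))
        exact LinearMap.lTensor_injective_of_exact_of_flat (I.restrictScalars R).mkQ
          (Submodule.mkQ_surjective _) (I.restrictScalars R).subtype
          (Submodule.subtype_injective _) (LinearMap.exact_subtype_mkQ _) K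
      constructor
      intro x y
      apply h1
      apply hinj
      have h2 : ((I.restrictScalars R).mkQ.lTensor K) ∘ₗ ((I.restrictScalars R).subtype.lTensor K) = 0 := by
        rw [← LinearMap.lTensor_comp]
        have : (I.restrictScalars R).mkQ ∘ₗ (I.restrictScalars R).subtype = 0 :=
          (LinearMap.exact_subtype_mkQ _).linearMap_comp_eq_zero
        rw [this, LinearMap.lTensor_zero]
      exact (DFunLike.congr_fun h2 x).trans (DFunLike.congr_fun h2 y).symm
    have := subsingleton_of_field (R := R) I q.asIdeal K hK hsub
    exact not_subsingleton _ this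
  rw [Module.support_eq_empty_iff] at key
  exact (Submodule.subsingleton_iff_eq_bot).mp key

end Groth.Agent.Sga3B.Parab.FibIso
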