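import Groth.Prelude.Def_Red
import Groth.Agent.Sga3B.Parab.FibIso
import Groth.Agent.Divis.IdealComap
import Mathlib.AlgebraicGeometry.Morphisms.FinitePresentation
import Mathlib.AlgebraicGeometry.Morphisms.ClosedImmersion

/-!
# Closed immersions which are isomorphisms on geometric fibres
-/

set_option autoImplicit false

universe u

open CategoryTheory Limits AlgebraicGeometry TensorProduct

namespace Groth.Agent.Sga3B.Parab.FibIsoSch

variable {S : Scheme.{u}}

/-- The base change of a morphism over `S` forms a cartesian square with the projections. -/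
lemma isPullback_map_left {S' : Scheme.{u}} (x : S' ⟶ S) {Z Y : Over S} (i : Z ⟶ Y) :
    IsPullback (pullback.fst Z.hom x) ((Over.pullback x).map i).left i.left
      (pullback.fst Y.hom x) := by
  have hw : i.left ≫ Y.hom = Z.hom := Over.w i
  have h2 : IsPullback (pullback.fst Z.hom x) (pullback.snd Z.hom x) (i.left ≫ Y.hom) x := by
    rw [hw]
    exact IsPullback.of_hasPullback Z.hom x
  have h1 : pullback.fst Z.hom x ≫ i.left =
      ((Over.pullback x).map i).left ≫ pullback.fst Y.hom x :=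
    (pullback.lift_fst _ _ _).symm
  have h3 : ((Over.pullback x).map i).left ≫ pullback.snd Y.hom x = pullback.snd Z.hom x :=
    pullback.lift_snd _ _ _
  refine IsPullback.of_bot (h₂₁ := pullback.fst Y.hom x) (v₂₁ := pullback.snd Y.hom x)
    (v₂₂ := Y.hom) (h₃₁ := x) ?_ h1 (IsPullback.of_hasPullback Y.hom x)
  rw [h3]
  exact h2

section Algebra

variable {R A B K : Type u} [CommRing R] [CommRing A] [CommRing B] [CommRing K] [Algebra R A]
  [Algebra R B] [Algebra A B] [IsScalarTower R A B] [Algebra R K]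

lemma isPullback_tensor (R A K : Type u) [CommRing R] [CommRing A] [CommRing K] [Algebra R A]
    [Algebra R K] : IsPullback
    (Spec.map (CommRingCat.ofHom (Algebra.TensorProduct.includeRight (R := R) (A := K) (B := A)).toRingHom))
    (Spec.map (CommRingCat.ofHom (Algebra.TensorProduct.includeLeft (R := R) (S := R) (A := K) (B := A)).toRingHom))
    (Spec.map (CommRingCat.ofHom (algebraMap R A)))
    (Spec.map (CommRingCat.ofHom (algebraMap R K))) := by
  apply isPullback_SpecMap_of_isPushout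
  exact (CommRingCat.isPushout_tensorProduct R K A).flip

/-- From an isomorphism of fibres to a bijection of rings. -/
lemma bijective_of_isIso {Z Y : Over S} (i : Z ⟶ Y) (jS : Spec (CommRingCat.of R) ⟶ S)
    (jY : Spec (CommRingCat.of A) ⟶ Y.left) (jZ : Spec (CommRingCat.of B) ⟶ Z.left)
    (hS : jY ≫ Y.hom = Spec.map (CommRingCat.ofHom (algebraMap R A)) ≫ jS)
    (hZ : IsPullback jZ (Spec.map (CommRingCat.ofHom (algebraMap A B))) i.left jY)
    (hi : IsIso ((Over.pullback (Spec.map (CommRingCat.ofHom (algebraMap R K)) ≫ jS)).map i)) :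
    Function.Bijective (Algebra.TensorProduct.map (AlgHom.id R K) (IsScalarTower.toAlgHom R A B)) := by
  let x : Spec (CommRingCat.of K) ⟶ S := Spec.map (CommRingCat.ofHom (algebraMap R K)) ≫ jS
  let m : Spec (CommRingCat.of (K ⊗[R] B)) ⟶ Spec (CommRingCat.of (K ⊗[R] A)) :=
    Spec.map (CommRingCat.ofHom
      (Algebra.TensorProduct.map (AlgHom.id R K) (IsScalarTower.toAlgHom R A B)).toRingHom)
  have sA := isPullback_tensor R A K
  have sB := isPullback_tensor R B K
  have hm1 : m ≫ Spec.map (CommRingCat.ofHom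
      (Algebra.TensorProduct.includeLeft (R := R) (S := R) (A := K) (B := A)).toRingHom) =
      Spec.map (CommRingCat.ofHom
      (Algebra.TensorProduct.includeLeft (R := R) (S := R) (A := K) (B := B)).toRingHom) := by
    rw [← Spec.map_comp, ← CommRingCat.ofHom_comp]
    congr 2
    ext a
    simp
  have hm2 : Spec.map (CommRingCat.ofHom
      (Algebra.TensorProduct.includeRight (R := R) (A := K) (B := B)).toRingHom) ≫
        Spec.map (CommRingCat.ofHom (algebraMap A B)) =
      m ≫ Spec.map (CommRingCat.ofHom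
      (Algebra.TensorProduct.includeRight (R := R) (A := K) (B := A)).toRingHom) := by
    rw [← Spec.map_comp, ← CommRingCat.ofHom_comp, ← Spec.map_comp, ← CommRingCat.ofHom_comp]
    congr 2
  have s1 : IsPullback (Spec.map (CommRingCat.ofHom
      (Algebra.TensorProduct.includeRight (R := R) (A := K) (B := B)).toRingHom)) m
      (Spec.map (CommRingCat.ofHom (algebraMap A B)))
      (Spec.map (CommRingCat.ofHom
      (Algebra.TensorProduct.includeRight (R := R) (A := K) (B := A)).toRingHom)) := by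
    refine IsPullback.of_bot ?_ hm2 sA
    rw [hm1, ← Spec.map_comp, ← CommRingCat.ofHom_comp, ← IsScalarTower.algebraMap_eq]
    exact sB
  have s2 := s1.paste_horiz hZ
  let w : Spec (CommRingCat.of (K ⊗[R] A)) ⟶ pullback Y.hom x :=
    pullback.lift (Spec.map (CommRingCat.ofHom
      (Algebra.TensorProduct.includeRight (R := R) (A := K) (B := A)).toRingHom) ≫ jY)
      (Spec.map (CommRingCat.ofHom
      (Algebra.TensorProduct.includeLeft (R := R) (S := R) (A := K) (B := A)).toRingHom))
      (by rw [Category.assoc, hS, reassoc_of% sA.w])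
  have hw : w ≫ pullback.fst Y.hom x = Spec.map (CommRingCat.ofHom
      (Algebra.TensorProduct.includeRight (R := R) (A := K) (B := A)).toRingHom) ≫ jY :=
    pullback.lift_fst _ _ _
  rw [← hw] at s2
  have s3 := isPullback_map_left x i
  have s4 := IsPullback.of_right' s2 s3
  have hi' : IsIso ((Over.pullback x).map i) := hi
  have : IsIso ((Over.pullback x).map i).left :=
    (inferInstance : IsIso ((Over.forget _).map ((Over.pullback x).map i)))
  have h5 : IsIso m := (MorphismProperty.isomorphisms Scheme.{u}).of_isPullback s4 this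
  have h6 : IsIso (CommRingCat.ofHom
      (Algebra.TensorProduct.map (AlgHom.id R K) (IsScalarTower.toAlgHom R A B)).toRingHom) := by
    have h8 : IsIso (Scheme.Spec.map (CommRingCat.ofHom
      (Algebra.TensorProduct.map (AlgHom.id R K) (IsScalarTower.toAlgHom R A B)).toRingHom).op) := h5
    have h7 := isIso_of_reflects_iso (CommRingCat.ofHom
      (Algebra.TensorProduct.map (AlgHom.id R K) (IsScalarTower.toAlgHom R A B)).toRingHom).op Scheme.Spec
    exact isIso_of_op _
  exact (ConcreteCategory.isIso_iff_bijective _).mp h6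

end Algebra

/-- A closed immersion `i : Z ⟶ Y` over `S` with `Z` flat and locally of finite presentation and `Y`
locally of finite type is an isomorphism if it is one on fibres (over any field extension). -/
theorem isIso_of_fibres {Z Y : Over S} (i : Z ⟶ Y) [IsClosedImmersion i.left] [Flat Z.hom]
    [LocallyOfFinitePresentation Z.hom] [LocallyOfFiniteType Y.hom]
    (h : ∀ s : S, ∃ (K : Type u) (_ : Field K) (x : Spec (CommRingCat.of K) ⟶ S),
      x (IsLocalRing.closedPoint K) = s ∧ IsIso ((Over.pullback x).map i)) : IsIso i := by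
  suffices h1 : IsIso i.left by
    have : IsIso ((Over.forget S).map i) := h1
    exact isIso_of_reflects_iso i (Over.forget S)
  rw [IsClosedImmersion.isIso_iff_ker_eq_bot]
  refine Divis.IdealComap.ext_of_forall_mem fun y => ?_
  obtain ⟨U, V, -, hyV, -, -, e⟩ := Divis.IdealComap.exists_affine_le Y.hom y ⊤ trivial ⊤ trivial
  refine ⟨V, hyV, ?_⟩
  rw [Scheme.Hom.ker_apply, Scheme.IdealSheafData.ideal_bot]
  have hV : IsAffineOpen V.1 := V.2
  have hW : IsAffineOpen (i.left ⁻¹ᵁ V.1) := hV.preimage i.left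
  have e' : i.left ⁻¹ᵁ V.1 ≤ Z.hom ⁻¹ᵁ U.1 := by
    intro z hz
    have := e hz
    change Z.hom z ∈ U.1
    rw [← Over.w i]
    exact this
  let algA : Algebra Γ(S, U.1) Γ(Y.left, V.1) := (Y.hom.appLE U.1 V.1 e).hom.toAlgebra
  let algB : Algebra Γ(S, U.1) Γ(Z.left, i.left ⁻¹ᵁ V.1) := (Z.hom.appLE U.1 _ e').hom.toAlgebra
  let algAB : Algebra Γ(Y.left, V.1) Γ(Z.left, i.left ⁻¹ᵁ V.1) := (i.left.app V.1).hom.toAlgebra
  have hcomp : Y.hom.appLE U.1 V.1 e ≫ i.left.app V.1 = Z.hom.appLE U.1 _ e' := by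
    rw [Scheme.Hom.app_eq_appLE, Scheme.Hom.appLE_comp_appLE]
    congr 1
    exact Over.w i
  have tower : IsScalarTower Γ(S, U.1) Γ(Y.left, V.1) Γ(Z.left, i.left ⁻¹ᵁ V.1) :=
    .of_algebraMap_eq fun r => (congr($(hcomp).hom r)).symm
  have hsurj : Function.Surjective (algebraMap Γ(Y.left, V.1) Γ(Z.left, i.left ⁻¹ᵁ V.1)) :=
    Scheme.Hom.app_surjective i.left V.1 V.2
  have hflat : Module.Flat Γ(S, U.1) Γ(Z.left, i.left ⁻¹ᵁ V.1) :=
    Z.hom.flat_appLE U.2 hW e'
  have hfp : Algebra.FinitePresentation Γ(S, U.1) Γ(Z.left, i.left ⁻¹ᵁ V.1) :=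
    Z.hom.finitePresentation_appLE U.2 hW e'
  have hft : Algebra.FiniteType Γ(S, U.1) Γ(Y.left, V.1) :=
    Y.hom.finiteType_appLE U.2 V.2 e
  let I : Ideal Γ(Y.left, V.1) := RingHom.ker (i.left.app V.1).hom
  have hI : I.FG := by
    have h1 : Algebra.FinitePresentation Γ(Y.left, V.1) Γ(Z.left, i.left ⁻¹ᵁ V.1) :=
      .of_restrict_scalars_finitePresentation Γ(S, U.1) _ _
    exact Algebra.FinitePresentation.ker_fG_of_surjective
      (Algebra.ofId Γ(Y.left, V.1) Γ(Z.left, i.left ⁻¹ᵁ V.1)) hsurj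
  let eI : (Γ(Y.left, V.1) ⧸ I) ≃ₐ[Γ(S, U.1)] Γ(Z.left, i.left ⁻¹ᵁ V.1) :=
    Ideal.quotientKerAlgEquivOfSurjective
      (f := IsScalarTower.toAlgHom Γ(S, U.1) Γ(Y.left, V.1) Γ(Z.left, i.left ⁻¹ᵁ V.1)) hsurj
  have : Module.Flat Γ(S, U.1) (Γ(Y.left, V.1) ⧸ I) := Module.Flat.of_linearEquiv eI.toLinearEquiv
  refine FibIso.eq_bot_of_fibres (R := Γ(S, U.1)) I hI fun p _ => ?_
  obtain ⟨K, _, x, hx, hiso⟩ := h (U.2.fromSpec ⟨p, inferInstance⟩)
  have hrange : Set.range x ⊆ Set.range U.2.fromSpec := by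
    rintro _ ⟨k, rfl⟩
    have : k = IsLocalRing.closedPoint K := Subsingleton.elim _ _
    rw [this, hx]
    exact ⟨_, rfl⟩
  let φ : Γ(S, U.1) ⟶ CommRingCat.of K := Spec.preimage (IsOpenImmersion.lift U.2.fromSpec x hrange)
  have hφ : Spec.map φ ≫ U.2.fromSpec = x := by
    rw [Spec.map_preimage, IsOpenImmersion.lift_fac]
  let algK : Algebra Γ(S, U.1) K := φ.hom.toAlgebra
  refine ⟨K, inferInstance, algK, ?_, ?_⟩
  · have h3 : U.2.fromSpec (Spec.map φ (IsLocalRing.closedPoint K)) =
        U.2.fromSpec ⟨p, inferInstance⟩ := by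
      rw [← hx, ← hφ]
      simp
    have h4 := U.2.fromSpec.isOpenEmbedding.injective h3
    have h5 := congrArg PrimeSpectrum.asIdeal h4
    change (IsLocalRing.closedPoint K).asIdeal.comap φ.hom = p at h5
    have h6 : (IsLocalRing.closedPoint K).asIdeal = ⊥ := IsLocalRing.maximalIdeal_eq_bot
    rw [h6] at h5
    rw [← h5]
    rfl
  · have h6 := bijective_of_isIso (K := K) (R := Γ(S, U.1)) (A := Γ(Y.left, V.1))
      (B := Γ(Z.left, i.left ⁻¹ᵁ V.1)) i U.2.fromSpec V.2.fromSpec hW.fromSpec
      (by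
        rw [← IsAffineOpen.SpecMap_appLE_fromSpec Y.hom U.2 V.2 e]
        rfl)
      (by
        refine (IsOpenImmersion.isPullback _ _ _ _ ?_ ?_).flip
        · exact (IsAffineOpen.SpecMap_appLE_fromSpec i.left V.2 hW le_rfl).symm.trans
            (by rw [← Scheme.Hom.app_eq_appLE]; rfl)
        · rw [IsAffineOpen.opensRange_fromSpec, IsAffineOpen.opensRange_fromSpec])
      (by
        have : Spec.map (CommRingCat.ofHom (algebraMap Γ(S, U.1) K)) ≫ U.2.fromSpec = x := hφ
        rw [this]
        exact hiso)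
    have h7 : (eI.toLinearMap.lTensor K) ∘ₗ ((I.restrictScalars Γ(S, U.1)).mkQ.lTensor K) =
        (Algebra.TensorProduct.map (AlgHom.id Γ(S, U.1) K)
          (IsScalarTower.toAlgHom Γ(S, U.1) Γ(Y.left, V.1) Γ(Z.left, i.left ⁻¹ᵁ V.1))).toLinearMap := by
      apply TensorProduct.ext'
      intro k a
      rfl
    have h8 : Function.Injective
        ((eI.toLinearMap.lTensor K) ∘ₗ ((I.restrictScalars Γ(S, U.1)).mkQ.lTensor K)) := by
      rw [h7]
      exact h6.1
    rw [LinearMap.coe_comp] at h8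
    exact Function.Injective.of_comp h8

end Groth.Agent.Sga3B.Parab.FibIsoSch
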