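import Groth.Agent.Sga3B.Parab.ConjPt
import Groth.Agent.Sga3B.Parab.DynBc998
import Groth.Agent.Sga3B.Parab.GeomFib147

/-!
# Gluing closed subgroups given flat (étale) locally on the base

`G` is a group over `S`, `f i : S' i ⟶ S` a covering and `q i : Q i ⟶ G ×_S S' i` closed subgroups
which agree on the overlaps.  Then they come from a closed subgroup of `G`.
-/

set_option autoImplicit false
set_option linter.unusedSectionVars false

universe u

open CategoryTheory MonoidalCategory CartesianMonoidalCategory MonObj GrpObj AlgebraicGeometry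

namespace Groth.Agent.Sga3B.Parab.GlueSub172

open Groth.Agent.Sga3B Groth.Agent.Sga3C Groth.Agent.Sga3B.Parab.ConjPt
open Groth.Agent.Sga3B.Parab.GeomFib147

variable {S : Scheme.{u}}

section Qt

variable {S' : Scheme.{u}} (f : S' ⟶ S) {G : Over S} {Q : Over S'} (q : Q ⟶ Red.bc f G)

/-- A morphism over `S'` to the base change, as a morphism over `S` to the product. -/
noncomputable def qt : (Over.map f).obj Q ⟶ G ⊗ Over.mk f := Over.homMk q.left (by
  rw [Over.tensorObj_hom]
  change q.left ≫ Limits.pullback.fst G.hom f ≫ G.hom = Q.hom ≫ f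
  rw [Limits.pullback.condition, ← Over.w q]
  exact (Category.assoc _ _ _).symm)

@[simp] lemma qt_left : (qt f q).left = q.left := rfl

/-- The structure morphism. -/
noncomputable def str (X : Over S') : (Over.map f).obj X ⟶ Over.mk f := Over.homMk X.hom rfl

instance [Mono q] : Mono (qt f q) := by
  have : Mono ((Over.forget S).map (qt f q)) := inferInstanceAs (Mono q.left)
  exact (Over.forget S).mono_of_mono_map this

variable {f q}

lemma bcEquiv_fst {X : Over S'} (g : (Over.map f).obj X ⟶ G) :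
    (BcPts.bcEquiv f X G g).left ≫ Limits.pullback.fst G.hom f = g.left := by
  rw [BcPts.bcEquiv, Adjunction.homEquiv_unit]
  simp only [Over.comp_left, Category.assoc, Over.pullback_map_left, Over.mapPullbackAdj_unit_app]
  erw [Limits.pullback.lift_fst, Limits.pullback.lift_fst_assoc]
  simp

lemma lift_left_fst {Z : Over S} (g : Z ⟶ G) (w : Z ⟶ Over.mk f) :
    (lift g w : Z ⟶ G ⊗ Over.mk f).left ≫ Limits.pullback.fst G.hom f = g.left :=
  congrArg (fun z => z.left) (lift_fst g w)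

lemma lift_left_snd {Z : Over S} (g : Z ⟶ G) (w : Z ⟶ Over.mk f) :
    (lift g w : Z ⟶ G ⊗ Over.mk f).left ≫ Limits.pullback.snd G.hom f = w.left :=
  congrArg (fun z => z.left) (lift_snd g w)

/-- Membership in terms of morphisms of schemes. -/
lemma mem_qt_iff {Z : Over S} (g : Z ⟶ G) (w : Z ⟶ Over.mk f) :
    Mem (qt f q) (lift g w) ↔ ∃ x : Z.left ⟶ Q.left, x ≫ Q.hom = w.left ∧
      x ≫ q.left ≫ Limits.pullback.fst G.hom f = g.left := by
  have hQ : q.left ≫ Limits.pullback.snd G.hom f = Q.hom := Over.w q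
  constructor
  · rintro ⟨x, hx⟩
    have h := congrArg (fun z => z.left) hx
    change x.left ≫ q.left = _ at h
    refine ⟨x.left, ?_, ?_⟩
    · rw [← hQ, ← Category.assoc, h]
      exact lift_left_snd g w
    · rw [← Category.assoc, h]
      exact lift_left_fst g w
  · rintro ⟨x, hx1, hx2⟩
    refine ⟨Over.homMk x ?_, ?_⟩
    · change x ≫ Q.hom ≫ f = Z.hom
      rw [← Category.assoc, hx1]
      exact Over.w w
    · refine Over.OverMorphism.ext ?_
      change x ≫ q.left = _
      apply Limits.pullback.hom_ext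
      · rw [Category.assoc]
        exact hx2.trans (lift_left_fst g w).symm
      · rw [Category.assoc]
        refine Eq.trans ?_ (lift_left_snd g w).symm
        rw [← hx1]
        exact congrArg (fun z => x ≫ z) hQ

lemma mem_iff {X : Over S'} (g : (Over.map f).obj X ⟶ G) :
    Mem q (BcPts.bcEquiv f X G g) ↔ ∃ x : X.left ⟶ Q.left, x ≫ Q.hom = X.hom ∧
      x ≫ q.left ≫ Limits.pullback.fst G.hom f = g.left := by
  have hQ : q.left ≫ Limits.pullback.snd G.hom f = Q.hom := Over.w q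
  constructor
  · rintro ⟨x, hx⟩
    refine ⟨x.left, Over.w x, ?_⟩
    rw [← bcEquiv_fst, ← hx, Over.comp_left, Category.assoc]
  · rintro ⟨x, hx1, hx2⟩
    refine ⟨Over.homMk x hx1, ?_⟩
    ext1
    apply Limits.pullback.hom_ext
    · rw [bcEquiv_fst]
      change (x ≫ q.left) ≫ _ = _
      rw [Category.assoc]
      exact hx2
    · have h1 : (BcPts.bcEquiv f X G g).left ≫ Limits.pullback.snd G.hom f = X.hom := Over.w _
      rw [h1]
      change (x ≫ q.left) ≫ _ = _
      rw [Category.assoc, hQ]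
      exact hx1

lemma mem_qt_str_iff {X : Over S'} (g : (Over.map f).obj X ⟶ G) :
    Mem (qt f q) (lift g (str f X)) ↔ Mem q (BcPts.bcEquiv f X G g) := by
  rw [mem_qt_iff, mem_iff]
  rfl

lemma mem_qt_iff' {Z : Over S} (g : Z ⟶ G) (w : Z ⟶ Over.mk f) :
    Mem (qt f q) (lift g w) ↔
      Mem q (BcPts.bcEquiv f (Over.mk w.left) G ((BcPts.overIso w).hom ≫ g)) := by
  rw [mem_qt_iff, mem_iff]
  refine exists_congr fun x => and_congr Iff.rfl ?_
  rw [Over.comp_left, BcPts.overIso_hom_left]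
  exact ⟨fun h => h.trans (Category.id_comp _).symm, fun h => h.trans (Category.id_comp _)⟩

end Qt

section Local

variable {G W : Over S}

/-- Quantifying over test objects with an additional structure preserves local conditions. -/
theorem isLocalPt_all {F : ∀ X : Over S, (X ⟶ G ⊗ W) → Prop} (hF : EtSub.IsLocalPt F) :
    EtSub.IsLocalPt (fun X (g : X ⟶ G) => ∀ (Z : Over S) (z : Z ⟶ X) (w : Z ⟶ W),
      F Z (lift (z ≫ g) w)) where
  comp h g hg Z z w := by
    rw [← Category.assoc]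
    exact hg Z (z ≫ h) w
  zariski {X} g 𝒰 H Z z w := by
    refine hF.zariski _ (𝒰.pullback₁ z.left) fun i => ?_
    have h1 : (Limits.pullback.snd z.left (𝒰.f i)) ≫ 𝒰.f i ≫ X.hom =
        Limits.pullback.fst z.left (𝒰.f i) ≫ Z.hom := by
      rw [← Category.assoc, ← Limits.pullback.condition, Category.assoc, Over.w]
    let z' : Over.mk ((𝒰.pullback₁ z.left).f i ≫ Z.hom) ⟶ Over.mk (𝒰.f i ≫ X.hom) :=
      Over.homMk (Limits.pullback.snd z.left (𝒰.f i)) h1
    have h2 := H i _ z' (Over.homMk ((𝒰.pullback₁ z.left).f i) ≫ w)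
    have h3 : (Over.homMk ((𝒰.pullback₁ z.left).f i) : Over.mk ((𝒰.pullback₁ z.left).f i ≫ Z.hom) ⟶ Z) ≫
        z = z' ≫ (Over.homMk (𝒰.f i) : Over.mk (𝒰.f i ≫ X.hom) ⟶ X) := by
      ext1
      exact Limits.pullback.condition
    rw [comp_lift, ← Category.assoc, h3, Category.assoc]
    exact h2
  flat {X' X} h g h1 h2 h3 h4 H Z z w := by
    let Z' : Over S := Over.mk (Limits.pullback.fst z.left h.left ≫ Z.hom)
    let h' : Z' ⟶ Z := Over.homMk (Limits.pullback.fst z.left h.left) rfl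
    have h5 : Limits.pullback.snd z.left h.left ≫ X'.hom =
        Limits.pullback.fst z.left h.left ≫ Z.hom := by
      rw [← Over.w h, ← Category.assoc, ← Limits.pullback.condition, Category.assoc, Over.w]
    let z' : Z' ⟶ X' := Over.homMk (Limits.pullback.snd z.left h.left) h5
    have h6 : h' ≫ z = z' ≫ h := by
      ext1
      exact Limits.pullback.condition
    refine hF.flat h' _ (inferInstanceAs (Flat (Limits.pullback.fst z.left h.left)))
      (inferInstanceAs (Surjective (Limits.pullback.fst z.left h.left)))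
      (inferInstanceAs (QuasiCompact (Limits.pullback.fst z.left h.left)))
      (inferInstanceAs (LocallyOfFinitePresentation (Limits.pullback.fst z.left h.left))) ?_
    rw [comp_lift, ← Category.assoc, h6, Category.assoc]
    exact H Z' z' (h' ≫ w)

/-- Intersections of local conditions. -/
theorem isLocalPt_forall {J : Type*} {F : J → ∀ X : Over S, (X ⟶ G) → Prop}
    (hF : ∀ i, EtSub.IsLocalPt (F i)) : EtSub.IsLocalPt (fun X (g : X ⟶ G) => ∀ i, F i X g) where
  comp h g hg i := (hF i).comp h g (hg i)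
  zariski g 𝒰 H i := (hF i).zariski g 𝒰 fun k => H k i
  flat h g h1 h2 h3 h4 H i := (hF i).flat h g h1 h2 h3 h4 (H i)

end Local

section Glue

variable {G : Over S} [GrpObj G] {J : Type u} {S' : J → Scheme.{u}} {f : ∀ i, S' i ⟶ S}
variable {Q : ∀ i, Over (S' i)} [∀ i, GrpObj (Q i)] (q : ∀ i, Q i ⟶ Red.bc (f i) G)

/-- The glued condition. -/
def GluePt (X : Over S) (g : X ⟶ G) : Prop :=
  ∀ (i : J) (Z : Over S) (z : Z ⟶ X) (w : Z ⟶ Over.mk (f i)),
    Mem (qt (f i) (q i)) (lift (z ≫ g) w)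

variable {q}

/-- **Gluing closed subgroups.** -/
theorem exists_glue (hf : EtHom.IsCov f) (hqm : ∀ i, IsMonHom (q i))
    (hqc : ∀ i, IsClosedImmersion (q i).left)
    (hagr : ∀ (i j : J) (Z : Over S) (g : Z ⟶ G) (w : Z ⟶ Over.mk (f i)) (w' : Z ⟶ Over.mk (f j)),
      Mem (qt (f i) (q i)) (lift g w) → Mem (qt (f j) (q j)) (lift g w')) :
    ∃ (P : Over S) (_ : GrpObj P) (p : P ⟶ G), IsMonHom p ∧ IsClosedImmersion p.left ∧
      ∀ i, ∃ e : Red.bc (f i) P ≅ Q i, e.hom ≫ q i = (Over.pullback (f i)).map p := by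
  have hqmono : ∀ i, Mono (q i) := fun i => by
    have : Mono ((Over.forget (S' i)).map (q i)) := inferInstanceAs (Mono (q i).left)
    exact (Over.forget (S' i)).mono_of_mono_map this
  have hloc : EtSub.IsLocalPt (GluePt q) :=
    isLocalPt_forall fun i => isLocalPt_all (isLocalPt_mem (qt (f i) (q i)))
  have hrep : ∀ (i : J) (X : Over (S' i)) (g : X ⟶ Red.bc (f i) G), Mem (q i) g ↔
      GluePt q ((Over.map (f i)).obj X) ((BcPts.bcEquiv (f i) X G).symm g) := by
    intro i X g
    obtain ⟨g, rfl⟩ := (BcPts.bcEquiv (f i) X G).surjective g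
    rw [Equiv.symm_apply_apply, ← mem_qt_str_iff]
    constructor
    · intro h j Z z w
      refine hagr i j Z (z ≫ g) (z ≫ str (f i) X) w ?_
      rw [← comp_lift]
      exact h.comp z
    · intro h
      have := h i _ (𝟙 _) (str (f i) X)
      rwa [Category.id_comp] at this
  obtain ⟨P, inst, p, hpm, hpc, hp⟩ := EtSub.exists_closed_subgroup hloc
    (fun X i Z z w => by
      rw [mem_qt_iff', MonObj.comp_one, MonObj.comp_one, BcPts.bcEquiv_one]
      have := hqm i
      exact ⟨1, MonObj.one_comp _⟩)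
    (fun X x y hx hy i Z z w => by
      have hx' := hx i Z z w
      have hy' := hy i Z z w
      rw [mem_qt_iff'] at hx' hy' ⊢
      rw [MonObj.comp_mul, MonObj.comp_mul, BcPts.bcEquiv_mul]
      have := hqm i
      obtain ⟨a, ha⟩ := hx'
      obtain ⟨b, hb⟩ := hy'
      exact ⟨a * b, by rw [MonObj.mul_comp, ha, hb]⟩)
    (fun X x hx i Z z w => by
      have hx' := hx i Z z w
      rw [mem_qt_iff'] at hx' ⊢
      have := hqm i
      obtain ⟨a, ha⟩ := hx'
      refine ⟨a⁻¹, ?_⟩
      rw [GrpObj.inv_comp, ha, GrpObj.comp_inv, GrpObj.comp_inv]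
      exact (map_inv (BcPts.bcMulEquiv (f i) (Over.mk w.left) G)
        ((BcPts.overIso w).hom ≫ z ≫ x)).symm)
    (fun s => by
      obtain ⟨i, hi⟩ := hf.surj s
      exact ⟨S' i, f i, hf.flat i, hf.lfp i, hi, Q i, q i, hqc i, hrep i⟩)
  refine ⟨P, inst, p, hpm, hpc, fun i => ?_⟩
  have hpmono : Mono p := by
    have : Mono ((Over.forget S).map p) := inferInstanceAs (Mono p.left)
    exact (Over.forget S).mono_of_mono_map this
  have hpts : ∀ (X : Over (S' i)) (g : X ⟶ Red.bc (f i) G),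
      Mem ((Over.pullback (f i)).map p) g ↔ Mem (q i) g := by
    intro X g
    rw [hrep, ← hp]
    exact DynBc998.exists_bc_iff (f i) p g
  obtain ⟨a, ha⟩ := (hpts _ _).1 ⟨𝟙 _, Category.id_comp _⟩
  obtain ⟨b, hb⟩ := (hpts _ _).2 ⟨𝟙 _, Category.id_comp (q i)⟩
  exact ⟨⟨a, b, by rw [← cancel_mono ((Over.pullback (f i)).map p), Category.assoc, hb, ha,
    Category.id_comp], by rw [← cancel_mono (q i), Category.assoc, ha, hb, Category.id_comp]⟩, ha⟩

end Glue

section Agree

variable {G : Over S} [GrpObj G]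

lemma sqIso_left {T S₁ S₂ : Scheme.{u}} {a : T ⟶ S₁} {f₁ : S₁ ⟶ S} {b : T ⟶ S₂} {f₂ : S₂ ⟶ S}
    (h : a ≫ f₁ = b ≫ f₂) :
    (sqIso h G).hom.hom.hom.left ≫ Limits.pullback.fst (Red.bc f₂ G).hom b ≫
      Limits.pullback.fst G.hom f₂ =
      Limits.pullback.fst (Red.bc f₁ G).hom a ≫ Limits.pullback.fst G.hom f₁ := by
  have h1 : (sqIso h G).hom.hom.hom.left = (BcIso.bcCompIso a f₁ G).inv.hom.hom.left ≫
      (BcIso.bcCongrIso h G).hom.hom.hom.left ≫ (BcIso.bcCompIso b f₂ G).hom.hom.hom.left := rfl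
  rw [h1, Category.assoc, Category.assoc, DynBc998.bcCompIso_left, DynBc998.bcCongrIso_left,
    ← DynBc998.bcCompIso_left a f₁ G, ← Category.assoc]
  have h2 : (BcIso.bcCompIso a f₁ G).inv.hom.hom.left ≫
      (BcIso.bcCompIso a f₁ G).hom.hom.hom.left = 𝟙 _ := by
    have := congrArg (fun z => z.hom.hom.left) (BcIso.bcCompIso a f₁ G).inv_hom_id
    exact this
  rw [h2]
  exact Category.id_comp _

/-- Subgroups which agree over the fibre product agree on points. -/
theorem mem_of_iso {T S₁ S₂ : Scheme.{u}} {a : T ⟶ S₁} {f₁ : S₁ ⟶ S} {b : T ⟶ S₂} {f₂ : S₂ ⟶ S}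
    (h : IsPullback a b f₁ f₂) {Q₁ : Over S₁} {Q₂ : Over S₂} (q₁ : Q₁ ⟶ Red.bc f₁ G)
    (q₂ : Q₂ ⟶ Red.bc f₂ G) (e : Red.bc a Q₁ ⟶ Red.bc b Q₂)
    (he : e ≫ (Over.pullback b).map q₂ = (Over.pullback a).map q₁ ≫ (sqIso h.w G).hom.hom.hom)
    {Z : Over S} (g : Z ⟶ G) (w₁ : Z ⟶ Over.mk f₁) (w₂ : Z ⟶ Over.mk f₂)
    (hg : Mem (qt f₁ q₁) (lift g w₁)) : Mem (qt f₂ q₂) (lift g w₂) := by
  rw [mem_qt_iff] at hg ⊢
  obtain ⟨x, hx1, hx2⟩ := hg
  have hw : w₁.left ≫ f₁ = w₂.left ≫ f₂ := (Over.w w₁).trans (Over.w w₂).symm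
  let t : Z.left ⟶ T := h.lift w₁.left w₂.left hw
  have hta : t ≫ a = w₁.left := h.lift_fst _ _ _
  have htb : t ≫ b = w₂.left := h.lift_snd _ _ _
  let y : Z.left ⟶ (Red.bc a Q₁).left := Limits.pullback.lift x t (by rw [hx1, hta])
  have hy1 : y ≫ Limits.pullback.fst Q₁.hom a = x := Limits.pullback.lift_fst _ _ _
  have hy2 : y ≫ Limits.pullback.snd Q₁.hom a = t := Limits.pullback.lift_snd _ _ _
  have hq₂ : ((Over.pullback b).map q₂).left ≫ Limits.pullback.fst (Red.bc f₂ G).hom b =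
      Limits.pullback.fst Q₂.hom b ≫ q₂.left := Limits.pullback.lift_fst _ _ _
  have hq₁ : ((Over.pullback a).map q₁).left ≫ Limits.pullback.fst (Red.bc f₁ G).hom a =
      Limits.pullback.fst Q₁.hom a ≫ q₁.left := Limits.pullback.lift_fst _ _ _
  have hel : e.left ≫ ((Over.pullback b).map q₂).left =
      ((Over.pullback a).map q₁).left ≫ (sqIso h.w G).hom.hom.hom.left :=
    congrArg (fun z => z.left) he
  refine ⟨y ≫ e.left ≫ Limits.pullback.fst Q₂.hom b, ?_, ?_⟩
  · have h3 : e.left ≫ Limits.pullback.snd Q₂.hom b = Limits.pullback.snd Q₁.hom a := Over.w e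
    rw [Category.assoc, Category.assoc, Limits.pullback.condition, reassoc_of% h3,
      reassoc_of% hy2, htb]
  · rw [Category.assoc, Category.assoc, ← reassoc_of% hq₂, reassoc_of% hel, sqIso_left,
      reassoc_of% hq₁, reassoc_of% hy1]
    exact hx2

end Agree

end Groth.Agent.Sga3B.Parab.GlueSub172
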