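import Groth.Agent.Sga3B.Parab.RadExist147
import Groth.Agent.Sga3B.Par.LocBC

/-!
# Unipotent radicals and Levi subgroups of parabolic subgroups: étale base change and descent
-/

set_option autoImplicit false

universe u

open CategoryTheory MonoidalCategory CartesianMonoidalCategory MonObj GrpObj AlgebraicGeometry

namespace Groth.Agent.Sga3B.Parab.LeviDesc147

open Groth.Agent.Sga3B GeomBC147 GeomFib147 RedCover147 EtSub ConjPt RadExist147

section Mem

variable {S : Scheme.{u}}

theorem mem_of_isPullback {P U X W : Over S} {v : U ⟶ P} {g : X ⟶ P} {a : W ⟶ U} {b : W ⟶ X}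
    (h : IsPullback a b v g) [IsIso b] : Mem v g :=
  ⟨inv b ≫ a, by rw [Category.assoc, h.w, IsIso.inv_hom_id_assoc]⟩

theorem isIso_of_mem {P U X W : Over S} {v : U ⟶ P} [Mono v] {g : X ⟶ P} {a : W ⟶ U} {b : W ⟶ X}
    (h : IsPullback a b v g) (hm : Mem v g) : IsIso b := by
  obtain ⟨x, hx⟩ := hm
  have hb : Mono b := ⟨fun y z hyz => h.hom_ext (by
    rw [← cancel_mono v, Category.assoc, Category.assoc, h.w, reassoc_of% hyz]) hyz⟩
  have h1 : h.lift x (𝟙 X) (by rw [hx, Category.id_comp]) ≫ b = 𝟙 X := h.lift_snd _ _ _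
  have h2 : b ≫ h.lift x (𝟙 X) (by rw [hx, Category.id_comp]) = 𝟙 W := by
    rw [← cancel_mono b, Category.assoc, h1, Category.comp_id, Category.id_comp]
  exact ⟨_, h2, h1⟩

variable {J : Type u} {S' : J → Scheme.{u}} {f : ∀ i, S' i ⟶ S} (hf : IsEtCov f)

include hf

/-- Factoring through a subobject can be checked étale locally on `S`. -/
theorem mem_of_cover {P U X : Over S} {v : U ⟶ P} [Mono v] {g : X ⟶ P}
    (h : ∀ i, Mem ((Over.pullback (f i)).map v) ((Over.pullback (f i)).map g)) : Mem v g := by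
  have hp : IsPullback (Limits.pullback.fst v g) (Limits.pullback.snd v g) v g :=
    IsPullback.of_hasPullback v g
  have : IsIso (Limits.pullback.snd v g) :=
    isIso_of_cover hf fun i => isIso_of_mem (hp.map (Over.pullback (f i))) (h i)
  exact mem_of_isPullback hp

theorem isNormalHom_of_cover {P U : Over S} [GrpObj P] [GrpObj U] {v : U ⟶ P} [Mono v]
    (h : ∀ i, AlgGrp.IsNormalHom ((Over.pullback (f i)).map v)) : AlgGrp.IsNormalHom v := by
  intro T g n
  suffices h0 : Mem v (g * (n ≫ v) * g⁻¹) by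
    obtain ⟨x, hx⟩ := h0
    exact ⟨x, hx.symm⟩
  refine mem_of_cover hf fun i => ?_
  obtain ⟨x, hx⟩ := h i _ ((Over.pullback (f i)).map g) ((Over.pullback (f i)).map n)
  refine ⟨x, ?_⟩
  rw [← hx, Functor.map_mul, Functor.map_mul, Functor.map_inv', Functor.map_comp]

/-- Being a unipotent radical can be checked étale locally. -/
theorem isUnipotentRadical_of_cover {P U : Over S} [GrpObj P] [GrpObj U] {v : U ⟶ P}
    (hv : IsMonHom v) (h : ∀ i, Par.IsUnipotentRadical ((Over.pullback (f i)).map v)) :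
    Par.IsUnipotentRadical v := by
  have hc : IsClosedImmersion v.left := isClosedImmersion_of_cover hf fun i => (h i).2.1
  have hm : Mono v := Groth.Agent.Sga3C.ClosedSub.mono_of_left v
  have hN : IsUnipNormal v := isUnipNormal_of_cover (isNormalHom_of_cover hf fun i => (h i).2.2.1)
    hf fun i => isUnipNormal_of_isUnipotentRadical (h i)
  refine ⟨hv, hN.closed, hN.normal, hN.smooth, hN.qc, hN.fib, ?_⟩
  intro U' _ u' _ h1 h2 h3 h4 h5
  have hu' : IsUnipNormal u' := ⟨h1, h2, h3, h4, h5⟩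
  refine mem_of_cover hf fun i => ?_
  have := hf.qf i
  exact exists_fac (h i) (hu'.bc (f i))

end Mem

section Rad

variable {S : Scheme.{u}} {G P : Over S} [GrpObj G] [GrpObj P]

/-- The unipotent radical of `P_G(λ)` is `U_G(λ)`. -/
theorem isDynU_of_isUnipotentRadical (hPcU : PcU.{u}) (hG : Red.IsReductive G)
    {p : P ⟶ G} {lam : Red.Gm S ⟶ G} [IsMonHom lam] (h : IsDynP lam p) {U : Over S} [GrpObj U]
    {v : U ⟶ P} (hv : Par.IsUnipotentRadical v) : IsDynU lam (v ≫ p) := by
  have := hG.1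
  have := h.isMonHom
  have := h.mono
  obtain ⟨U₀, _, u₀, hu, -⟩ := DynExist998.exists_isDynU lam
  obtain ⟨u, rfl⟩ := DynLevi998.exists_uP h hu
  obtain ⟨Z, _, z₀, hz, -⟩ := DynExist998.exists_isDynZ lam
  obtain ⟨z, rfl⟩ := DynLevi998.exists_zP h hz
  obtain ⟨-, r, -⟩ := hPcU lam hG p h u hu z hz
  obtain ⟨e, he⟩ := Par.LeviProj.exists_iso_of_isUnipotentRadical hv r
  have := hv.1
  have : IsClosedImmersion v.left := hv.2.1
  have hm : Mono v := Groth.Agent.Sga3C.ClosedSub.mono_of_left v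
  refine ⟨inferInstance, inferInstance, fun X g => ?_⟩
  rw [← hu.iff_ptU]
  constructor
  · rintro ⟨x, rfl⟩
    exact ⟨x ≫ e.hom, by rw [Category.assoc, reassoc_of% he]⟩
  · rintro ⟨x, rfl⟩
    refine ⟨x ≫ e.inv, ?_⟩
    rw [← he, Category.assoc, Category.assoc, Iso.inv_hom_id_assoc]

theorem isUnipotentRadical_of_isDynU (hPcU : PcU.{u}) (hG : Red.IsReductive G)
    {p : P ⟶ G} {lam : Red.Gm S ⟶ G} [IsMonHom lam] (h : IsDynP lam p) {U : Over S} [GrpObj U]
    {v : U ⟶ P} (hv : IsDynU lam (v ≫ p)) : Par.IsUnipotentRadical v := by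
  have := hG.1
  have := h.isMonHom
  have := h.mono
  obtain ⟨Z, _, z₀, hz, -⟩ := DynExist998.exists_isDynZ lam
  obtain ⟨z, rfl⟩ := DynLevi998.exists_zP h hz
  exact (hPcU lam hG p h v hv z hz).2.1

/-- Any unipotent radical of a parabolic subgroup is étale locally `U_G(λ)`. -/
theorem isDynU_bc (hPcU : PcU.{u}) (hPcP : PcP.{u}) (hG : Red.IsReductive G) {p : P ⟶ G}
    (hp : Red.IsParabolic p) {U : Over S} [GrpObj U] {v : U ⟶ P} (hv : Par.IsUnipotentRadical v)
    {S' : Scheme.{u}} (f : S' ⟶ S) [Etale f] (lam : Red.Gm S' ⟶ Red.bc f G) [IsMonHom lam]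
    (h : IsDynP lam ((Over.pullback f).map p)) : IsDynU lam ((Over.pullback f).map (v ≫ p)) := by
  obtain ⟨V, _, w, hw, H⟩ := exists_rad hPcU hPcP hG hp
  obtain ⟨e, he⟩ := Par.LeviProj.exists_iso_of_isUnipotentRadical hv hw
  have h1 := H S' f ‹_› lam ‹_› h
  have := hv.1
  have := hp.1
  have : IsClosedImmersion v.left := hv.2.1
  have hm : Mono v := Groth.Agent.Sga3C.ClosedSub.mono_of_left v
  have := hp.2.1
  have hm : Mono p := Groth.Agent.Sga3C.ClosedSub.mono_of_left p
  refine ⟨inferInstance, inferInstance, fun X g => ?_⟩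
  rw [← h1.iff_ptU]
  constructor
  · rintro ⟨x, rfl⟩
    exact ⟨x ≫ (Over.pullback f).map e.hom, by
      rw [Category.assoc, ← Functor.map_comp, reassoc_of% he]⟩
  · rintro ⟨x, rfl⟩
    refine ⟨x ≫ (Over.pullback f).map e.inv, ?_⟩
    rw [← he, Category.assoc, ← Functor.map_comp, Category.assoc, Iso.inv_hom_id_assoc]

/-- The unipotent radical of a parabolic subgroup commutes with étale base change. -/
theorem isUnipotentRadical_bc (hPcU : PcU.{u}) (hPcP : PcP.{u}) (hG : Red.IsReductive G)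
    {p : P ⟶ G} (hp : Red.IsParabolic p) {U : Over S} [GrpObj U] {v : U ⟶ P}
    (hv : Par.IsUnipotentRadical v) {S' : Scheme.{u}} (f : S' ⟶ S) [Etale f] :
    Par.IsUnipotentRadical ((Over.pullback f).map v) := by
  have := hv.1
  have := Desc.LQF.of_etale f
  obtain ⟨J, S₁, g, he, hcov, hQ⟩ := exists_isEtCov (Q := fun S₁ g =>
    ∃ lam : Red.Gm S₁ ⟶ Red.bc g (Red.bc f G), IsMonHom lam ∧
      IsDynP lam ((Over.pullback g).map ((Over.pullback f).map p)))
    (hPcP ((Over.pullback f).map p) (isReductive_bc f hG) (isParabolic_bc f hp))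
  refine isUnipotentRadical_of_cover hcov inferInstance fun i => ?_
  obtain ⟨lam, hlam, h⟩ := hQ i
  have := he i
  have := Desc.LQF.of_etale (g i)
  let lam' : Red.Gm (S₁ i) ⟶ Red.bc (g i ≫ f) G := lam ≫ (BcIso.bcCompIso (g i) f G).inv.hom.hom
  have w : ∀ {A B : Over S} [GrpObj A] [GrpObj B] (k : A ⟶ B),
      (BcIso.bcCompIso (g i) f A).symm.hom.hom.hom ≫ (Over.pullback (g i ≫ f)).map k =
        (Over.pullback (g i)).map ((Over.pullback f).map k) ≫
          (BcIso.bcCompIso (g i) f B).symm.hom.hom.hom := fun k =>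
    symm_w _ _ (bcCompIso_natural (g i) f k)
  have h1 : IsDynP lam' ((Over.pullback (g i ≫ f)).map p) :=
    DynIso147.isDynP_of_iso (BcIso.bcCompIso (g i) f P).symm (BcIso.bcCompIso (g i) f G).symm (w p) h
  have h2 := isDynU_bc hPcU hPcP hG hp hv (g i ≫ f) lam' h1
  have h3 := DynIso147.isDynU_of_iso (BcIso.bcCompIso (g i) f U) (BcIso.bcCompIso (g i) f G)
    (bcCompIso_natural (g i) f (v ≫ p)) h2
  have h4 : lam' ≫ (BcIso.bcCompIso (g i) f G).hom.hom.hom = lam := by
    change (lam ≫ _) ≫ _ = _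
    rw [Category.assoc, GeomBC147.inv_hom, Category.comp_id]
  rw [h4, Functor.map_comp, Functor.map_comp] at h3
  exact isUnipotentRadical_of_isDynU hPcU (isReductive_bc _ (isReductive_bc f hG)) h h3

/-- Levi subgroups of parabolic subgroups: étale base change. -/
theorem isLevi_bc (hPcU : PcU.{u}) (hPcP : PcP.{u}) (hG : Red.IsReductive G)
    {p : P ⟶ G} (hp : Red.IsParabolic p) {L : Over S} [GrpObj L] {l : L ⟶ P}
    (hl : Par.IsLevi l) {S' : Scheme.{u}} (f : S' ⟶ S) [Etale f] :
    Par.IsLevi ((Over.pullback f).map l) := by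
  obtain ⟨V, _, v, hv, -⟩ := exists_rad hPcU hPcP hG hp
  have h1 := Par.LeviProj.isSemi_of_isLevi hl hv
  have h2 := Par.LocBC.IsSemi.bc h1 f
  have := hl.1
  have := hl.2.1
  have := Desc.LQF.of_etale f
  exact ⟨inferInstance, inferInstance, isReductive_bc f hl.2.2.1, Red.bc f V, inferInstance,
    (Over.pullback f).map v, isUnipotentRadical_bc hPcU hPcP hG hp hv f, h2.iso⟩

end Rad

section Mult

variable {S S' : Scheme.{u}} (f : S' ⟶ S) {A B G : Over S} [GrpObj G] (a : A ⟶ G) (b : B ⟶ G)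

/-- Base change of the multiplication map of two subobjects. -/
theorem map_mult : ((Over.pullback f).map a ⊗ₘ (Over.pullback f).map b) ≫ μ[Red.bc f G] =
    Functor.LaxMonoidal.μ (Over.pullback f) A B ≫ (Over.pullback f).map ((a ⊗ₘ b) ≫ μ[G]) := by
  rw [Functor.map_comp, ← Functor.LaxMonoidal.μ_natural_assoc]
  rfl

theorem isIso_map_mult_iff : IsIso (((Over.pullback f).map a ⊗ₘ (Over.pullback f).map b) ≫
      μ[Red.bc f G]) ↔ IsIso ((Over.pullback f).map ((a ⊗ₘ b) ≫ μ[G])) := by
  rw [map_mult]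
  exact ⟨fun _ => IsIso.of_isIso_comp_left (Functor.LaxMonoidal.μ (Over.pullback f) A B) _,
    fun _ => inferInstance⟩

theorem isOpenImmersion_map_mult_iff :
    IsOpenImmersion (((Over.pullback f).map a ⊗ₘ (Over.pullback f).map b) ≫ μ[Red.bc f G]).left ↔
      IsOpenImmersion ((Over.pullback f).map ((a ⊗ₘ b) ≫ μ[G])).left := by
  rw [map_mult, Over.comp_left]
  have : IsIso (Functor.LaxMonoidal.μ (Over.pullback f) A B).left :=
    inferInstanceAs (IsIso ((Over.forget _).map (Functor.LaxMonoidal.μ (Over.pullback f) A B)))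
  exact MorphismProperty.cancel_left_of_respectsIso @IsOpenImmersion _ _

end Mult

section Cover

variable {S : Scheme.{u}} {J : Type u} {S' : J → Scheme.{u}} {f : ∀ i, S' i ⟶ S} (hf : IsEtCov f)

include hf

theorem mono_of_cover {X Y : Over S} {l : X ⟶ Y} (h : ∀ i, Mono ((Over.pullback (f i)).map l)) :
    Mono l := by
  have hp : IsPullback (Limits.pullback.fst l l) (Limits.pullback.snd l l) l l :=
    IsPullback.of_hasPullback l l
  have h1 : IsIso (Limits.pullback.snd l l) := isIso_of_cover hf fun i => by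
    have := h i
    exact isIso_of_mem (hp.map (Over.pullback (f i))) ⟨𝟙 _, Category.id_comp _⟩
  have h2 : Limits.pullback.fst l l = Limits.pullback.snd l l := by
    have h3 : Limits.pullback.diagonal l ≫ Limits.pullback.snd l l = 𝟙 _ :=
      Limits.pullback.diagonal_snd l
    have h4 : Limits.pullback.snd l l ≫ Limits.pullback.diagonal l = 𝟙 _ := by
      rw [← cancel_mono (Limits.pullback.snd l l), Category.assoc, h3, Category.comp_id,
        Category.id_comp]
    calc Limits.pullback.fst l l = (Limits.pullback.snd l l ≫ Limits.pullback.diagonal l) ≫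
        Limits.pullback.fst l l := by rw [h4, Category.id_comp]
      _ = Limits.pullback.snd l l := by
        rw [Category.assoc, Limits.pullback.diagonal_fst, Category.comp_id]
  exact ⟨fun x y hxy => calc
    x = hp.lift x y hxy ≫ Limits.pullback.fst l l := (hp.lift_fst x y hxy).symm
    _ = hp.lift x y hxy ≫ Limits.pullback.snd l l := congrArg (hp.lift x y hxy ≫ ·) h2
    _ = y := hp.lift_snd x y hxy⟩

variable {G P : Over S} [GrpObj G] [GrpObj P]

/-- Being a Levi subgroup of a parabolic subgroup can be checked étale locally. -/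
theorem isLevi_of_cover (hPcU : PcU.{u}) (hPcP : PcP.{u}) (he : ∀ i, Etale (f i))
    (hG : Red.IsReductive G) {p : P ⟶ G} (hp : Red.IsParabolic p) {L : Over S} [GrpObj L]
    {l : L ⟶ P} (hl : IsMonHom l) (h : ∀ i, Par.IsLevi ((Over.pullback (f i)).map l)) :
    Par.IsLevi l := by
  obtain ⟨V, _, v, hv, -⟩ := exists_rad hPcU hPcP hG hp
  refine ⟨hl, mono_of_cover hf fun i => (h i).2.1, isReductive_of_cover hf fun i => (h i).2.2.1,
    V, inferInstance, v, hv, isIso_of_cover hf fun i => ?_⟩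
  have := he i
  rw [← isIso_map_mult_iff]
  exact (Par.LeviProj.isSemi_of_isLevi (h i) (isUnipotentRadical_bc hPcU hPcP hG hp hv (f i))).iso

end Cover

end Groth.Agent.Sga3B.Parab.LeviDesc147
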