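import Groth.Agent.Sga3B.Parab.DynLevi998
import Groth.Agent.Sga3B.Par.LocMain
import Groth.Agent.Sga3B.Parab.Semi
import Mathlib.AlgebraicGeometry.Morphisms.SchemeTheoreticallyDominant

/-!
# Limits of orbits in closed subgroups
-/

set_option autoImplicit false
set_option linter.unusedSectionVars false

universe u

open CategoryTheory MonoidalCategory CartesianMonoidalCategory MonObj GrpObj Limits AlgebraicGeometry
open scoped LaurentPolynomial Polynomial

namespace Groth.Agent.Sga3B.Parab.LimLift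

variable {S : Scheme.{u}}

section

variable {C : Type u} [CommRing C] {c : Spec (CommRingCat.of C) ⟶ S}

lemma ker_SpecMap {A B : Type u} [CommRing A] [CommRing B] (f : A →+* B)
    (hf : Function.Injective f) : (Spec.map (CommRingCat.ofHom f)).ker = ⊥ := by
  refine Scheme.IdealSheafData.ext_of_isAffine ?_
  rw [Scheme.Hom.ker_apply, Scheme.IdealSheafData.ideal_bot, Pi.bot_apply,
    ← RingHom.injective_iff_ker_eq_bot]
  have h1 : (Spec.map (CommRingCat.ofHom f)).appTop = (Scheme.ΓSpecIso (.of A)).hom ≫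
      CommRingCat.ofHom f ≫ (Scheme.ΓSpecIso (.of B)).inv := by
    rw [Scheme.ΓSpecIso_inv_naturality, Iso.hom_inv_id_assoc]
  change Function.Injective (Spec.map (CommRingCat.ofHom f)).appTop.hom
  rw [h1]
  intro x y hxy
  have h2 : Function.Injective (Scheme.ΓSpecIso (.of B)).inv.hom :=
    ((ConcreteCategory.isIso_iff_bijective (Scheme.ΓSpecIso (.of B)).inv).mp inferInstance).1
  have h3 : Function.Injective (Scheme.ΓSpecIso (.of A)).hom.hom :=
    ((ConcreteCategory.isIso_iff_bijective (Scheme.ΓSpecIso (.of A)).hom).mp inferInstance).1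
  exact h3 (hf (h2 hxy))

lemma ker_toLin : (toLin C c).left.ker = ⊥ :=
  ker_SpecMap _ Polynomial.toLaurent_injective

/-- Extension of a limit to a closed subscheme. -/
lemma exists_lift {H G : Over S} (i : H ⟶ G) [IsClosedImmersion i.left] (h : lin C c ⟶ G)
    (y : gmo C c ⟶ H) (hy : y ≫ i = toLin C c ≫ h) : ∃ y' : lin C c ⟶ H, y' ≫ i = h := by
  have h1 : i.left.ker ≤ h.left.ker := by
    have h2 : ((toLin C c).left ≫ h.left).ker = h.left.ker := by
      rw [Scheme.Hom.ker_comp, ker_toLin, Scheme.IdealSheafData.map_bot]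
    rw [← h2, ← Over.comp_left, ← hy, Over.comp_left]
    exact Scheme.Hom.le_ker_comp _ _
  refine ⟨Over.homMk (IsClosedImmersion.lift i.left h.left h1) ?_, ?_⟩
  · rw [← Over.w i, ← Category.assoc, IsClosedImmersion.lift_fac, Over.w]
  · ext1
    exact IsClosedImmersion.lift_fac _ _ _

end

variable {G P U Z V : Over S} [GrpObj G] [GrpObj P] [GrpObj U] [GrpObj Z] [GrpObj V]
  {lam : Red.Gm S ⟶ G} [IsMonHom lam] [IsAffineHom G.hom]

lemma ptZ_lam : PtZ lam lam := by
  intro C _ c x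
  apply Par.LocMain.orbConst_of_comm
  have h1 := MonObj.mul_comp (gmPr C c ≫ x) (tPt C c) lam
  have h2 := MonObj.mul_comp (tPt C c) (gmPr C c ≫ x) lam
  rw [← Category.assoc, ← h1, ← h2, Par.LocMain.gm_comm]

/-- `λ` is a cocharacter of `P_G(λ)`. -/
lemma exists_lam_fac {p : P ⟶ G} (hp : IsDynP lam p) : ∃ l : Red.Gm S ⟶ P, l ≫ p = lam :=
  (hp.iff_ptP _ _).2 ptZ_lam.ptP

/-- The projection `P_G(λ) ⟶ Z_G(λ)` maps a closed subscheme stable under conjugation by `λ` to
itself. -/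
theorem exists_proj {p : P ⟶ G} (hp : IsDynP lam p) {z : Z ⟶ P} (hz : IsDynZ lam (z ≫ p))
    {u : U ⟶ P} (hu : IsDynU lam (u ≫ p)) [IsIso ((z ⊗ₘ u) ≫ μ[P])] (v : V ⟶ P)
    (hv : IsClosedImmersion (v ≫ p).left) (hvn : AlgGrp.IsNormalHom v) :
    ∃ n : V ⟶ V, n ≫ v = v ≫ Semi.pr z u ≫ z := by
  have := hp.isMonHom
  have := hp.mono
  have hmvp : Mono (v ≫ p) := by
    have : Mono ((Over.forget S).map (v ≫ p)) := inferInstanceAs (Mono (v ≫ p).left)
    exact (Over.forget S).mono_of_mono_map this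
  have hmv : Mono v := mono_of_mono v p
  obtain ⟨l, hl⟩ := exists_lam_fac hp
  refine AffPts998.exists_lift_of_aff v _ fun C _ c t => ?_
  let w : aff C c ⟶ P := t ≫ v
  have hw := Semi.pr_mul_qr z u w
  obtain ⟨a, ha⟩ : ∃ a, a = w ≫ Semi.pr z u := ⟨_, rfl⟩
  obtain ⟨b, hb⟩ : ∃ b, b = w ≫ Semi.qr z u := ⟨_, rfl⟩
  have hw' : (a ≫ z) * (b ≫ u) = w := by
    rw [ha, hb, Category.assoc, Category.assoc]
    exact hw
  have hU : LimOne lam (b ≫ u ≫ p) := Dyn998.ptU_iff.1 (hu.ptU.comp b)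
  have hZ : OrbConst lam (a ≫ z ≫ p) := Dyn998.ptZ_iff.1 (hz.ptZ.comp a)
  obtain ⟨k, hk, hk0⟩ := hU
  obtain ⟨y, hy⟩ := hvn (gmo C c) (tPt C c ≫ l) (gmPr C c ≫ t)
  have h1 : (y ≫ v) ≫ p = orb lam (w ≫ p) := by
    rw [← hy, MonObj.mul_comp, MonObj.mul_comp, GrpObj.inv_comp]
    simp only [Category.assoc, hl]
    rfl
  have h2 : toLin C c ≫ ((linPr C c ≫ a ≫ z ≫ p) * k) = orb lam (w ≫ p) := by
    rw [MonObj.comp_mul, hk, ← Category.assoc (toLin C c), Dyn998.toLin_linPr, ← hw',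
      MonObj.mul_comp, Category.assoc, Category.assoc, Dyn998.orb_mul, hZ]
  obtain ⟨y', hy'⟩ := exists_lift (v ≫ p) ((linPr C c ≫ a ≫ z ≫ p) * k) y (by
    rw [h2, ← h1, Category.assoc])
  refine ⟨zeroSec C c ≫ y', ?_⟩
  rw [← cancel_mono p, Category.assoc, Category.assoc, hy', MonObj.comp_mul, hk0, _root_.mul_one,
    ← Category.assoc (zeroSec C c), Dyn998.zeroSec_linPr, Category.id_comp]
  simp only [ha, w, Category.assoc]

end Groth.Agent.Sga3B.Parab.LimLift
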