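import Groth.Agent.Sga3B.Parab.PcU
import Groth.Agent.Sga3B.Parab.Func
import Groth.Agent.Sga3B.Parab.DynFib678
import Groth.Agent.Sga3B.Parab.NearIso
import Groth.Agent.Sga3B.CellDim

/-!
# `P = P_G(λ)` on a fibre implies `P = P_G(λ)` nearby
-/

set_option autoImplicit false
set_option linter.unusedSectionVars false

universe u

open CategoryTheory MonoidalCategory CartesianMonoidalCategory MonObj GrpObj Limits AlgebraicGeometry

namespace Groth.Agent.Sga3B.Parab

/-- (K2) over an algebraically closed field. -/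
def DynK2 : Prop :=
  ∀ (K : Type u) [Field K] [IsAlgClosed K] (G P : Over (Spec (CommRingCat.of K))) [GrpObj G]
    [GrpObj P] (p : P ⟶ G), Red.IsReductiveOver K G → Red.IsParabolicOver K p →
    ConnectedSpace P.left ∧ ∀ (T : Over (Spec (CommRingCat.of K))) [GrpObj T] (t : T ⟶ P),
      Red.IsMaximalTorus t → Red.IsMaximalTorus (t ≫ p) ∧
        ∃ mu : Red.Gm _ ⟶ T, IsMonHom mu ∧ IsDynP (mu ≫ t ≫ p) p

/-- (K8) over an algebraically closed field: maximal tori are their own centralizers. -/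
def DynK8 : Prop :=
  ∀ (K : Type u) [Field K] [IsAlgClosed K] (G T : Over (Spec (CommRingCat.of K))) [GrpObj G]
    [GrpObj T] (t : T ⟶ G), Red.IsReductiveOver K G → Red.IsMaximalTorus t →
    ∀ (X : Over (Spec (CommRingCat.of K))) (g : X ⟶ G),
      (∀ (X' : Over _) (x : X' ⟶ X) (y : X' ⟶ T), (x ≫ g) * (y ≫ t) = (y ≫ t) * (x ≫ g)) →
      ∃ y : X ⟶ T, g = y ≫ t

variable {S : Scheme.{u}} {G P : Over S} [GrpObj G] [GrpObj P]

lemma isIntegral_geomFibre (hP : Smooth P.hom) (s : S)
    (hc : ConnectedSpace (Red.geomFibre s P).left) : IsIntegral (Red.geomFibre s P).left := by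
  have h1 : Smooth (Red.geomFibre s P).hom :=
    inferInstanceAs (Smooth (pullback.snd P.hom (Red.geomPt s)))
  exact CellDim.isIntegral_of_connected_grp (Red.geomFibre s P)

/-- Parabolic subgroups have connected geometric fibres. -/
lemma connectedSpace_of_isParabolic (h2 : DynK2.{u}) (hG : Red.IsReductive G) {p : P ⟶ G}
    (hp : Red.IsParabolic p) (s : S) : ConnectedSpace (Red.geomFibre s P).left :=
  (h2 _ _ _ _ (hG.2.2 s) (hp.2.2.2 s)).1

/-- `P = P_G(λ)` on the geometric fibre over `s` implies `P = P_G(λ)` over a neighbourhood. -/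
theorem exists_open_isDynP (h1 : DynK1.{u}) (h2 : DynK2.{u}) (hG : Red.IsReductive G) {p : P ⟶ G}
    (hp : Red.IsParabolic p) (lam : Red.Gm S ⟶ P) [IsMonHom lam] (s : S)
    (h : IsDynP (bcLam (lam ≫ p) (Red.geomPt s)) ((Over.pullback (Red.geomPt s)).map p)) :
    ∃ U : S.Opens, s ∈ U ∧ ∀ (S₁ : Scheme.{u}) (w : S₁ ⟶ S), Set.range w ⊆ (U : Set S) →
      IsDynP (bcLam (lam ≫ p) w) ((Over.pullback w).map p) := by
  have hGa := hG.1
  have hGs := hG.2.1
  have hpm := hp.1
  have hpcl := hp.2.1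
  have hPs := hp.2.2.1
  have hPa : IsAffineHom P.hom := isAffineHom_of_closed p hpcl hGa
  have hpmono : Mono p := by
    have : Mono ((Over.forget S).map p) := inferInstanceAs (Mono p.left)
    exact (Over.forget S).mono_of_mono_map this
  obtain ⟨R, _, r, hr, hrcl⟩ := DynExist998.exists_isDynP lam
  obtain ⟨Q, _, q, hq, hqcl⟩ := DynExist998.exists_isDynP (lam ≫ p)
  have hrm := hr.isMonHom
  have hqm := hq.isMonHom
  have hrmono := hr.mono
  have hqmono := hq.mono
  have hRs : Smooth R.hom := hr.smooth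
  have hQs : Smooth Q.hom := hq.smooth
  -- `R ⊆ Q`
  obtain ⟨j, hj⟩ := (hq.iff_ptP R (r ≫ p)).2 (Func.ptP_map p hr.ptP)
  have hjcl : IsClosedImmersion j.left := by
    have h3 : IsClosedImmersion (j.left ≫ q.left) := by
      rw [← Over.comp_left, hj, Over.comp_left]
      infer_instance
    exact .of_comp j.left q.left
  -- over `s`
  let x := Red.geomPt s
  have hpx : IsClosedImmersion ((Over.pullback x).map p).left := Inter.isClosedImmersion_bc x p hpcl
  have hx : x (IsLocalRing.closedPoint _) = s := by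
    rw [Scheme.Hom.comp_apply]
    exact Scheme.fromSpecResidueField_apply _ _
  have hrx : IsIso ((Over.pullback x).map r) := by
    have h3 : IsDynP (bcLam lam x) (𝟙 (Red.bc x P)) := by
      rw [DynFib678.isDynP_id_iff]
      intro X g
      rw [bcLam_comp] at h
      exact ptP_of_isDynP _ h g
    exact (hr.bc x).isIso_iff.2 h3
  have hqx := hq.bc x
  obtain ⟨φ, -, hφ⟩ := h.exists_iso hqx
  have hjx : IsIso ((Over.pullback x).map j) := by
    have h3 : (Over.pullback x).map j = (Over.pullback x).map r ≫ φ.hom := by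
      have := hqx.mono
      rw [← cancel_mono ((Over.pullback x).map q), Category.assoc, hφ, ← Functor.map_comp,
        ← Functor.map_comp, hj]
    rw [h3]
    infer_instance
  -- neighbourhoods
  obtain ⟨U₁, hsU₁, hU₁⟩ := FibIsoSch.exists_open_isIso r η[R].left (Over.w η[R])
    (fun t => isIntegral_geomFibre hPs t (connectedSpace_of_isParabolic h2 hG hp t)) s _ x hx hrx
  have hQpar : Red.IsParabolic q := isParabolic_of_isDynP (lam ≫ p) h1 hG q hq
  have hQa : IsAffineHom Q.hom := isAffineHom_of_closed q hqcl hGa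
  obtain ⟨U₂, hsU₂, hU₂⟩ := FibIsoSch.exists_open_isIso j η[R].left (Over.w η[R])
    (fun t => isIntegral_geomFibre hQs t (connectedSpace_of_isParabolic h2 hG hQpar t)) s _ x hx
    hjx
  refine ⟨U₁ ⊓ U₂, ⟨hsU₁, hsU₂⟩, fun S₁ w hw => ?_⟩
  have hw1 : Set.range w ⊆ Set.range U₁.ι := by
    rw [Scheme.Opens.range_ι]
    exact hw.trans (inf_le_left (a := U₁) (b := U₂))
  have hw2 : Set.range w ⊆ Set.range U₂.ι := by
    rw [Scheme.Opens.range_ι]
    exact hw.trans (inf_le_right (a := U₁) (b := U₂))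
  have hrw : IsIso ((Over.pullback w).map r) := by
    have h3 := (FibIsoSch.isIso_map_comp_iff U₁.ι (IsOpenImmersion.lift U₁.ι w hw1) r).2
      inferInstance
    rwa [IsOpenImmersion.lift_fac] at h3
  have hjw : IsIso ((Over.pullback w).map j) := by
    have h3 := (FibIsoSch.isIso_map_comp_iff U₂.ι (IsOpenImmersion.lift U₂.ι w hw2) j).2
      inferInstance
    rwa [IsOpenImmersion.lift_fac] at h3
  let θ : Red.bc w Q ≅ Red.bc w P :=
    (asIso ((Over.pullback w).map j)).symm ≪≫ asIso ((Over.pullback w).map r)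
  have hθ : (Over.pullback w).map q ≫ (Iso.refl (Red.bc w G)).hom =
      θ.hom ≫ (Over.pullback w).map p := by
    rw [Iso.refl_hom, Category.comp_id]
    change _ = (inv ((Over.pullback w).map j) ≫ (Over.pullback w).map r) ≫ _
    rw [Category.assoc, IsIso.eq_inv_comp, ← Functor.map_comp, ← Functor.map_comp, hj]
  have hid : IsMonHom (Iso.refl (Red.bc w G)).hom := inferInstanceAs (IsMonHom (𝟙 (Red.bc w G)))
  have h4 := (hq.bc w).of_iso₂ (Iso.refl (Red.bc w G)) θ hθ
  rwa [Iso.refl_hom, Category.comp_id] at h4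

end Groth.Agent.Sga3B.Parab
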