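import Groth.Agent.Sga3B.Parab.RedCover147
import Groth.Agent.Sga3B.Parab.Semi
import Groth.Agent.Sga3B.Parab.FibIsoSch
import Groth.Agent.Sga3B.RedIso
import Groth.Agent.Sga3B.AlgBc
import Groth.Agent.Localalg.GrpSchPts
import Groth.Agent.Sga3B.BcPts
import Groth.Prelude.Def_Par

/-!
# Levi subgroups from an open cell

`P`, `Q` subgroups of `G`, `U` a normal subgroup of `P` with a complement `Z` (étale locally on
`S`) whose geometric fibres are connected, and `L = P ∩ Q`.  If `U ×_S Q ⟶ G` is an open immersion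
then `L ×_S U ⟶ P` is an isomorphism and `L ≅ Z`.
-/

set_option autoImplicit false
set_option linter.unusedSectionVars false

universe u

open CategoryTheory MonoidalCategory CartesianMonoidalCategory MonObj GrpObj Limits AlgebraicGeometry

namespace Groth.Agent.Sga3B.Parab.OpenLevi809

open Groth.Agent.Sga3B Groth.Agent.Localalg

section Square

variable {S : Scheme.{u}} {G P Q U L Z : Over S} [GrpObj G] [GrpObj P] [GrpObj Q] [GrpObj L]
  [GrpObj U] [GrpObj Z]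

lemma comp_mul_tensor {X Z U P : Over S} [GrpObj P] (z : Z ⟶ P) (u : U ⟶ P) (x : X ⟶ Z ⊗ U) :
    x ≫ (z ⊗ₘ u) ≫ μ[P] = (x ≫ fst _ _ ≫ z) * (x ≫ snd _ _ ≫ u) := by
  rw [mul_eq_mul, MonObj.comp_mul, MonObj.comp_mul, tensorHom_fst, tensorHom_snd]

/-- The square with sides `U × L ⟶ P`, `U × L ⟶ U × Q`, `U × Q ⟶ G` and `P ⟶ G` is cartesian. -/
theorem isPullback_mul (p : P ⟶ G) (q : Q ⟶ G) [IsMonHom p] [IsMonHom q] (u : U ⟶ P)
    (l : L ⟶ P) (m : L ⟶ Q) (hL : IsPullback l m p q) :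
    IsPullback ((u ⊗ₘ l) ≫ μ[P]) (𝟙 U ⊗ₘ m) p (((u ≫ p) ⊗ₘ q) ≫ μ[G]) := by
  have hw : ((u ⊗ₘ l) ≫ μ[P]) ≫ p = (𝟙 U ⊗ₘ m) ≫ ((u ≫ p) ⊗ₘ q) ≫ μ[G] := by
    rw [Category.assoc, IsMonHom.mul_hom, tensorHom_comp_tensorHom_assoc,
      tensorHom_comp_tensorHom_assoc, hL.w, Category.id_comp]
  refine ⟨⟨hw⟩, ⟨PullbackCone.IsLimit.mk _ (fun s => lift (s.snd ≫ fst _ _)
    (hL.lift ((s.snd ≫ fst _ _ ≫ u)⁻¹ * s.fst) (s.snd ≫ snd _ _) ?_)) ?_ ?_ ?_⟩⟩
  · have h1 := s.condition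
    rw [comp_mul_tensor] at h1
    rw [MonObj.mul_comp, h1, GrpObj.inv_comp]
    simp only [Category.assoc]
    rw [inv_mul_cancel_left]
  · intro s
    have h1 : lift (s.snd ≫ fst _ _) (hL.lift ((s.snd ≫ fst _ _ ≫ u)⁻¹ * s.fst) (s.snd ≫ snd _ _) (by
        have h1 := s.condition
        rw [comp_mul_tensor] at h1
        rw [MonObj.mul_comp, h1, GrpObj.inv_comp]
        simp only [Category.assoc]
        rw [inv_mul_cancel_left])) ≫ (u ⊗ₘ l) ≫ μ[P] = s.fst := by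
      rw [comp_mul_tensor, lift_fst_assoc, lift_snd_assoc, hL.lift_fst, Category.assoc,
        mul_inv_cancel_left]
    exact h1
  · intro s
    rw [lift_map, hL.lift_snd, Category.comp_id]
    exact (CartesianMonoidalCategory.hom_ext _ _ (by simp) (by simp))
  · intro s t ht1 ht2
    have h3 : t ≫ fst _ _ = s.snd ≫ fst _ _ := by
      rw [← ht2, Category.assoc, tensorHom_fst, Category.comp_id]
    apply CartesianMonoidalCategory.hom_ext
    · rw [lift_fst, h3]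
    · rw [lift_snd]
      apply hL.hom_ext
      · rw [hL.lift_fst, ← ht1, comp_mul_tensor, ← reassoc_of% h3, inv_mul_cancel_left]
        simp
      · rw [hL.lift_snd, ← ht2, Category.assoc, Category.assoc, tensorHom_snd]

theorem isOpenImmersion_mul (p : P ⟶ G) (q : Q ⟶ G) [IsMonHom p] [IsMonHom q] (u : U ⟶ P)
    (l : L ⟶ P) (m : L ⟶ Q) (hL : IsPullback l m p q)
    (h : IsOpenImmersion (((u ≫ p) ⊗ₘ q) ≫ μ[G]).left) :
    IsOpenImmersion ((u ⊗ₘ l) ≫ μ[P]).left := by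
  have h1 := (isPullback_mul p q u l m hL).map (Over.forget S)
  exact MorphismProperty.of_isPullback (P := @IsOpenImmersion) h1.flip h

/-- The square with sides `U × L ⟶ P`, `U × L ⟶ L`, `L ⟶ Z` and the projection `P = Z ⋉ U ⟶ Z`
is cartesian. -/
theorem isPullback_pr (u : U ⟶ P) (z : Z ⟶ P) [IsMonHom u] [IsMonHom z] (hn : AlgGrp.IsNormalHom u)
    [IsIso ((z ⊗ₘ u) ≫ μ[P])] (l : L ⟶ P) :
    IsPullback ((u ⊗ₘ l) ≫ μ[P]) (snd U L) (Semi.pr z u) (l ≫ Semi.pr z u) := by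
  have hpr := Semi.isMonHom_pr z u hn
  have hum : Mono u := by
    refine ⟨fun a b hab => ?_⟩
    have := congrArg (fun t => t ≫ Semi.qr z u) hab
    simpa [Category.assoc, Semi.u_qr] using this
  have hw : ((u ⊗ₘ l) ≫ μ[P]) ≫ Semi.pr z u = snd U L ≫ l ≫ Semi.pr z u := by
    have h1 := comp_mul_tensor u l (𝟙 (U ⊗ L))
    rw [Category.id_comp, Category.id_comp, Category.id_comp] at h1
    rw [h1, MonObj.mul_comp, Category.assoc, Semi.u_pr, MonObj.comp_one, _root_.one_mul,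
      Category.assoc]
  have key : ∀ {X : Over S} (c : X ⟶ P) (b : X ⟶ L), c ≫ Semi.pr z u = b ≫ l ≫ Semi.pr z u →
      ((c * (b ≫ l)⁻¹) ≫ Semi.qr z u) ≫ u = c * (b ≫ l)⁻¹ := by
    intro X c b h
    refine (Semi.exists_of_pr_eq_one z u _ ?_).symm
    rw [MonObj.mul_comp, GrpObj.inv_comp, h, Category.assoc, mul_inv_cancel]
  refine ⟨⟨hw⟩, ⟨PullbackCone.IsLimit.mk _ (fun s =>
    lift ((s.fst * (s.snd ≫ l)⁻¹) ≫ Semi.qr z u) s.snd) ?_ ?_ ?_⟩⟩
  · intro s
    rw [comp_mul_tensor, lift_fst_assoc, lift_snd_assoc, key _ _ s.condition,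
      inv_mul_cancel_right]
  · intro s
    rw [lift_snd]
  · intro s t ht1 ht2
    apply CartesianMonoidalCategory.hom_ext
    · rw [lift_fst, ← cancel_mono u, key _ _ s.condition, ← ht1, ← ht2, comp_mul_tensor]
      simp
    · rw [lift_snd, ht2]

end Square

section Bc

variable {S S' : Scheme.{u}} {P U L : Over S} [GrpObj P] [GrpObj U] [GrpObj L]

/-- Base change of `(a, b) ↦ u(a) l(b)`. -/
lemma map_mul_comp (f : S' ⟶ S) (u : U ⟶ P) (l : L ⟶ P) :
    ((Over.pullback f).map u ⊗ₘ (Over.pullback f).map l) ≫ μ[Red.bc f P] =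
      Functor.LaxMonoidal.μ (Over.pullback f) U L ≫ (Over.pullback f).map ((u ⊗ₘ l) ≫ μ[P]) := by
  rw [Functor.map_comp, ← Functor.LaxMonoidal.μ_natural_assoc]
  rfl

lemma isIso_map_mul_iff (f : S' ⟶ S) (u : U ⟶ P) (l : L ⟶ P) :
    IsIso (((Over.pullback f).map u ⊗ₘ (Over.pullback f).map l) ≫ μ[Red.bc f P]) ↔
      IsIso ((Over.pullback f).map ((u ⊗ₘ l) ≫ μ[P])) := by
  rw [map_mul_comp]
  exact ⟨fun h => IsIso.of_isIso_comp_left (Functor.LaxMonoidal.μ (Over.pullback f) U L) _,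
    fun h => inferInstance⟩

end Bc

section Main

variable {S : Scheme.{u}} {G P Q U L Z : Over S} [GrpObj G] [GrpObj P] [GrpObj Q] [GrpObj L]
  [GrpObj U] [GrpObj Z]

/-- A homomorphism which is an open immersion is surjective if the geometric fibres of the target
are connected. -/
theorem surjective_of_open (h : L ⟶ Z) [IsMonHom h] (ho : IsOpenImmersion h.left)
    (hZ : ∀ s : S, ConnectedSpace (Red.geomFibre s Z).left) : Function.Surjective h.left := by
  intro y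
  let s : S := Z.hom y
  let x := Red.geomPt s
  have hx : x (IsLocalRing.closedPoint (AlgebraicClosure (S.residueField s))) = s := by
    rw [Scheme.Hom.comp_apply]
    exact Scheme.fromSpecResidueField_apply _ _
  obtain ⟨y', hy', -⟩ := Scheme.Pullback.exists_preimage_pullback y
    (IsLocalRing.closedPoint (AlgebraicClosure (S.residueField s))) (f := Z.hom) (g := x) hx.symm
  have hop : IsOpenImmersion ((Over.pullback x).map h).left :=
    MorphismProperty.of_isPullback (FibIsoSch.isPullback_map_left x h) ho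
  have h1 : IsOpen (Set.range ((Over.pullback x).map h).left) :=
    ((Over.pullback x).map h).left.isOpenEmbedding.isOpen_range
  have h2 := GrpSchPts.isSubgroupSet_range (G := Red.bc x Z) (H := Red.bc x L) ((Over.pullback x).map h)
  have h3 := h2.isClosed_of_isOpen h1
  have hZs : ConnectedSpace ((Over.pullback x).obj Z).left := hZ s
  have h4 : Set.range ((Over.pullback x).map h).left = Set.univ := by
    refine IsClopen.eq_univ ⟨h3, h1⟩ ?_
    exact ⟨_, (η[Red.bc x L]).left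
      (IsLocalRing.closedPoint (AlgebraicClosure (S.residueField s))), rfl⟩
  obtain ⟨w, hw⟩ : y' ∈ Set.range ((Over.pullback x).map h).left := h4 ▸ Set.mem_univ _
  refine ⟨pullback.fst L.hom x w, ?_⟩
  rw [← Scheme.Hom.comp_apply, (FibIsoSch.isPullback_map_left x h).w, Scheme.Hom.comp_apply, hw, hy']

/-- If `U` has a complement `Z` in `P` with connected geometric fibres and `U ×_S L ⟶ P` is an open
immersion, then `L` is a complement too and `L ≅ Z`. -/
theorem isIso_comp_pr (u : U ⟶ P) (z : Z ⟶ P) (l : L ⟶ P) [IsMonHom u] [IsMonHom z] [IsMonHom l]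
    (hn : AlgGrp.IsNormalHom u) [IsIso ((z ⊗ₘ u) ≫ μ[P])] [Smooth U.hom]
    (hZ : ∀ s : S, ConnectedSpace (Red.geomFibre s Z).left)
    (h : IsOpenImmersion ((u ⊗ₘ l) ≫ μ[P]).left) : IsIso (l ≫ Semi.pr z u) := by
  have hpr := Semi.isMonHom_pr z u hn
  have hflat : Flat (Semi.pr z u).left := by
    change Flat ((inv ((z ⊗ₘ u) ≫ μ[P])).left ≫ pullback.fst Z.hom U.hom)
    have : IsIso (inv ((z ⊗ₘ u) ≫ μ[P])).left :=
      inferInstanceAs (IsIso ((Over.forget S).map (inv ((z ⊗ₘ u) ≫ μ[P]))))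
    infer_instance
  have hlfp : LocallyOfFinitePresentation (Semi.pr z u).left := by
    change LocallyOfFinitePresentation ((inv ((z ⊗ₘ u) ≫ μ[P])).left ≫ pullback.fst Z.hom U.hom)
    have : IsIso (inv ((z ⊗ₘ u) ≫ μ[P])).left :=
      inferInstanceAs (IsIso ((Over.forget S).map (inv ((z ⊗ₘ u) ≫ μ[P]))))
    infer_instance
  have hsurj : Surjective (Semi.pr z u).left := by
    refine ⟨fun y => ⟨z.left y, ?_⟩⟩
    rw [← Scheme.Hom.comp_apply]
    have : z.left ≫ (Semi.pr z u).left = 𝟙 _ := congrArg CommaMorphism.left (Semi.l_pr z u)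
    rw [this]
    rfl
  have hsq := (isPullback_pr u z hn l).map (Over.forget S)
  have ho : IsOpenImmersion (l ≫ Semi.pr z u).left :=
    MorphismProperty.of_isPullback_of_descendsAlong (P := @IsOpenImmersion)
      (Q := @Surjective ⊓ @Flat ⊓ @LocallyOfFinitePresentation) hsq ⟨⟨hsurj, hflat⟩, hlfp⟩ h
  have h1 : Surjective (l ≫ Semi.pr z u).left := ⟨surjective_of_open _ ho hZ⟩
  have h2 : IsIso (l ≫ Semi.pr z u).left := by
    apply (isIso_iff_isOpenImmersion_and_surjective _).2 ⟨ho, h1⟩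
  have h3 : IsIso ((Over.forget S).map (l ≫ Semi.pr z u)) := h2
  exact isIso_of_reflects_iso _ (Over.forget S)

/-- `(a, b) ↦ l(a) u(b)` is an isomorphism if `(a, b) ↦ u(a) l(b)` is one. -/
theorem isIso_mul_swap (u : U ⟶ P) (l : L ⟶ P) [IsMonHom u] [IsMonHom l]
    (h : IsIso ((u ⊗ₘ l) ≫ μ[P])) : IsIso ((l ⊗ₘ u) ≫ μ[P]) := by
  let σ : L ⊗ U ⟶ U ⊗ L := lift (snd L U ≫ ι[U]) (fst L U ≫ ι[L])
  let τ : U ⊗ L ⟶ L ⊗ U := lift (snd U L ≫ ι[L]) (fst U L ≫ ι[U])
  have h1 : σ ≫ τ = 𝟙 _ := by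
    apply CartesianMonoidalCategory.hom_ext
    · simp [σ, τ]
    · simp [σ, τ]
  have h2 : τ ≫ σ = 𝟙 _ := by
    apply CartesianMonoidalCategory.hom_ext
    · simp [σ, τ]
    · simp [σ, τ]
  have h3 : IsIso σ := ⟨τ, h1, h2⟩
  have h4 : IsIso (ι[P]) := ⟨ι[P], by simp, by simp⟩
  have h5 : (l ⊗ₘ u) ≫ μ[P] = σ ≫ ((u ⊗ₘ l) ≫ μ[P]) ≫ ι[P] := by
    have e1 := comp_mul_tensor l u (𝟙 (L ⊗ U))
    have e2 := comp_mul_tensor u l σ
    rw [Category.id_comp, Category.id_comp, Category.id_comp] at e1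
    rw [← Category.assoc, e2, e1, ← Hom.inv_def, _root_.mul_inv_rev]
    have e3 : (σ ≫ snd U L ≫ l)⁻¹ = fst L U ≫ l := by
      have : σ ≫ snd U L ≫ l = (fst L U ≫ l)⁻¹ := by
        rw [← Category.assoc, lift_snd, ← Hom.inv_def, GrpObj.inv_comp]
      rw [this, _root_.inv_inv]
    have e4 : (σ ≫ fst U L ≫ u)⁻¹ = snd L U ≫ u := by
      have : σ ≫ fst U L ≫ u = (snd L U ≫ u)⁻¹ := by
        rw [← Category.assoc, lift_fst, ← Hom.inv_def, GrpObj.inv_comp]
      rw [this, _root_.inv_inv]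
    rw [e3, e4]
  rw [h5]
  infer_instance

/-- The two complements `L`, `Z` of `U` in `P` are isomorphic. -/
theorem grpIso_of_open (u : U ⟶ P) (z : Z ⟶ P) (l : L ⟶ P) [IsMonHom u] [IsMonHom z] [IsMonHom l]
    (hn : AlgGrp.IsNormalHom u) [IsIso ((z ⊗ₘ u) ≫ μ[P])] [Smooth U.hom]
    (hZ : ∀ s : S, ConnectedSpace (Red.geomFibre s Z).left)
    (h : IsOpenImmersion ((u ⊗ₘ l) ≫ μ[P]).left) :
    IsIso ((l ⊗ₘ u) ≫ μ[P]) ∧ Nonempty (Grp.mk L ≅ Grp.mk Z) := by
  have h1 := isIso_comp_pr u z l hn hZ h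
  have hpr := Semi.isMonHom_pr z u hn
  refine ⟨isIso_mul_swap u l (isPullback_pr u z hn l).isIso_fst_of_isIso, ⟨?_⟩⟩
  have : IsMonHom (asIso (l ≫ Semi.pr z u)).hom := inferInstanceAs (IsMonHom (l ≫ Semi.pr z u))
  exact Grp.mkIso' (asIso (l ≫ Semi.pr z u))

end Main

section Cover

variable {S : Scheme.{u}} {G P Q U L : Over S} [GrpObj G] [GrpObj P] [GrpObj Q] [GrpObj L]
  [GrpObj U]

/-- `f : S' ⟶ S` is such that `U` has a reductive complement in `P` over `S'`. -/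
def HasCompl (uU : U ⟶ P) (S' : Scheme.{u}) (f : S' ⟶ S) : Prop :=
  ∃ (Z : Over S') (_ : GrpObj Z) (z : Z ⟶ Red.bc f P), IsMonHom z ∧ Red.IsReductive Z ∧
    IsIso ((z ⊗ₘ (Over.pullback f).map uU) ≫ μ[Red.bc f P])

/-- **A complement from an open cell.** -/
theorem isIso_of_isOpenImmersion (p : P ⟶ G) (q : Q ⟶ G) [IsMonHom p] [IsMonHom q]
    (uU : U ⟶ P) [IsMonHom uU] (hn : AlgGrp.IsNormalHom uU) [Smooth U.hom] (l : L ⟶ P) (m : L ⟶ Q)
    [IsMonHom l] (hL : IsPullback l m p q)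
    (hcov : ∃ (J : Type u) (S' : J → Scheme.{u}) (f : ∀ i, S' i ⟶ S), RedCover147.IsEtCov f ∧
      ∀ i, HasCompl uU (S' i) (f i))
    (h : IsOpenImmersion (((uU ≫ p) ⊗ₘ q) ≫ μ[G]).left) :
    IsIso ((l ⊗ₘ uU) ≫ μ[P]) ∧ Red.IsReductive L := by
  obtain ⟨J, S', f, hf, hc⟩ := hcov
  have hop := isOpenImmersion_mul p q uU l m hL h
  have key : ∀ i, IsIso (((Over.pullback (f i)).map l ⊗ₘ (Over.pullback (f i)).map uU) ≫
      μ[Red.bc (f i) P]) ∧ Red.IsReductive (Red.bc (f i) L) := by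
    intro i
    obtain ⟨Z, _, z, hz1, hz2, hz3⟩ := hc i
    have hop' : IsOpenImmersion ((Over.pullback (f i)).map ((uU ⊗ₘ l) ≫ μ[P])).left :=
      MorphismProperty.of_isPullback (FibIsoSch.isPullback_map_left (f i) _) hop
    have hop'' : IsOpenImmersion (((Over.pullback (f i)).map uU ⊗ₘ (Over.pullback (f i)).map l) ≫
        μ[Red.bc (f i) P]).left := by
      rw [map_mul_comp]
      have : IsIso (Functor.LaxMonoidal.μ (Over.pullback (f i)) U L).left :=
        inferInstanceAs (IsIso ((Over.forget _).map (Functor.LaxMonoidal.μ (Over.pullback (f i)) U L)))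
      exact inferInstanceAs (IsOpenImmersion ((Functor.LaxMonoidal.μ (Over.pullback (f i)) U L).left ≫
        ((Over.pullback (f i)).map ((uU ⊗ₘ l) ≫ μ[P])).left))
    have hsm : Smooth (Red.bc (f i) U).hom :=
      inferInstanceAs (Smooth (pullback.snd U.hom (f i)))
    obtain ⟨h1, ⟨e⟩⟩ := grpIso_of_open ((Over.pullback (f i)).map uU) z ((Over.pullback (f i)).map l)
      (GeomBC147.isNormalHom_bc (f i) hn) (fun s => (hz2.2.2 s).2.2.1) hop''
    exact ⟨h1, AlgBc.isReductive_of_iso e.symm hz2⟩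
  exact ⟨RedCover147.isIso_of_cover hf fun i => (isIso_map_mul_iff (f i) l uU).1 (key i).1,
    RedCover147.isReductive_of_cover hf fun i => (key i).2⟩

/-- **A Levi subgroup from an open cell.** -/
theorem isLevi_of_isOpenImmersion (p : P ⟶ G) (q : Q ⟶ G) (hp : Red.IsParabolic p)
    (hq : Red.IsParabolic q) (uU : U ⟶ P) (hU : Par.IsUnipotentRadical uU) (l : L ⟶ P) (m : L ⟶ Q)
    [IsMonHom l] (hL : IsPullback l m p q)
    (hcov : ∃ (J : Type u) (S' : J → Scheme.{u}) (f : ∀ i, S' i ⟶ S), RedCover147.IsEtCov f ∧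
      ∀ i, HasCompl uU (S' i) (f i))
    (h : IsOpenImmersion (((uU ≫ p) ⊗ₘ q) ≫ μ[G]).left) :
    IsIso ((l ⊗ₘ uU) ≫ μ[P]) ∧ Par.IsLevi l := by
  have hpm := hp.1
  have hqm := hq.1
  have hum := hU.1
  have husm := hU.2.2.2.1
  obtain ⟨h1, h2⟩ := isIso_of_isOpenImmersion p q uU hU.2.2.1 l m hL hcov h
  have hqc := hq.2.1
  have hqmono : Mono q := Over.mono_of_mono_left q
  have hlmono : Mono l := by
    refine ⟨fun a b hab => hL.hom_ext hab ?_⟩
    rw [← cancel_mono q, Category.assoc, Category.assoc, ← hL.w, ← Category.assoc, ← Category.assoc,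
      hab]
  exact ⟨h1, inferInstance, hlmono, h2, U, inferInstance, uU, hU, h1⟩

end Cover

end Groth.Agent.Sga3B.Parab.OpenLevi809
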