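import Groth.Agent.Sga3B.Parab.Semi
import Groth.Agent.Sga3B.Parab.Inter
import Groth.Agent.Sga3B.Parab.RedCover147
import Groth.Agent.Localalg.GrpSchPts

/-!
# Opposite parabolic subgroups: open cells and Levi subgroups, formal part
-/

set_option autoImplicit false
set_option linter.unusedSectionVars false

universe u

open CategoryTheory MonoidalCategory CartesianMonoidalCategory MonObj GrpObj Limits AlgebraicGeometry

namespace Groth.Agent.Sga3B.Parab.OppB151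

open Groth.Agent.Sga3B

variable {S : Scheme.{u}}

/-- Base change of a product map. -/
lemma map_mul_comp {S' : Scheme.{u}} (f : S' ⟶ S) {A B H : Over S} [GrpObj H] (a : A ⟶ H)
    (b : B ⟶ H) : ((Over.pullback f).map a ⊗ₘ (Over.pullback f).map b) ≫ μ[Red.bc f H] =
      Functor.LaxMonoidal.μ (Over.pullback f) A B ≫ (Over.pullback f).map ((a ⊗ₘ b) ≫ μ[H]) := by
  rw [Functor.map_comp, Functor.obj.μ_def, Functor.LaxMonoidal.μ_natural_assoc]

lemma isIso_map_mul_iff {S' : Scheme.{u}} (f : S' ⟶ S) {A B H : Over S} [GrpObj H] (a : A ⟶ H)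
    (b : B ⟶ H) : IsIso (((Over.pullback f).map a ⊗ₘ (Over.pullback f).map b) ≫ μ[Red.bc f H]) ↔
      IsIso ((Over.pullback f).map ((a ⊗ₘ b) ≫ μ[H])) := by
  rw [map_mul_comp]
  exact isIso_comp_left_iff _ _

lemma isOpenImmersion_map_mul_iff {S' : Scheme.{u}} (f : S' ⟶ S) {A B H : Over S} [GrpObj H]
    (a : A ⟶ H) (b : B ⟶ H) :
    IsOpenImmersion (((Over.pullback f).map a ⊗ₘ (Over.pullback f).map b) ≫ μ[Red.bc f H]).left ↔
      IsOpenImmersion ((Over.pullback f).map ((a ⊗ₘ b) ≫ μ[H])).left := by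
  rw [map_mul_comp, Over.comp_left]
  have : IsIso (Functor.LaxMonoidal.μ (Over.pullback f) A B).left :=
    (Over.forget S').map_isIso _
  exact MorphismProperty.cancel_left_of_respectsIso @IsOpenImmersion _ _

section Points

variable {P L U : Over S} [GrpObj P] [GrpObj L] [GrpObj U] (l : L ⟶ P) (u : U ⟶ P)

/-- If every point of `P` is uniquely a product `u l` then it is uniquely a product `l u`. -/
lemma isIso_swap [IsMonHom l] [IsMonHom u] (h : IsIso ((u ⊗ₘ l) ≫ μ[P])) :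
    IsIso ((l ⊗ₘ u) ≫ μ[P]) := by
  let φ : L ⊗ U ⟶ U ⊗ L := lift (snd L U ≫ ι[U]) (fst L U ≫ ι[L])
  let ψ : U ⊗ L ⟶ L ⊗ U := lift (snd U L ≫ ι[L]) (fst U L ≫ ι[U])
  have hφ : IsIso φ := ⟨ψ, by ext1 <;> simp [φ, ψ], by ext1 <;> simp [φ, ψ]⟩
  have h2 : (l ⊗ₘ u) ≫ μ[P] = (φ ≫ (u ⊗ₘ l) ≫ μ[P]) ≫ ι[P] := by
    have h3 : φ ≫ (u ⊗ₘ l) ≫ μ[P] = (snd L U ≫ u)⁻¹ * (fst L U ≫ l)⁻¹ := by
      rw [Semi.lift_comp_mul, Category.assoc, Category.assoc, GrpObj.inv_hom, GrpObj.inv_hom,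
        ← Category.assoc, ← Category.assoc, ← Hom.inv_def, ← Hom.inv_def]
    rw [h3, ← Hom.inv_def, _root_.mul_inv_rev, _root_.inv_inv, _root_.inv_inv, mul_eq_mul, MonObj.comp_mul,
      tensorHom_fst, tensorHom_snd]
  rw [h2]
  infer_instance

end Points

end Groth.Agent.Sga3B.Parab.OppB151
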