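import Groth.Agent.Sga3B.Parab.Rep998
import Groth.Agent.Sga3B.RG.ConjGrade

/-!
# Orbits of points of `G` under a diagonalizable group: the affine dictionary

`J : D_S(M) ⟶ G` a homomorphism, `T` a submonoid of `M`.  A point `g ∈ G(C)` satisfies `QT J T` if
the orbit map `D(M)_C ⟶ G`, `t ↦ J(t) g J(t)⁻¹` extends to `Spec C[T]`.  In a chart this means that
`g` kills the homogeneous elements of degree outside `T`.
-/

set_option autoImplicit false
set_option linter.unusedSectionVars false

universe u

open CategoryTheory MonoidalCategory CartesianMonoidalCategory MonObj GrpObj AlgebraicGeometry Limits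
open scoped LaurentPolynomial Polynomial TensorProduct
open WithConv
open Groth.Agent.Books.AffBridge Groth.Agent.Books.DynBasic Groth.Agent.Books.DynLim
open Groth.Agent.Sga3B.Parab.Chart998 Groth.Agent.Sga3B.RG

namespace Groth.Agent.Sga3B.Parab.OrbM156

variable {S : Scheme.{u}}

section Test

variable (N : Type) [CommMonoid N] (C : Type u) [CommRing C] (c : Spec (CommRingCat.of C) ⟶ S)

/-- `Spec C[N]` over `S`. -/
noncomputable abbrev mon : Over S :=
  Over.mk (Spec.map (CommRingCat.ofHom (algebraMap C (MonoidAlgebra C N))) ≫ c)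

/-- The projection `Spec C[N] ⟶ Spec C`. -/
noncomputable def mPr : mon N C c ⟶ aff C c :=
  Over.homMk (Spec.map (CommRingCat.ofHom (algebraMap C (MonoidAlgebra C N)))) rfl

variable {M : Type} [AddCommGroup M] (T : Submonoid (Multiplicative M))

/-- The inclusion `C[T] → C[M]`. -/
noncomputable def incl (R : Type u) [CommRing R] (C : Type u) [CommRing C] [Algebra R C]
    (T : Submonoid (Multiplicative M)) : MonoidAlgebra C T →ₐ[R] MonoidAlgebra C (Multiplicative M) :=
  (MonoidAlgebra.mapDomainAlgHom C C T.subtype).restrictScalars R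

/-- The morphism `Spec C[M] ⟶ Spec C[T]`. -/
noncomputable def toT : mon (Multiplicative M) C c ⟶ mon T C c :=
  Over.homMk (Spec.map (CommRingCat.ofHom (incl C C T).toRingHom)) (by
    change Spec.map _ ≫ Spec.map _ ≫ c = Spec.map _ ≫ c
    rw [← Category.assoc, ← Spec.map_comp, ← CommRingCat.ofHom_comp]
    congr 3
    exact (incl C C T).comp_algebraMap)

@[reassoc]
lemma toT_mPr : toT C c T ≫ mPr T C c = mPr (Multiplicative M) C c := by
  ext1
  change Spec.map _ ≫ Spec.map _ = Spec.map _
  rw [← Spec.map_comp, ← CommRingCat.ofHom_comp]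
  congr 2
  exact (incl C C T).comp_algebraMap

/-- The tautological character of `M` with values in the functions on `Spec C[M]`. -/
noncomputable def mChar : Multiplicative M →* Γ((mon (Multiplicative M) C c).left, ⊤) :=
  ((Scheme.ΓSpecIso (CommRingCat.of (MonoidAlgebra C (Multiplicative M)))).inv.hom.toMonoidHom).comp
    (MonoidAlgebra.of C (Multiplicative M))

/-- The tautological point of `D_S(M)` over `Spec C[M]`. -/
noncomputable def mPt : mon (Multiplicative M) C c ⟶ Red.DS S M :=
  DSPts.dsEquiv (mon (Multiplicative M) C c) M (mChar C c)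

end Test

section Orbit

variable {G : Over S} [GrpObj G] {M : Type} [AddCommGroup M] (J : Red.DS S M ⟶ G)
variable {C : Type u} [CommRing C] {c : Spec (CommRingCat.of C) ⟶ S}

/-- The conjugated orbit `J(t) g J(t)⁻¹`. -/
noncomputable def orbM (g : aff C c ⟶ G) : mon (Multiplicative M) C c ⟶ G :=
  (mPt C c ≫ J) * (mPr (Multiplicative M) C c ≫ g) * (mPt C c ≫ J)⁻¹

lemma orbM_one : orbM J (1 : aff C c ⟶ G) = 1 := by
  rw [orbM, MonObj.comp_one, _root_.mul_one, mul_inv_cancel]

lemma orbM_mul (g h : aff C c ⟶ G) : orbM J (g * h) = orbM J g * orbM J h := by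
  simp only [orbM, MonObj.comp_mul]
  group

lemma orbM_inv (g : aff C c ⟶ G) : orbM J g⁻¹ = (orbM J g)⁻¹ := by
  simp only [orbM, GrpObj.comp_inv]
  group

variable (C c)

/-- The orbit of `g` extends to `Spec C[T]`. -/
def QT (T : Submonoid (Multiplicative M)) (g : aff C c ⟶ G) : Prop :=
  ∃ h : mon T C c ⟶ G, toT C c T ≫ h = orbM J g

lemma qt_one (T : Submonoid (Multiplicative M)) : QT J C c T 1 :=
  ⟨1, by rw [orbM_one, MonObj.comp_one]⟩

variable {C c}

lemma QT.mul {T : Submonoid (Multiplicative M)} {g h : aff C c ⟶ G} (hg : QT J C c T g)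
    (hh : QT J C c T h) : QT J C c T (g * h) := by
  obtain ⟨g', hg'⟩ := hg
  obtain ⟨h', hh'⟩ := hh
  exact ⟨g' * h', by rw [orbM_mul, MonObj.comp_mul, hg', hh']⟩

lemma QT.inv {T : Submonoid (Multiplicative M)} {g : aff C c ⟶ G} (hg : QT J C c T g) :
    QT J C c T g⁻¹ := by
  obtain ⟨g', hg'⟩ := hg
  exact ⟨g'⁻¹, by rw [orbM_inv, GrpObj.comp_inv, hg']⟩

end Orbit

section Chart

variable {G : Over S} [GrpObj G] {M : Type} [AddCommGroup M] (J : Red.DS S M ⟶ G)
variable {R : Type u} [CommRing R] {r : Spec (CommRingCat.of R) ⟶ S}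
variable {A : Type u} [CommRing A] [HopfAlgebra R A] (e : Red.bc r G ≅ SpecOver R A) [IsMonHom e.hom]

section
variable {C : Type u} [CommRing C] [Algebra R C] {c : Spec (CommRingCat.of C) ⟶ S}
variable (hc : Spec.map (CommRingCat.ofHom (algebraMap R C)) ≫ r = c)
include hc in
lemma hcN (N : Type) [CommMonoid N] : Spec.map (CommRingCat.ofHom (algebraMap R (MonoidAlgebra C N))) ≫ r =
    Spec.map (CommRingCat.ofHom (algebraMap C (MonoidAlgebra C N))) ≫ c := by
  rw [← hc, ← Category.assoc, ← Spec.map_comp, ← CommRingCat.ofHom_comp]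

variable (c) in
/-- the character with values in the functions on `Spec C` attached to a character in `C` -/
noncomputable def secCharM (χ : Multiplicative M →* C) : Multiplicative M →* Γ((aff C c).left, ⊤) :=
  ((Scheme.ΓSpecIso (CommRingCat.of C)).inv.hom.toMonoidHom).comp χ

lemma secCharM_mul (χ χ' : Multiplicative M →* C) :
    secCharM c (χ * χ') = secCharM c χ * secCharM c χ' := by
  refine MonoidHom.ext fun n => ?_
  exact map_mul (Scheme.ΓSpecIso (CommRingCat.of C)).inv.hom _ _

lemma secCharM_one : secCharM c (1 : Multiplicative M →* C) = 1 := by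
  refine MonoidHom.ext fun n => ?_
  exact map_one (Scheme.ΓSpecIso (CommRingCat.of C)).inv.hom

lemma exists_secCharM (χ : Multiplicative M →* Γ((aff C c).left, ⊤)) :
    ∃ χ' : Multiplicative M →* C, secCharM c χ' = χ := by
  refine ⟨((Scheme.ΓSpecIso (CommRingCat.of C)).hom.hom.toMonoidHom).comp χ, ?_⟩
  refine MonoidHom.ext fun n => ?_
  change (Scheme.ΓSpecIso (CommRingCat.of C)).inv.hom ((Scheme.ΓSpecIso (CommRingCat.of C)).hom.hom (χ n)) = χ n
  rw [← CommRingCat.comp_apply, Iso.hom_inv_id]
  rfl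

end

lemma comp_mPt {C C' : Type u} [CommRing C] [CommRing C']
    {c : Spec (CommRingCat.of C) ⟶ S} {c' : Spec (CommRingCat.of C') ⟶ S}
    (x : aff C' c' ⟶ mon (Multiplicative M) C c) (ψ : MonoidAlgebra C (Multiplicative M) →+* C')
    (hx : x.left = Spec.map (CommRingCat.ofHom ψ)) (χ : Multiplicative M →* C')
    (hχ : ∀ n, ψ (MonoidAlgebra.single n 1) = χ n) :
    x ≫ mPt C c = DSPts.dsEquiv (aff C' c') M (secCharM c' χ) := by
  rw [mPt, DSPts.dsEquiv_naturality]
  congr 1
  refine MonoidHom.ext fun n => ?_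
  have h := Scheme.ΓSpecIso_inv_naturality (CommRingCat.ofHom ψ)
  have h2 := congrArg (fun f => f.hom (MonoidAlgebra.single n (1 : C))) h
  change x.left.appTop.hom ((Scheme.ΓSpecIso (CommRingCat.of (MonoidAlgebra C (Multiplicative M)))).inv.hom
    (MonoidAlgebra.single n 1)) = (Scheme.ΓSpecIso (CommRingCat.of C')).inv.hom (χ n)
  rw [hx]
  refine h2.symm.trans ?_
  change (Scheme.ΓSpecIso (CommRingCat.of C')).inv.hom (ψ (MonoidAlgebra.single n 1)) = _
  rw [hχ]

/-- the homomorphism `J`, as an algebra map `A → R[M]` -/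
noncomputable def piAlg : A →ₐ[R] MonoidAlgebra R (Multiplicative M) :=
  (Equiv.ofBijective _ (pt_bijective e (hcN (hcR (r := r)) (Multiplicative M)))).symm (mPt R r ≫ J)

lemma pt_piAlg : pt e (hcN (hcR (r := r)) (Multiplicative M)) (piAlg J e) = mPt R r ≫ J :=
  (Equiv.ofBijective _ (pt_bijective e (hcN (hcR (r := r)) (Multiplicative M)))).apply_symm_apply _

variable {C : Type u} [CommRing C] [Algebra R C] {c : Spec (CommRingCat.of C) ⟶ S}
variable (hc : Spec.map (CommRingCat.ofHom (algebraMap R C)) ≫ r = c)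

/-- the morphism `Spec C ⟶ Spec R[M]` attached to an algebra map -/
noncomputable def toMon (ψ : MonoidAlgebra R (Multiplicative M) →ₐ[R] C) :
    aff C c ⟶ mon (Multiplicative M) R r :=
  Over.homMk (Spec.map (CommRingCat.ofHom ψ.toRingHom)) (by
    change Spec.map (CommRingCat.ofHom ψ.toRingHom) ≫
      Spec.map (CommRingCat.ofHom (algebraMap R (MonoidAlgebra R (Multiplicative M)))) ≫ r = c
    rw [← Category.assoc, ← Spec.map_comp, ← CommRingCat.ofHom_comp, ← hc]
    congr 3
    exact ψ.comp_algebraMap)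

lemma pt_comp_piAlg (ψ : MonoidAlgebra R (Multiplicative M) →ₐ[R] C) (χ : Multiplicative M →* C)
    (hχ : ∀ n, ψ (MonoidAlgebra.single n 1) = χ n) :
    pt e hc (ψ.comp (piAlg J e)) = DSPts.dsEquiv (aff C c) M (secCharM c χ) ≫ J := by
  rw [← comp_mPt (toMon hc ψ) ψ.toRingHom rfl χ hχ, Category.assoc, ← pt_piAlg J e,
    comp_pt e (hcN hcR _) hc ψ (toMon hc ψ) rfl]

variable [IsMonHom J]

lemma counit_piAlg : (Bialgebra.counitAlgHom R (MonoidAlgebra R (Multiplicative M))).comp (piAlg J e) =
    Bialgebra.counitAlgHom R A := by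
  apply (pt_bijective e (hcR (r := r))).1
  rw [pt_comp_piAlg J e hcR (Bialgebra.counitAlgHom R (MonoidAlgebra R (Multiplicative M))) 1
    (fun n => by simp)]
  rw [secCharM_one, map_one, MonObj.one_comp]
  rw [← pt_one e (hcR (r := r))]
  rfl

lemma comul_piAlg : (Algebra.TensorProduct.map (piAlg J e) (piAlg J e)).comp
      (Bialgebra.comulAlgHom R A) =
    (Bialgebra.comulAlgHom R (MonoidAlgebra R (Multiplicative M))).comp (piAlg J e) := by
  let B := MonoidAlgebra R (Multiplicative M)
  have hc2 : Spec.map (CommRingCat.ofHom (algebraMap R (B ⊗[R] B))) ≫ r =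
      Spec.map (CommRingCat.ofHom (algebraMap R (B ⊗[R] B))) ≫ r := rfl
  have h1 : (Algebra.TensorProduct.map (piAlg J e) (piAlg J e)).comp
      (Bialgebra.comulAlgHom R A) = (toConv ((Algebra.TensorProduct.includeLeft).comp
        (piAlg J e)) * toConv ((Algebra.TensorProduct.includeRight).comp
        (piAlg J e)) : WithConv (A →ₐ[R] B ⊗[R] B)).ofConv := by
    ext a
    rw [AlgHom.convMul_def]
    change _ = Algebra.TensorProduct.lmul' R (Algebra.TensorProduct.map _ _
      (Bialgebra.comulAlgHom R A a))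
    rw [AlgHom.comp_apply]
    generalize Bialgebra.comulAlgHom R A a = x
    induction x using TensorProduct.induction_on with
    | zero => simp
    | tmul x y => simp
    | add x y hx hy => simp only [map_add, hx, hy]
  apply (pt_bijective e hc2).1
  rw [h1, pt_mul]
  change pt e hc2 (Algebra.TensorProduct.includeLeft.comp (piAlg J e)) *
    pt e hc2 (Algebra.TensorProduct.includeRight.comp (piAlg J e)) = _
  rw [pt_comp_piAlg J e hc2 (Algebra.TensorProduct.includeLeft)
      (((Algebra.TensorProduct.includeLeft : B →ₐ[R] B ⊗[R] B) : B →* B ⊗[R] B).comp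
        (MonoidAlgebra.of R (Multiplicative M))) (fun n => rfl),
    pt_comp_piAlg J e hc2 (Algebra.TensorProduct.includeRight)
      (((Algebra.TensorProduct.includeRight : B →ₐ[R] B ⊗[R] B) : B →* B ⊗[R] B).comp
        (MonoidAlgebra.of R (Multiplicative M))) (fun n => rfl),
    pt_comp_piAlg J e hc2 (Bialgebra.comulAlgHom R B)
      (((Algebra.TensorProduct.includeLeft : B →ₐ[R] B ⊗[R] B) : B →* B ⊗[R] B).comp
        (MonoidAlgebra.of R (Multiplicative M)) *
        ((Algebra.TensorProduct.includeRight : B →ₐ[R] B ⊗[R] B) : B →* B ⊗[R] B).comp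
        (MonoidAlgebra.of R (Multiplicative M))) (fun n => ?_),
    secCharM_mul, map_mul, MonObj.mul_comp]
  have h2 : Coalgebra.comul (R := R) (MonoidAlgebra.single n 1 : B) =
      ((MonoidAlgebra.single n 1 : B) ⊗ₜ[R] (1 : B)) *
      ((1 : B) ⊗ₜ[R] (MonoidAlgebra.single n 1 : B)) := by
    rw [Algebra.TensorProduct.tmul_mul_tmul, _root_.one_mul, _root_.mul_one, MonoidAlgebra.comul_single]
    simp
  exact h2

/-- the homomorphism `J`, as a bialgebra map `A → R[M]` -/
noncomputable def piB : A →ₐc[R] MonoidAlgebra R (Multiplicative M) :=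
  BialgHom.ofAlgHom (piAlg J e) (counit_piAlg J e) (comul_piAlg J e)

lemma piB_coe : (piB J e : A →ₐ[R] MonoidAlgebra R (Multiplicative M)) = piAlg J e := rfl

/-- the points `J(χ)` -/
lemma pt_tau (χ : Multiplicative M →* C) :
    pt e hc (ConjGrade.tau (piB J e) χ).ofConv = DSPts.dsEquiv (aff C c) M (secCharM c χ) ≫ J :=
  pt_comp_piAlg J e hc (MonoidAlgebra.lift R C (Multiplicative M) χ) χ (fun n => by simp)

/-- the conjugated orbit of `g`, algebraically -/
noncomputable def orbAlg (g : A →ₐ[R] C) : WithConv (A →ₐ[R] MonoidAlgebra C (Multiplicative M)) :=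
  ConjGrade.tau (piB J e) (MonoidAlgebra.of C (Multiplicative M)) *
    mapPt (ConjGrade.cst R (Multiplicative M) C) (toConv g) *
    (ConjGrade.tau (piB J e) (MonoidAlgebra.of C (Multiplicative M)))⁻¹

lemma pt_mPt : pt e (hcN hc (Multiplicative M))
    (ConjGrade.tau (piB J e) (MonoidAlgebra.of C (Multiplicative M))).ofConv = mPt C c ≫ J := by
  rw [pt_tau J e (hcN hc (Multiplicative M))]
  rfl

lemma mPr_pt (N : Type) [CommMonoid N] (g : A →ₐ[R] C) :
    mPr N C c ≫ pt e hc g = pt e (hcN hc N) ((IsScalarTower.toAlgHom R C (MonoidAlgebra C N)).comp g) :=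
  comp_pt e hc (hcN hc N) (IsScalarTower.toAlgHom R C (MonoidAlgebra C N)) (mPr N C c) rfl g

lemma toT_pt (T : Submonoid (Multiplicative M)) (g : A →ₐ[R] MonoidAlgebra C T) :
    toT C c T ≫ pt e (hcN hc T) g = pt e (hcN hc (Multiplicative M)) ((incl R C T).comp g) :=
  comp_pt e (hcN hc T) (hcN hc (Multiplicative M)) (incl R C T) (toT C c T) rfl g

/-- conjugated orbits correspond -/
lemma orbM_pt (g : A →ₐ[R] C) :
    orbM J (pt e hc g) = pt e (hcN hc (Multiplicative M)) (orbAlg J e g).ofConv := by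
  have h2 : ∀ x y : WithConv (A →ₐ[R] MonoidAlgebra C (Multiplicative M)),
      pt e (hcN hc (Multiplicative M)) (x * y * x⁻¹).ofConv =
      pt e (hcN hc (Multiplicative M)) x.ofConv * pt e (hcN hc (Multiplicative M)) y.ofConv *
        (pt e (hcN hc (Multiplicative M)) x.ofConv)⁻¹ := by
    intro x y
    have h3 := map_mul (ptEquiv e (hcN hc (Multiplicative M))) (x * y) x⁻¹
    have h4 := map_mul (ptEquiv e (hcN hc (Multiplicative M))) x y
    have h5 := map_inv (ptEquiv e (hcN hc (Multiplicative M))) x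
    rw [h4, h5] at h3
    exact h3
  rw [orbAlg, h2, pt_mPt J e hc, orbM, mPr_pt e hc]
  rfl

lemma orbAlg_of_mem (g : A →ₐ[R] C) {m : Multiplicative M} {a : A} (ha : a ∈ ConjGrade.gr (piB J e) m) :
    (orbAlg J e g).ofConv a = MonoidAlgebra.single m (g a) := by
  rw [orbAlg, ConjGrade.conj_apply_of_mem _ ha]
  change MonoidAlgebra.single 1 (g a) * MonoidAlgebra.single m (1 : C) = _
  rw [MonoidAlgebra.single_mul_single, _root_.one_mul, _root_.mul_one]

lemma incl_injective (T : Submonoid (Multiplicative M)) : Function.Injective (incl R C T) :=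
  MonoidAlgebra.mapDomain_injective Subtype.val_injective

lemma coeff_incl (T : Submonoid (Multiplicative M)) (f : MonoidAlgebra C T) {m : Multiplicative M}
    (hm : m ∉ T) : (incl R C T f).coeff m = 0 := by
  classical
  induction f using MonoidAlgebra.induction_linear with
  | zero => simp
  | add f g hf hg => rw [map_add, MonoidAlgebra.coeff_add, Finsupp.add_apply, hf, hg, add_zero]
  | single n a =>
    change (MonoidAlgebra.mapDomain _ (MonoidAlgebra.single n a)).coeff m = 0
    rw [MonoidAlgebra.mapDomain_single, MonoidAlgebra.coeff_single, Finsupp.single_eq_of_ne]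
    rintro rfl
    exact hm n.2

lemma exists_comp_incl_iff (T : Submonoid (Multiplicative M)) (g : A →ₐ[R] C) :
    (∃ h : A →ₐ[R] MonoidAlgebra C T, (incl R C T).comp h = (orbAlg J e g).ofConv) ↔
      ∀ m ∉ T, ∀ a ∈ ConjGrade.gr (piB J e) m, g a = 0 := by
  constructor
  · rintro ⟨h, hh⟩ m hm a ha
    have h1 := orbAlg_of_mem J e g ha
    rw [← hh] at h1
    have h2 := coeff_incl (R := R) T (h a) hm
    change incl R C T (h a) = _ at h1
    rw [h1, MonoidAlgebra.coeff_single, Finsupp.single_eq_same] at h2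
    exact h2
  · intro H
    have h1 : ∀ a, (orbAlg J e g).ofConv a ∈ (incl R C T).range := by
      intro a
      refine ConjGrade.induction_gr (piB J e) ?_ ?_ ?_ a
      · rw [map_zero]; exact zero_mem _
      · intro a b ha hb
        rw [map_add]
        exact add_mem ha hb
      · intro m a ha
        rw [orbAlg_of_mem J e g ha]
        by_cases hm : m ∈ T
        · refine ⟨MonoidAlgebra.single ⟨m, hm⟩ (g a), ?_⟩
          change MonoidAlgebra.mapDomain _ (MonoidAlgebra.single _ _) = _
          rw [MonoidAlgebra.mapDomain_single]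
          rfl
        · rw [H m hm a ha, MonoidAlgebra.single_zero]
          exact zero_mem _
    refine ⟨((AlgEquiv.ofInjective (incl R C T) (incl_injective T)).symm : _ →ₐ[R] _).comp
      ((orbAlg J e g).ofConv.codRestrict _ h1), ?_⟩
    ext1 a
    have h2 := (AlgEquiv.ofInjective (incl R C T) (incl_injective T)).apply_symm_apply
      ((orbAlg J e g).ofConv.codRestrict _ h1 a)
    exact congrArg Subtype.val h2

/-- **The condition `QT` in a chart.** -/
lemma qt_pt_iff (T : Submonoid (Multiplicative M)) (g : A →ₐ[R] C) :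
    QT J C c T (pt e hc g) ↔ ∀ m ∉ T, ∀ a ∈ ConjGrade.gr (piB J e) m, g a = 0 := by
  rw [← exists_comp_incl_iff]
  constructor
  · rintro ⟨h, hh⟩
    obtain ⟨h, rfl⟩ := (pt_bijective e (hcN hc T)).2 h
    refine ⟨h, ?_⟩
    rw [toT_pt e hc, orbM_pt J e hc] at hh
    exact (pt_bijective e (hcN hc _)).1 hh
  · rintro ⟨h, hh⟩
    refine ⟨pt e (hcN hc T) h, ?_⟩
    rw [toT_pt e hc, orbM_pt J e hc, hh]

end Chart

end Groth.Agent.Sga3B.Parab.OrbM156
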