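import Groth.Agent.Sga3B.Parab.OrbM156
import Groth.Agent.Sga3B.Parab.Cone156

/-!
# Comparison of the conditions `QT` with the dynamic conditions for one-parameter subgroups
-/

set_option autoImplicit false
set_option linter.unusedSectionVars false

universe u

open CategoryTheory MonoidalCategory CartesianMonoidalCategory MonObj GrpObj AlgebraicGeometry Limits
open scoped LaurentPolynomial Polynomial TensorProduct
open WithConv
open Groth.Agent.Books.AffBridge Groth.Agent.Books.DynBasic Groth.Agent.Books.DynLim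
open Groth.Agent.Sga3B.Parab.Chart998 Groth.Agent.Sga3B.RG

namespace Groth.Agent.Sga3B.Parab.OrbM156

variable {S : Scheme.{u}} {G : Over S} [GrpObj G] {M : Type} [AddCommGroup M] (J : Red.DS S M ⟶ G)
  [IsMonHom J]

section Cochar

/-- The one-parameter subgroup of `G` attached to `ν : M → ℤ`. -/
noncomputable def lamN (ν : M →+ ℤ) : Red.Gm S ⟶ G := Red.DSmap S ν ≫ J

instance (ν : M →+ ℤ) : IsMonHom (lamN J ν) := by
  have := isMonHom_DSmap (S := S) ν
  unfold lamN
  infer_instance

variable {R : Type u} [CommRing R] {r : Spec (CommRingCat.of R) ⟶ S}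
variable {A : Type u} [CommRing A] [HopfAlgebra R A] (e : Red.bc r G ≅ SpecOver R A) [IsMonHom e.hom]
variable {C : Type u} [CommRing C] [Algebra R C] {c : Spec (CommRingCat.of C) ⟶ S}
variable (hc : Spec.map (CommRingCat.ofHom (algebraMap R C)) ≫ r = c)

variable (C) in
/-- the character `m ↦ T^(ν m)` -/
noncomputable def chiN (ν : M →+ ℤ) : Multiplicative M →* C[T;T⁻¹] :=
  (tC C).comp (AddMonoidHom.toMultiplicative ν)

lemma chiN_apply (ν : M →+ ℤ) (m : Multiplicative M) :
    chiN C ν m = LaurentPolynomial.T (ν m.toAdd) := rfl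

lemma tPt_DSmap (ν : M →+ ℤ) : tPt C c ≫ Red.DSmap S ν =
    DSPts.dsEquiv (gmo C c) M (secCharM (Spec.map (CommRingCat.ofHom (algebraMap C C[T;T⁻¹])) ≫ c)
      (chiN C ν)) := by
  rw [tPt, DSPts.dsEquiv_DSmap]
  rfl

include hc in
lemma toConv_lamR_lamN (ν : M →+ ℤ) :
    toConv (Dyn.lamR R A (lamB (lamN J ν) e) C) = ConjGrade.tau (piB J e) (chiN C ν) := by
  apply WithConv.ofConv_injective
  apply (pt_bijective e (hcL hc)).1
  rw [pt_tau J e (hcL hc), ← Category.id_comp (DSPts.dsEquiv _ _ _)]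
  change pt e (hcL hc) (Dyn.lamR R A (lamB (lamN J ν) e) C) = _
  rw [pt_lamR (lamN J ν) e hc, lamN, ← Category.assoc, tPt_DSmap, Category.id_comp]

include hc in
lemma conjOrbit_lamN (ν : M →+ ℤ) (g : A →ₐ[R] C) {m : Multiplicative M} {a : A}
    (ha : a ∈ ConjGrade.gr (piB J e) m) :
    Dyn.conjOrbit R A (lamB (lamN J ν) e) C g a =
      LaurentPolynomial.C (g a) * LaurentPolynomial.T (ν m.toAdd) := by
  have h1 := conjOrbit_eq (lamB (lamN J ν) e) g
  have h2 : orbHom (lamB (lamN J ν) e) (toConv g) =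
      ConjGrade.tau (piB J e) (chiN C ν) * mapPt (cst R C) (toConv g) *
        (ConjGrade.tau (piB J e) (chiN C ν))⁻¹ := by
    rw [← toConv_lamR_lamN J e hc, toConv_lamR]
    rfl
  rw [h2] at h1
  have h3 := DFunLike.congr_fun (congrArg WithConv.ofConv h1) a
  rw [ConjGrade.conj_apply_of_mem _ ha] at h3
  exact h3

include hc in
lemma coeff_conjOrbit_lamN (ν : M →+ ℤ) (g : A →ₐ[R] C) {m : Multiplicative M} {a : A}
    (ha : a ∈ ConjGrade.gr (piB J e) m) (n : ℤ) :
    (Dyn.conjOrbit R A (lamB (lamN J ν) e) C g a).coeff n = if ν m.toAdd = n then g a else 0 := by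
  rw [conjOrbit_lamN J e hc ν g ha, ← LaurentPolynomial.single_eq_C_mul_T, AddMonoidAlgebra.coeff_single,
    Finsupp.single_apply]

/-- **The condition `LimEx` in a chart.** -/
lemma limEx_lamN_iff (ν : M →+ ℤ) (g : A →ₐ[R] C) :
    LimEx (lamN J ν) (pt e hc g) ↔
      ∀ m : Multiplicative M, ν m.toAdd < 0 → ∀ a ∈ ConjGrade.gr (piB J e) m, g a = 0 := by
  rw [limEx_pt, limExists_iff]
  simp only [← coeff_conjOrbit]
  constructor
  · intro h m hm a ha
    have := h _ hm a
    rwa [coeff_conjOrbit_lamN J e hc ν g ha, if_pos rfl] at this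
  · intro h n hn a
    refine ConjGrade.induction_gr (piB J e) ?_ ?_ ?_ a
    · simp
    · intro a b ha hb
      rw [map_add, AddMonoidAlgebra.coeff_add, Finsupp.add_apply, ha, hb, add_zero]
    · intro m a ha
      rw [coeff_conjOrbit_lamN J e hc ν g ha]
      split_ifs with hm
      · exact h m (hm ▸ hn) a ha
      · rfl

/-- **The condition `OrbConst` in a chart.** -/
lemma orbConst_lamN_iff (ν : M →+ ℤ) (g : A →ₐ[R] C) :
    OrbConst (lamN J ν) (pt e hc g) ↔
      ∀ m : Multiplicative M, ν m.toAdd ≠ 0 → ∀ a ∈ ConjGrade.gr (piB J e) m, g a = 0 := by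
  have h0 : OrbConst (lamN J ν) (pt e hc g) ↔
      Dyn.conjOrbit R A (lamB (lamN J ν) e) C g = (cst R C).comp g := by
    rw [OrbConst, orb_pt (lamN J ν) e hc, gmPr_pt e hc, (pt_bijective e (hcL hc)).1.eq_iff]
  rw [h0]
  constructor
  · intro h m hm a ha
    have h1 := coeff_conjOrbit_lamN J e hc ν g ha (ν m.toAdd)
    rw [h, if_pos rfl] at h1
    rw [← h1]
    change (LaurentPolynomial.C (g a)).coeff _ = 0
    rw [LaurentPolynomial.C_apply, if_neg hm]
  · intro h
    ext a : 1
    refine ConjGrade.induction_gr (piB J e) ?_ ?_ ?_ a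
    · simp
    · intro a b ha hb
      rw [map_add, map_add, ha, hb]
    · intro m a ha
      rw [conjOrbit_lamN J e hc ν g ha]
      change _ = LaurentPolynomial.C (g a)
      by_cases hm : ν m.toAdd = 0
      · rw [hm, LaurentPolynomial.T_zero, _root_.mul_one]
      · rw [h m hm a ha, map_zero, zero_mul]

end Cochar

section Finite

variable {R : Type u} [CommRing R] {A : Type u} [CommRing A] [HopfAlgebra R A] {r : Spec (CommRingCat.of R) ⟶ S}
  (e : Red.bc r G ≅ SpecOver R A) [IsMonHom e.hom]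

/-- Only finitely many weights matter. -/
lemma exists_finset [Algebra.FiniteType R A] : ∃ F : Finset (Multiplicative M),
    ∀ (T : Submonoid (Multiplicative M)) (C : Type u) [CommRing C] [Algebra R C] (g : A →ₐ[R] C),
      (∀ m ∈ F, m ∉ T → ∀ a ∈ ConjGrade.gr (piB J e) m, g a = 0) →
      ∀ m ∉ T, ∀ a ∈ ConjGrade.gr (piB J e) m, g a = 0 := by
  classical
  obtain ⟨s, hs⟩ := ‹Algebra.FiniteType R A›.out
  refine ⟨s.biUnion fun a => (ConjGrade.rho (piB J e) a).coeff.support, ?_⟩
  intro T C _ _ g h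
  have h1 : ∀ a, (orbAlg J e g).ofConv a ∈ (incl R C T).range := by
    have h2 : Algebra.adjoin R (s : Set A) ≤ ((incl R C T).range).comap (orbAlg J e g).ofConv := by
      rw [Algebra.adjoin_le_iff]
      intro a ha
      change (orbAlg J e g).ofConv a ∈ (incl R C T).range
      rw [← ConjGrade.sum_pr' (piB J e) a, map_sum]
      refine sum_mem fun m hm => ?_
      have hm' : m ∈ s.biUnion fun a => (ConjGrade.rho (piB J e) a).coeff.support :=
        Finset.mem_biUnion.2 ⟨a, ha, hm⟩
      rw [orbAlg_of_mem J e g (ConjGrade.pr_mem_gr (piB J e) m a)]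
      by_cases hmT : m ∈ T
      · refine ⟨MonoidAlgebra.single ⟨m, hmT⟩ (g (ConjGrade.pr (piB J e) m a)), ?_⟩
        change MonoidAlgebra.mapDomain _ (MonoidAlgebra.single _ _) = _
        rw [MonoidAlgebra.mapDomain_single]
        rfl
      · rw [h m hm' hmT _ (ConjGrade.pr_mem_gr (piB J e) m a), MonoidAlgebra.single_zero]
        exact zero_mem _
    rw [hs] at h2
    intro a
    exact h2 Algebra.mem_top
  intro m hm a ha
  obtain ⟨f, hf⟩ := h1 a
  have h2 := coeff_incl (R := R) T f hm
  change incl R C T f = _ at hf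
  rw [hf, orbAlg_of_mem J e g ha, MonoidAlgebra.coeff_single, Finsupp.single_eq_same] at h2
  exact h2

end Finite

end Groth.Agent.Sga3B.Parab.OrbM156
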