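import Groth.Agent.Sga3B.Parab.OrbN156

/-!
# The parabolic attached to a total order on the characters of a split torus
-/

set_option autoImplicit false
set_option linter.unusedSectionVars false

universe u

open CategoryTheory MonoidalCategory CartesianMonoidalCategory MonObj GrpObj AlgebraicGeometry Limits
open scoped LaurentPolynomial Polynomial TensorProduct
open WithConv
open Groth.Agent.Books.AffBridge Groth.Agent.Books.DynBasic Groth.Agent.Books.DynLim
open Groth.Agent.Sga3B.Parab.Chart998 Groth.Agent.Sga3B.RG Groth.Agent.Sga3B.Parab.Rep998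

namespace Groth.Agent.Sga3B.Parab.OrbM156

variable {S : Scheme.{u}} {G : Over S} [GrpObj G] {M : Type} [AddCommGroup M] (J : Red.DS S M ⟶ G)
  [IsMonHom J]

/-- The condition `QT` on general points. -/
def PtT (T : Submonoid (Multiplicative M)) {X : Over S} (g : X ⟶ G) : Prop :=
  ∀ (C : Type u) [CommRing C] (c : Spec (CommRingCat.of C) ⟶ S) (x : aff C c ⟶ X), QT J C c T (x ≫ g)

lemma idealCond (T : Submonoid (Multiplicative M)) :
    IdealCond (fun (C : Type u) [CommRing C] (c : Spec (CommRingCat.of C) ⟶ S) (g : aff C c ⟶ G) =>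
      QT J C c T g) := by
  intro R _ r A _ _ e _
  refine ⟨Ideal.span {a | ∃ m ∉ T, a ∈ ConjGrade.gr (piB J e) m}, fun C _ _ c hc g => ?_⟩
  change QT J C c T (pt e hc g) ↔ _
  rw [qt_pt_iff]
  constructor
  · intro h a ha
    have : Ideal.span {a | ∃ m ∉ T, a ∈ ConjGrade.gr (piB J e) m} ≤ RingHom.ker g := by
      rw [Ideal.span_le]
      rintro b ⟨m, hm, hb⟩
      exact h m hm b hb
    exact this ha
  · intro h m hm a ha
    exact h a (Ideal.subset_span ⟨m, hm, ha⟩)

/-- **The closed subgroup `P_T`.** -/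
theorem exists_subgroup_T [IsAffineHom G.hom] (T : Submonoid (Multiplicative M)) :
    ∃ (P : Over S) (_ : GrpObj P) (p : P ⟶ G), IsMonHom p ∧ Mono p ∧ IsClosedImmersion p.left ∧
      ∀ (X : Over S) (g : X ⟶ G), (∃ x : X ⟶ P, x ≫ p = g) ↔ PtT J T g :=
  exists_subgroup (idealCond J T) (fun C _ c => qt_one J C c T) (fun _ _ _ _ _ => QT.mul J)
    (fun _ _ _ _ => QT.inv J)

lemma PtT.comp {J : Red.DS S M ⟶ G} {T : Submonoid (Multiplicative M)} {X Y : Over S} {g : X ⟶ G} (h : PtT J T g) (y : Y ⟶ X) :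
    PtT J T (y ≫ g) := by
  intro C _ c x
  have := h C c (x ≫ y)
  rwa [Category.assoc] at this

section Ext

/-- Morphisms over `S` agree if they agree on affine points. -/
lemma hom_ext_aff {X Y : Over S} {u v : X ⟶ Y}
    (h : ∀ (C : Type u) [CommRing C] (c : Spec (CommRingCat.of C) ⟶ S) (x : aff C c ⟶ X), x ≫ u = x ≫ v) :
    u = v := by
  ext1
  refine Scheme.Cover.hom_ext X.left.affineCover _ _ fun i => ?_
  let x : aff _ (X.left.affineCover.f i ≫ X.hom) ⟶ X := Over.homMk (X.left.affineCover.f i) rfl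
  exact congrArg (fun f => f.left) (h _ _ x)

end Ext

section Cent

/-- **Centralizer of `D(M)`**: a point commutes with `D(M)` iff it satisfies `QT ⊥`. -/
lemma commutes_iff_ptT [IsAffineHom G.hom] {X : Over S} (g : X ⟶ G) :
    (∀ (X' : Over S) (x : X' ⟶ X) (h : X' ⟶ Red.DS S M), (x ≫ g) * (h ≫ J) = (h ≫ J) * (x ≫ g)) ↔
      PtT J ⊥ g := by
  constructor
  · intro H C _ c x
    have h1 := H (mon (Multiplicative M) C c) (mPr _ C c ≫ x) (mPt C c)
    refine ⟨mPr _ C c ≫ x ≫ g, ?_⟩
    rw [toT_mPr_assoc, orbM, ← Category.assoc, ← h1, mul_inv_cancel_right]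
  · intro H X' x h
    apply hom_ext_aff
    intro C _ c y
    rw [MonObj.comp_mul, MonObj.comp_mul]
    obtain ⟨A, _, _, e, _⟩ := exists_chart (G := G) c
    have hc := hcR (r := c)
    obtain ⟨g', hg'⟩ := (pt_bijective e hc).2 (y ≫ x ≫ g)
    have h1 := H C c (y ≫ x)
    rw [Category.assoc, ← hg', qt_pt_iff] at h1
    obtain ⟨χ, hχ⟩ := exists_secCharM (c := c) (DSPts.dsChar (y ≫ h))
    have h2 : y ≫ h ≫ J = pt e hc (ConjGrade.tau (piB J e) χ).ofConv := by
      rw [pt_tau, hχ, DSPts.dsEquiv_dsChar, Category.assoc]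
    rw [h2, ← hg']
    have h3 : ConjGrade.tau (piB J e) χ * toConv g' * (ConjGrade.tau (piB J e) χ)⁻¹ = toConv g' := by
      apply WithConv.ofConv_injective
      refine AlgHom.ext fun a => ?_
      refine ConjGrade.induction_gr (piB J e) ?_ ?_ ?_ a
      · rw [map_zero, map_zero]
      · intro a b ha hb
        rw [map_add, map_add, ha, hb]
      · intro m a ha
        rw [ConjGrade.conj_apply_of_mem _ ha]
        by_cases hm : m = 1
        · subst hm
          rw [map_one, _root_.mul_one]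
        · have h4 := h1 m (by rwa [Submonoid.mem_bot]) a ha
          change g' a * χ m = g' a
          rw [h4, zero_mul]
    rw [mul_inv_eq_iff_eq_mul] at h3
    have h5 := congrArg (fun z => pt e hc z.ofConv) h3
    simp only [pt_mul] at h5
    exact h5.symm

end Cent

section Compare

variable {J}

/-- over an affine chart, the conditions `QT T`, `QT ⊥` are the dynamic conditions for a one-parameter subgroup -/
lemma exists_nu_chart {T : AddSubmonoid M}
    (hT : ∀ F : Finset M, ∃ ν : M →+ ℤ, (∀ m ∈ F, m ∈ T ↔ 0 ≤ ν m) ∧ ∀ m ∈ F, ν m = 0 → m = 0)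
    {R : Type u} [CommRing R] {A : Type u} [CommRing A] [HopfAlgebra R A] {r : Spec (CommRingCat.of R) ⟶ S}
    (e : Red.bc r G ≅ SpecOver R A) [IsMonHom e.hom] [Algebra.FiniteType R A] :
    ∃ ν : M →+ ℤ, ∀ (C : Type u) [CommRing C] [Algebra R C] (c : Spec (CommRingCat.of C) ⟶ S)
      (_ : Spec.map (CommRingCat.ofHom (algebraMap R C)) ≫ r = c) (g : aff C c ⟶ G),
      (QT J C c (AddSubmonoid.toSubmonoid T) g ↔ LimEx (lamN J ν) g) ∧
      (QT J C c ⊥ g ↔ OrbConst (lamN J ν) g) := by
  classical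
  obtain ⟨F, hF⟩ := exists_finset J e
  obtain ⟨ν, h1, h2⟩ := hT (F.image Multiplicative.toAdd)
  refine ⟨ν, fun C _ _ c hc g => ?_⟩
  obtain ⟨g, rfl⟩ := (pt_bijective e hc).2 g
  rw [qt_pt_iff, qt_pt_iff, limEx_lamN_iff, orbConst_lamN_iff]
  -- the submonoids attached to ν
  let T₁ : Submonoid (Multiplicative M) :=
    { carrier := {m | 0 ≤ ν m.toAdd}
      mul_mem' := by
        intro a b ha hb
        simp only [Set.mem_ofPred_eq, toAdd_mul, map_add] at ha hb ⊢
        exact add_nonneg ha hb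
      one_mem' := by simp }
  let T₂ : Submonoid (Multiplicative M) :=
    { carrier := {m | ν m.toAdd = 0}
      mul_mem' := by
        intro a b ha hb
        simp only [Set.mem_ofPred_eq, toAdd_mul, map_add] at ha hb ⊢
        rw [ha, hb, add_zero]
      one_mem' := by simp }
  have e1 : ∀ m ∈ F, (m ∈ AddSubmonoid.toSubmonoid T ↔ m ∈ T₁) := fun m hm =>
    h1 m.toAdd (Finset.mem_image_of_mem _ hm)
  have e2 : ∀ m ∈ F, (m ∈ (⊥ : Submonoid (Multiplicative M)) ↔ m ∈ T₂) := by
    intro m hm
    rw [Submonoid.mem_bot]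
    constructor
    · rintro rfl
      exact T₂.one_mem
    · intro h
      exact h2 m.toAdd (Finset.mem_image_of_mem _ hm) h
  constructor
  · constructor
    · intro h m hm
      exact hF T₁ C g (fun m hm hmT => h m (fun h' => hmT ((e1 m hm).1 h'))) m (not_le.2 hm)
    · intro h
      refine hF _ C g (fun m hm hmT => h m (not_le.1 fun h' => hmT ((e1 m hm).2 h')))
  · constructor
    · intro h m hm
      exact hF T₂ C g (fun m hm hmT => h m (fun h' => hmT ((e2 m hm).1 h'))) m hm
    · intro h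
      refine hF _ C g (fun m hm hmT => h m (fun h' => hmT ((e2 m hm).2 h')))

/-- locally on `S`, the conditions `PtT T`, `PtT ⊥` are the dynamic conditions for a one-parameter subgroup -/
theorem exists_nu [IsAffineHom G.hom] [LocallyOfFiniteType G.hom] {T : AddSubmonoid M}
    (hT : ∀ F : Finset M, ∃ ν : M →+ ℤ, (∀ m ∈ F, m ∈ T ↔ 0 ≤ ν m) ∧ ∀ m ∈ F, ν m = 0 → m = 0)
    (s : S) : ∃ V : S.Opens, s ∈ V ∧ ∃ ν : M →+ ℤ, ∀ (X : Over S) (_ : Set.range X.hom ⊆ V) (g : X ⟶ G),
      (PtT J (AddSubmonoid.toSubmonoid T) g ↔ PtP (lamN J ν) g) ∧ (PtT J ⊥ g ↔ PtZ (lamN J ν) g) := by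
  obtain ⟨_, ⟨V, hV, rfl⟩, hsV, -⟩ := S.isBasis_affineOpens.exists_subset_of_mem_open
    (Set.mem_univ s) isOpen_univ
  let R : Type u := Γ(S, V)
  let r : Spec (CommRingCat.of R) ⟶ S := hV.fromSpec
  have hr : IsOpenImmersion r := inferInstanceAs (IsOpenImmersion hV.fromSpec)
  have hrange : Set.range r = V := hV.range_fromSpec
  obtain ⟨A, _, _, e, _⟩ := exists_chart (G := G) r
  have hft : Algebra.FiniteType R A := by
    have h1 : LocallyOfFiniteType (Spec.map (CommRingCat.ofHom (algebraMap R A))) := by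
      have h2 : LocallyOfFiniteType (Red.bc r G).hom := by
        change LocallyOfFiniteType (pullback.snd G.hom r)
        infer_instance
      have h3 : e.inv.left ≫ (Red.bc r G).hom = Spec.map (CommRingCat.ofHom (algebraMap R A)) := Over.w e.inv
      rw [← h3]
      have h4 : IsIso e.inv.left := inferInstanceAs (IsIso ((Over.forget _).map e.inv))
      have h5 : LocallyOfFiniteType e.inv.left := inferInstance
      exact MorphismProperty.comp_mem _ _ _ h5 h2
    have h2 := (HasRingHomProperty.Spec_iff (P := @LocallyOfFiniteType)).1 h1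
    exact RingHom.finiteType_algebraMap.1 h2
  obtain ⟨ν, hν⟩ := exists_nu_chart (J := J) hT e
  refine ⟨V, hsV, ν, fun X hX g => ?_⟩
  have key : ∀ (C : Type u) [CommRing C] (c : Spec (CommRingCat.of C) ⟶ S) (x : aff C c ⟶ X),
      (QT J C c (AddSubmonoid.toSubmonoid T) (x ≫ g) ↔ LimEx (lamN J ν) (x ≫ g)) ∧
      (QT J C c ⊥ (x ≫ g) ↔ OrbConst (lamN J ν) (x ≫ g)) := by
    intro C _ c x
    have h1 : Set.range c ⊆ Set.range r := by
      rw [hrange]
      rintro _ ⟨y, rfl⟩
      refine hX ⟨x.left y, ?_⟩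
      rw [← Scheme.Hom.comp_apply, Over.w]
      rfl
    let l := IsOpenImmersion.lift r c h1
    have hl : l ≫ r = c := IsOpenImmersion.lift_fac _ _ _
    let ψ : R →+* C := (Spec.preimage l).hom
    let _ : Algebra R C := ψ.toAlgebra
    have hc : Spec.map (CommRingCat.ofHom (algebraMap R C)) ≫ r = c := by
      rw [← hl]
      congr 1
      exact Spec.map_preimage l
    exact hν C c hc (x ≫ g)
  constructor
  · constructor
    · intro h C _ c x
      exact (key C c x).1.1 (h C c x)
    · intro h C _ c x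
      exact (key C c x).1.2 (h C c x)
  · constructor
    · intro h C _ c x
      exact (key C c x).2.1 (h C c x)
    · intro h C _ c x
      exact (key C c x).2.2 (h C c x)

end Compare

end Groth.Agent.Sga3B.Parab.OrbM156
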