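import Groth.Prelude.Def_Red
import Groth.Agent.Sga3B.Parab.FibIsoSch
import Mathlib.RingTheory.Smooth.Basic
import Mathlib.RingTheory.FinitePresentation

/-!
# Retracts of smooth schemes, trivial groups fibre by fibre
-/

set_option autoImplicit false

universe u

open CategoryTheory MonoidalCategory CartesianMonoidalCategory MonObj GrpObj Limits AlgebraicGeometry

namespace Groth.Agent.Sga3B.Parab.Retr

section Algebra

variable {R B C : Type u} [CommRing R] [CommRing B] [CommRing C] [Algebra R B] [Algebra R C]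

lemma formallySmooth_of_retract (a : B →ₐ[R] C) (b : C →ₐ[R] B) (h : b.comp a = AlgHom.id R B)
    [Algebra.FormallySmooth R C] : Algebra.FormallySmooth R B := by
  refine .of_comp_surjective fun D _ _ I hI f => ?_
  obtain ⟨g, hg⟩ := Algebra.FormallySmooth.comp_surjective R C I hI (f.comp b)
  refine ⟨g.comp a, ?_⟩
  have h1 : (Ideal.Quotient.mkₐ R I).comp g = f.comp b := hg
  change (Ideal.Quotient.mkₐ R I).comp (g.comp a) = f
  rw [← AlgHom.comp_assoc, h1, AlgHom.comp_assoc, h, AlgHom.comp_id]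

lemma finitePresentation_of_retract (a : B →ₐ[R] C) (b : C →ₐ[R] B)
    (h : b.comp a = AlgHom.id R B) [Algebra.FinitePresentation R C] :
    Algebra.FinitePresentation R B := by
  have hb : Function.Surjective b := fun x => ⟨a x, DFunLike.congr_fun h x⟩
  refine Algebra.FinitePresentation.of_surjective hb ?_
  obtain ⟨s, hs⟩ := (inferInstance : Algebra.FiniteType R C).out
  classical
  refine ⟨s.image fun c => c - a (b c), le_antisymm ?_ ?_⟩
  · rw [Ideal.span_le]
    rintro _ hc
    rw [Finset.coe_image] at hc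
    obtain ⟨c, -, rfl⟩ := hc
    change b (c - a (b c)) = 0
    rw [map_sub]
    have : b (a (b c)) = b c := DFunLike.congr_fun h (b c)
    rw [this, sub_self]
  · intro c hc
    set J : Ideal C := Ideal.span ((s.image fun c => c - a (b c) : Finset C) : Set C) with hJ
    have h1 : (Ideal.Quotient.mkₐ R J).comp (a.comp b) = Ideal.Quotient.mkₐ R J := by
      apply AlgHom.ext_of_adjoin_eq_top hs
      intro x hx
      change Ideal.Quotient.mk J (a (b x)) = Ideal.Quotient.mk J x
      symm
      rw [Ideal.Quotient.eq]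
      apply Ideal.subset_span
      rw [Finset.coe_image]
      exact ⟨x, hx, rfl⟩
    have h2 : Ideal.Quotient.mk J (a (b c)) = Ideal.Quotient.mk J c := DFunLike.congr_fun h1 c
    have h3 : b c = 0 := hc
    rw [h3, map_zero, map_zero] at h2
    exact Ideal.Quotient.eq_zero_iff_mem.mp h2.symm

end Algebra

section Schemes

variable {S : Scheme.{u}}

/-- A retract of a smooth affine `S`-scheme is smooth. -/
theorem smooth_of_retract {N H : Over S} (a : N ⟶ H) (b : H ⟶ N) (hab : a ≫ b = 𝟙 N)
    [IsAffineHom H.hom] [IsAffineHom N.hom] [Smooth H.hom] : Smooth N.hom := by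
  rw [HasRingHomProperty.iff_exists_appLE (P := @Smooth) (Q := RingHom.Smooth)
    (RingHom.Smooth.stableUnderComposition.stableUnderCompositionWithLocalizationAway
      RingHom.Smooth.holdsForLocalizationAway).1]
  intro x
  obtain ⟨U, hU, hxU, -⟩ := TopologicalSpace.Opens.isBasis_iff_nbhd.mp S.isBasis_affineOpens
    (TopologicalSpace.Opens.mem_top (N.hom x))
  have hVN : IsAffineOpen (N.hom ⁻¹ᵁ U) := hU.preimage N.hom
  have hVH : IsAffineOpen (H.hom ⁻¹ᵁ U) := hU.preimage H.hom
  refine ⟨⟨U, hU⟩, ⟨N.hom ⁻¹ᵁ U, hVN⟩, hxU, le_rfl, ?_⟩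
  have ea : N.hom ⁻¹ᵁ U ≤ a.left ⁻¹ᵁ (H.hom ⁻¹ᵁ U) := by
    rw [← Scheme.Hom.comp_preimage, Over.w a]
  have eb : H.hom ⁻¹ᵁ U ≤ b.left ⁻¹ᵁ (N.hom ⁻¹ᵁ U) := by
    rw [← Scheme.Hom.comp_preimage, Over.w b]
  let algB : Algebra Γ(S, U) Γ(N.left, N.hom ⁻¹ᵁ U) := (N.hom.appLE U _ le_rfl).hom.toAlgebra
  let algC : Algebra Γ(S, U) Γ(H.left, H.hom ⁻¹ᵁ U) := (H.hom.appLE U _ le_rfl).hom.toAlgebra
  have hsm : Algebra.Smooth Γ(S, U) Γ(H.left, H.hom ⁻¹ᵁ U) :=
    H.hom.smooth_appLE hU hVH le_rfl
  have h1 : H.hom.appLE U _ le_rfl ≫ a.left.appLE _ _ ea = N.hom.appLE U _ le_rfl := by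
    rw [Scheme.Hom.appLE_comp_appLE]
    congr 1
    exact Over.w a
  have h2 : N.hom.appLE U _ le_rfl ≫ b.left.appLE _ _ eb = H.hom.appLE U _ le_rfl := by
    rw [Scheme.Hom.appLE_comp_appLE]
    congr 1
    exact Over.w b
  have h3 : b.left.appLE _ _ eb ≫ a.left.appLE _ _ ea = 𝟙 _ := by
    rw [Scheme.Hom.appLE_comp_appLE]
    have h4 : a.left ≫ b.left = 𝟙 _ := congrArg CommaMorphism.left hab
    simp only [h4]
    rw [Scheme.Hom.appLE, Scheme.Hom.id_app]
    exact (Category.id_comp _).trans (N.left.presheaf.map_id _)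
  let fa : Γ(H.left, H.hom ⁻¹ᵁ U) →ₐ[Γ(S, U)] Γ(N.left, N.hom ⁻¹ᵁ U) :=
    { (a.left.appLE _ _ ea).hom with commutes' := fun r => congr($(h1).hom r) }
  let fb : Γ(N.left, N.hom ⁻¹ᵁ U) →ₐ[Γ(S, U)] Γ(H.left, H.hom ⁻¹ᵁ U) :=
    { (b.left.appLE _ _ eb).hom with commutes' := fun r => congr($(h2).hom r) }
  have hf : fa.comp fb = AlgHom.id _ _ := by
    ext y
    exact congr($(h3).hom y)
  have hs1 := formallySmooth_of_retract fb fa hf
  have hs2 := finitePresentation_of_retract fb fa hf
  have : Algebra.Smooth Γ(S, U) Γ(N.left, N.hom ⁻¹ᵁ U) := ⟨hs1, hs2⟩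
  exact this

/-- Fibres of retracts are connected. -/
theorem connectedSpace_of_retract {S' : Scheme.{u}} (x : S' ⟶ S) {N H : Over S} (a : N ⟶ H)
    (b : H ⟶ N) (hab : a ≫ b = 𝟙 N) (h : ConnectedSpace (Red.bc x H).left) :
    ConnectedSpace (Red.bc x N).left := by
  have h1 : (Over.pullback x).map a ≫ (Over.pullback x).map b = 𝟙 _ := by
    rw [← Functor.map_comp, hab, CategoryTheory.Functor.map_id]
  have h2 : Function.Surjective ((Over.pullback x).map b).left := by
    intro y
    refine ⟨((Over.pullback x).map a).left y, ?_⟩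
    rw [← Scheme.Hom.comp_apply]
    have : ((Over.pullback x).map a).left ≫ ((Over.pullback x).map b).left = 𝟙 _ :=
      congrArg CommaMorphism.left h1
    rw [this]
    rfl
  exact h2.connectedSpace ((Over.pullback x).map b).left.continuous

/-- A flat, locally finitely presented, separated group with trivial fibres is trivial. -/
theorem isTrivialGrp_of_fibres (N : Over S) [GrpObj N] [Flat N.hom]
    [LocallyOfFiniteType N.hom] [IsSeparated N.hom]
    (h : ∀ s : S, ∃ (K : Type u) (_ : Field K) (x : Spec (CommRingCat.of K) ⟶ S),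
      x (IsLocalRing.closedPoint K) = s ∧ Red.IsTrivialGrp (Red.bc x N)) : Red.IsTrivialGrp N := by
  have hη : η[N].left ≫ N.hom = 𝟙 S := Over.w η[N]
  have hcl : IsClosedImmersion η[N].left := by
    have : IsClosedImmersion (η[N].left ≫ N.hom) := by
      rw [hη]
      exact inferInstanceAs (IsClosedImmersion (𝟙 S))
    exact .of_comp _ N.hom
  have hfl : Flat (𝟙_ (Over S)).hom := inferInstanceAs (Flat (𝟙 S))
  have hfp : LocallyOfFinitePresentation (𝟙_ (Over S)).hom :=
    inferInstanceAs (LocallyOfFinitePresentation (𝟙 S))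
  have h1 : IsIso η[N] := by
    refine FibIsoSch.isIso_of_fibres η[N] fun s => ?_
    obtain ⟨K, _, x, hx, hN⟩ := h s
    refine ⟨K, inferInstance, x, hx, ?_⟩
    have h2 : IsIso ((Over.pullback x).map η[N] ≫ (Over.pullback x).map (toUnit N)) := by
      rw [← Functor.map_comp]
      have : η[N] ≫ toUnit N = 𝟙 _ := Subsingleton.elim _ _
      rw [this]
      infer_instance
    have h3 : IsIso ((Over.pullback x).map (toUnit N)) := by
      have h4 : ((Over.pullback x).map (toUnit N)).left ≫ ((Over.pullback x).obj (𝟙_ (Over S))).hom =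
        (Red.bc x N).hom := Over.w _
      have h5 : IsIso ((Over.pullback x).obj (𝟙_ (Over S))).hom :=
        inferInstanceAs (IsIso (pullback.snd (𝟙 S) x))
      have h6 : IsIso (((Over.pullback x).map (toUnit N)).left ≫
          ((Over.pullback x).obj (𝟙_ (Over S))).hom) := by
        rw [h4]
        exact hN
      have h7 : IsIso ((Over.pullback x).map (toUnit N)).left :=
        IsIso.of_isIso_comp_right _ ((Over.pullback x).obj (𝟙_ (Over S))).hom
      have h8 : IsIso ((Over.forget _).map ((Over.pullback x).map (toUnit N))) := h7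
      exact isIso_of_reflects_iso _ (Over.forget _)
    exact IsIso.of_isIso_comp_right _ ((Over.pullback x).map (toUnit N))
  have h2 : IsIso η[N].left := inferInstanceAs (IsIso ((Over.forget S).map η[N]))
  have h3 : IsIso (η[N].left ≫ N.hom) := by
    rw [hη]
    exact inferInstanceAs (IsIso (𝟙 S))
  exact IsIso.of_isIso_comp_left η[N].left N.hom

end Schemes

end Groth.Agent.Sga3B.Parab.Retr
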