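import Groth.Agent.Sga3B.GrDynInner678
import Mathlib.RingTheory.MvPolynomial.WeightedHomogeneous
import Mathlib.RingTheory.MvPolynomial.Ideal
import Mathlib.RingTheory.GradedAlgebra.Homogeneous.Ideal
import Mathlib.RingTheory.FinitePresentation

/-!
# A smooth positively graded algebra is a retract of a polynomial algebra

`B = A ⊕ B₁ ⊕ B₂ ⊕ ⋯` a graded algebra, smooth over its degree zero part `A`.  Then there are
algebra maps `B → A[x₁, …, xₙ] → B` with composition the identity.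
-/

set_option autoImplicit false

universe u v

open Groth.Agent.Sga3B.GrDynAlg678 Groth.Agent.Sga3B.GrDynInner678

namespace Groth.Agent.Sga3B.Parab.Retract

section Lift

variable {k : Type*} [CommRing k] {M : Type*} [AddCommGroup M] [DecidableEq M]
variable {R : Type*} [CommRing R] [Algebra k R] (𝒜 : M → Submodule k R) [GradedAlgebra 𝒜]

/-- the coaction attached to a grading -/
lemma exists_co : ∃ co : R →ₐ[k] AddMonoidAlgebra R M, ∀ a m, (co a).coeff m = pr 𝒜 m a := by
  obtain ⟨co, hco⟩ := exists_algHom 𝒜 (R := AddMonoidAlgebra R M) (fun m =>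
    { toFun := fun a => AddMonoidAlgebra.single m a
      map_add' := fun a b => by simp
      map_smul' := fun c a => by simp }) rfl (by
      intro i j a b _ _
      simp [AddMonoidAlgebra.single_mul_single])
  refine ⟨co, fun a m => ?_⟩
  let f : R →ₗ[k] R :=
    { toFun := fun a => (co a).coeff m
      map_add' := fun a b => by simp
      map_smul' := fun c a => by simp }
  have h : f = pr 𝒜 m := by
    apply linearMap_ext 𝒜
    intro n a ha
    change (co a).coeff m = _
    rw [hco n a ha]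
    change (AddMonoidAlgebra.single n a).coeff m = _
    by_cases hnm : n = m
    · subst hnm
      rw [pr_same 𝒜 ha]
      simp
    · rw [pr_ne 𝒜 ha hnm]
      simp [AddMonoidAlgebra.coeff_single, hnm]
  exact DFunLike.congr_fun h a

variable {𝒜} {R' : Type*} [CommRing R'] [Algebra k R'] {𝒜' : M → Submodule k R'}
  [GradedAlgebra 𝒜']

lemma map_pr (q : R →ₐ[k] R') (hq : ∀ m a, a ∈ 𝒜 m → q a ∈ 𝒜' m) (a : R) (m : M) :
    q (pr 𝒜 m a) = pr 𝒜' m (q a) := by
  have h : q.toLinearMap ∘ₗ pr 𝒜 m = pr 𝒜' m ∘ₗ q.toLinearMap := by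
    apply linearMap_ext 𝒜
    intro n a ha
    change q (pr 𝒜 m a) = pr 𝒜' m (q a)
    by_cases hnm : n = m
    · subst hnm
      rw [pr_same 𝒜 ha, pr_same 𝒜' (hq n a ha)]
    · rw [pr_ne 𝒜 ha hnm, pr_ne 𝒜' (hq n a ha) hnm, map_zero]
  exact DFunLike.congr_fun h a

/-- graded lifting along square-zero extensions -/
theorem exists_graded_lift {B : Type*} [CommRing B] [Algebra k B] (ℬ : M → Submodule k B)
    [GradedAlgebra ℬ] [Algebra.FormallySmooth k B] (q : R →ₐ[k] R')
    (hqs : Function.Surjective q) (hq : ∀ m a, a ∈ 𝒜 m → q a ∈ 𝒜' m)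
    (hq2 : (RingHom.ker (q : R →+* R')) ^ 2 = ⊥) (g : B →ₐ[k] R')
    (hg : ∀ m b, b ∈ ℬ m → g b ∈ 𝒜' m) :
    ∃ g' : B →ₐ[k] R, (∀ m b, b ∈ ℬ m → g' b ∈ 𝒜 m) ∧ q.comp g' = g := by
  let g₀ : B →ₐ[k] R := Algebra.FormallySmooth.liftOfSurjective g q hqs ⟨2, hq2⟩
  have hg₀ : ∀ b, q (g₀ b) = g b := fun b =>
    Algebra.FormallySmooth.liftOfSurjective_apply g q hqs ⟨2, hq2⟩ b
  obtain ⟨co, hco⟩ := exists_co 𝒜
  obtain ⟨g', hg'⟩ := exists_diag ℬ (RingHom.ker (q : R →+* R')) (by
      intro x hx y hy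
      have h1 := Ideal.mul_mem_mul hx hy
      rw [← pow_two, hq2] at h1
      exact h1) (co.comp g₀) (by
      intro i a ha m hm
      change (co (g₀ a)).coeff m ∈ _
      rw [hco, RingHom.mem_ker]
      change q (pr 𝒜 m (g₀ a)) = 0
      rw [map_pr (𝒜' := 𝒜') q hq, hg₀, pr_ne 𝒜' (hg i a ha) (Ne.symm hm)])
  have hg'' : ∀ m b, b ∈ ℬ m → g' b = pr 𝒜 m (g₀ b) := by
    intro m b hb
    rw [hg' m b hb]
    exact hco _ _
  refine ⟨g', fun m b hb => ?_, ?_⟩
  · rw [hg'' m b hb]
    exact pr_mem 𝒜 m _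
  · apply algHom_ext ℬ
    intro m b hb
    change q (g' b) = g b
    rw [hg'' m b hb, map_pr (𝒜' := 𝒜') q hq, hg₀, pr_same 𝒜' (hg m b hb)]

end Lift

section Poly

variable {A : Type*} [CommRing A] {n : ℕ} (w : Fin n → ℤ)

attribute [local instance] MvPolynomial.weightedGradedAlgebra

open MvPolynomial

lemma aeval_mem {B : Type*} [CommRing B] [Algebra A B] (ℬ : ℤ → Submodule A B) [GradedAlgebra ℬ]
    (b : Fin n → B) (hb : ∀ i, b i ∈ ℬ (w i)) {m : ℤ} {p : MvPolynomial (Fin n) A}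
    (hp : p ∈ weightedHomogeneousSubmodule A w m) : aeval b p ∈ ℬ m := by
  rw [aeval_def, eval₂_eq']
  refine Submodule.sum_mem _ fun d hd => ?_
  rw [← Algebra.smul_def]
  refine Submodule.smul_mem _ _ ?_
  have h1 : Finsupp.weight w d = m := hp (mem_support_iff.1 hd)
  have h2 : (∏ i, b i ^ d i) ∈ ℬ (∑ i, d i • w i) :=
    SetLike.prod_mem_graded ℬ _ _ fun i _ => SetLike.pow_mem_graded _ (hb i)
  rw [← h1, Finsupp.weight_eq_sum]
  exact h2

lemma eq_zero_of_mem_pow (hw : ∀ i, 0 < w i) {m : ℤ} {N : ℕ} (hm : m < N)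
    {p : MvPolynomial (Fin n) A} (hp : p ∈ weightedHomogeneousSubmodule A w m)
    (hp' : p ∈ idealOfVars (Fin n) A ^ N) : p = 0 := by
  by_contra hne
  obtain ⟨d, hd⟩ := support_nonempty.2 hne
  have h1 : Finsupp.weight w d = m := hp (mem_support_iff.1 hd)
  have h2 : N ≤ d.degree := (mem_pow_idealOfVars_iff N p).1 hp' d hd
  have h3 : (d.degree : ℤ) ≤ Finsupp.weight w d := by
    rw [Finsupp.weight_eq_sum, Finsupp.degree_eq_sum, Nat.cast_sum]
    refine Finset.sum_le_sum fun i _ => ?_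
    have := hw i
    rw [nsmul_eq_mul]
    nlinarith [Int.natCast_nonneg (d i)]
  omega

lemma isHomogeneous_pow {R : Type*} [CommRing R] [Algebra A R] (𝒜 : ℤ → Submodule A R)
    [GradedAlgebra 𝒜] {I : Ideal R} (hI : I.IsHomogeneous 𝒜) (N : ℕ) : (I ^ N).IsHomogeneous 𝒜 := by
  induction N with
  | zero =>
    rw [pow_zero, Ideal.one_eq_top]
    exact Ideal.IsHomogeneous.top 𝒜
  | succ N ih =>
    rw [pow_succ]
    exact ih.mul hI

variable {B : Type*} [CommRing B] [Algebra A B] (ℬ : ℤ → Submodule A B) [GradedAlgebra ℬ]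

/-- the map `P / K ^ N → B` -/
noncomputable def bar (b : Fin n → B) (N : ℕ) :
    MvPolynomial (Fin n) A ⧸ (RingHom.ker (aeval b : MvPolynomial (Fin n) A →ₐ[A] B)) ^ (N + 1) →ₐ[A]
      B :=
  Ideal.Quotient.liftₐ _ (aeval b) fun _ ha => Ideal.pow_le_self (Nat.succ_ne_zero N) ha

@[simp] lemma bar_mk (b : Fin n → B) (N : ℕ) (p : MvPolynomial (Fin n) A) :
    bar b N (Ideal.Quotient.mk _ p) = aeval b p := rfl

lemma isHomogeneous_ker (b : Fin n → B) (hb : ∀ i, b i ∈ ℬ (w i)) :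
    (RingHom.ker (aeval b : MvPolynomial (Fin n) A →ₐ[A] B)).IsHomogeneous
      (weightedHomogeneousSubmodule A w) := by
  intro m p hp
  change aeval b (pr (weightedHomogeneousSubmodule A w) m p) = 0
  have h1 : aeval b p = 0 := hp
  rw [map_pr (𝒜' := ℬ) _ (fun m p hp => aeval_mem w ℬ b hb hp), h1, map_zero]

lemma proj_mem_pow (b : Fin n → B) (hb : ∀ i, b i ∈ ℬ (w i)) (N : ℕ) :
    ∀ a ∈ (RingHom.ker (aeval b : MvPolynomial (Fin n) A →ₐ[A] B)) ^ N, ∀ m,
      GradedAlgebra.proj (weightedHomogeneousSubmodule A w) m a ∈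
        (RingHom.ker (aeval b : MvPolynomial (Fin n) A →ₐ[A] B)) ^ N := fun _ ha m =>
  isHomogeneous_pow (weightedHomogeneousSubmodule A w) (isHomogeneous_ker w ℬ b hb) N m ha

theorem exists_lift_pow [Algebra.FormallySmooth A B] (b : Fin n → B) (hb : ∀ i, b i ∈ ℬ (w i))
    (hs : Function.Surjective (aeval b : MvPolynomial (Fin n) A →ₐ[A] B)) (N : ℕ) :
    ∃ g : B →ₐ[A] MvPolynomial (Fin n) A ⧸
      (RingHom.ker (aeval b : MvPolynomial (Fin n) A →ₐ[A] B)) ^ (N + 1),
      (∀ m x, x ∈ ℬ m → g x ∈ quotGr (weightedHomogeneousSubmodule A w)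
        ((RingHom.ker (aeval b : MvPolynomial (Fin n) A →ₐ[A] B)) ^ (N + 1)) m) ∧
      (bar b N).comp g = AlgHom.id A B := by
  induction N with
  | zero =>
    have hbij : Function.Bijective (bar (A := A) b 0) := by
      constructor
      · rw [injective_iff_map_eq_zero]
        intro x hx
        obtain ⟨p, rfl⟩ := Ideal.Quotient.mk_surjective x
        rw [bar_mk] at hx
        rw [Ideal.Quotient.eq_zero_iff_mem, zero_add, pow_one]
        exact hx
      · intro x
        obtain ⟨p, rfl⟩ := hs x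
        exact ⟨Ideal.Quotient.mk _ p, rfl⟩
    let e := AlgEquiv.ofBijective _ hbij
    refine ⟨e.symm, ?_, ?_⟩
    · intro m x hx
      obtain ⟨p, rfl⟩ := hs x
      refine ⟨pr (weightedHomogeneousSubmodule A w) m p, pr_mem _ m p, ?_⟩
      apply e.injective
      change e _ = e (e.symm _)
      rw [e.apply_symm_apply]
      change aeval b (pr (weightedHomogeneousSubmodule A w) m p) = _
      rw [map_pr (𝒜' := ℬ) _ (fun m p hp => aeval_mem w ℬ b hb hp), pr_same ℬ hx]
    · ext x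
      exact e.apply_symm_apply x
  | succ N ih =>
    obtain ⟨g, hg1, hg2⟩ := ih
    let K := RingHom.ker (aeval b : MvPolynomial (Fin n) A →ₐ[A] B)
    let _ := quotGraded (weightedHomogeneousSubmodule A w) (proj_mem_pow w ℬ b hb (N + 1))
    let _ := quotGraded (weightedHomogeneousSubmodule A w) (proj_mem_pow w ℬ b hb (N + 1 + 1))
    have hle : K ^ (N + 1 + 1) ≤ K ^ (N + 1) := Ideal.pow_le_pow_right (Nat.le_succ _)
    obtain ⟨g', h1, h2⟩ := exists_graded_lift (𝒜 := quotGr (weightedHomogeneousSubmodule A w)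
      (K ^ (N + 1 + 1))) (𝒜' := quotGr (weightedHomogeneousSubmodule A w) (K ^ (N + 1))) ℬ
      (Ideal.Quotient.factorₐ A hle) (Ideal.Quotient.factor_surjective hle) (by
        rintro m _ ⟨a, ha, rfl⟩
        exact ⟨a, ha, rfl⟩) (by
        have h3 : RingHom.ker (Ideal.Quotient.factorₐ A hle :
            MvPolynomial (Fin n) A ⧸ K ^ (N + 1 + 1) →+* MvPolynomial (Fin n) A ⧸ K ^ (N + 1)) ≤
            (K ^ (N + 1)).map (Ideal.Quotient.mk (K ^ (N + 1 + 1))) := by
          intro x hx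
          obtain ⟨p, rfl⟩ := Ideal.Quotient.mk_surjective x
          apply Ideal.mem_map_of_mem
          exact Ideal.Quotient.eq_zero_iff_mem.1 hx
        rw [eq_bot_iff]
        refine (Ideal.pow_right_mono h3 2).trans ?_
        rw [← Ideal.map_pow, ← pow_mul, Ideal.map_le_iff_le_comap]
        intro x hx
        rw [Ideal.mem_comap, Ideal.mem_bot, Ideal.Quotient.eq_zero_iff_mem]
        exact Ideal.pow_le_pow_right (by omega) hx) g hg1
    refine ⟨g', h1, ?_⟩
    have h3 : bar b (N + 1) = (bar b N).comp (Ideal.Quotient.factorₐ A hle) := by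
      apply Ideal.Quotient.algHom_ext
      ext
      rfl
    rw [h3, AlgHom.comp_assoc, h2, hg2]

theorem exists_section [Algebra.FormallySmooth A B] (b : Fin n → B) (hw : ∀ i, 0 < w i)
    (hb : ∀ i, b i ∈ ℬ (w i))
    (hs : Function.Surjective (aeval b : MvPolynomial (Fin n) A →ₐ[A] B))
    (hK : RingHom.ker (aeval b : MvPolynomial (Fin n) A →ₐ[A] B) ≤ idealOfVars (Fin n) A)
    (hfg : (RingHom.ker (aeval b : MvPolynomial (Fin n) A →ₐ[A] B)).FG) :
    ∃ i : B →ₐ[A] MvPolynomial (Fin n) A, (aeval b).comp i = AlgHom.id A B := by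
  classical
  set K := RingHom.ker (aeval b : MvPolynomial (Fin n) A →ₐ[A] B) with hKdef
  obtain ⟨t, ht⟩ := hfg
  have hN1 : ∀ a : MvPolynomial (Fin n) A, ∃ N : ℕ, ∀ m : ℤ, (N : ℤ) ≤ m →
      pr (weightedHomogeneousSubmodule A w) m a = 0 := by
    intro a
    refine ⟨(supp (weightedHomogeneousSubmodule A w) a).sup fun m => (m + 1).toNat, ?_⟩
    intro m hm
    apply pr_eq_zero_of_notMem
    intro hmem
    have h1 := Finset.le_sup (f := fun m : ℤ => (m + 1).toNat) hmem
    have h2 : m + 1 ≤ ((m + 1).toNat : ℤ) := Int.self_le_toNat _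
    have h3 : (((m + 1).toNat : ℕ) : ℤ) ≤
      ((supp (weightedHomogeneousSubmodule A w) a).sup fun m => (m + 1).toNat : ℕ) :=
      Int.ofNat_le.2 h1
    omega
  choose N₀ hN₀ using hN1
  let N : ℕ := t.sup N₀
  obtain ⟨g, hg1, hg2⟩ := exists_lift_pow w ℬ b hb hs N
  choose p hp1 hp2 using fun i => hg1 (w i) (b i) (hb i)
  let s : MvPolynomial (Fin n) A →ₐ[A] MvPolynomial (Fin n) A := aeval p
  have hmk : ∀ x, Ideal.Quotient.mk (K ^ (N + 1)) (s x) = g (aeval b x) := by
    have h1 : (Ideal.Quotient.mkₐ A (K ^ (N + 1))).comp s = g.comp (aeval b) := by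
      ext i
      rw [AlgHom.comp_apply, AlgHom.comp_apply, aeval_X, aeval_X]
      exact hp2 i
    exact fun x => DFunLike.congr_fun h1 x
  have hsK : ∀ x ∈ K, s x = 0 := by
    have h1 : K ≤ RingHom.ker s := by
      rw [← ht, Ideal.span_le]
      intro a ha
      change s a = 0
      rw [← sum_pr (weightedHomogeneousSubmodule A w) a, map_sum]
      refine Finset.sum_eq_zero fun m _ => ?_
      by_cases hm : (N : ℤ) ≤ m
      · rw [hN₀ a m, map_zero]
        refine le_trans ?_ hm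
        exact Int.ofNat_le.2 (Finset.le_sup ha)
      · push Not at hm
        refine eq_zero_of_mem_pow w hw (N := N + 1) (by push_cast; omega)
          (aeval_mem w (weightedHomogeneousSubmodule A w) p hp1 (pr_mem _ m a)) ?_
        apply Ideal.pow_right_mono hK
        rw [← Ideal.Quotient.eq_zero_iff_mem]
        refine (hmk _).trans ?_
        have haK : a ∈ K := ht ▸ Ideal.subset_span ha
        have h2 : aeval b (pr (weightedHomogeneousSubmodule A w) m a) = 0 :=
          isHomogeneous_ker w ℬ b hb m haK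
        rw [h2, map_zero]
    exact h1
  let e := Ideal.quotientKerAlgEquivOfSurjective hs
  let i : B →ₐ[A] MvPolynomial (Fin n) A :=
    (Ideal.Quotient.liftₐ K s hsK).comp (e.symm : B →ₐ[A] _)
  have hi : ∀ x, i (aeval b x) = s x := by
    intro x
    have h1 : e.symm (aeval b x) = Ideal.Quotient.mk _ x := by
      apply e.injective
      rw [e.apply_symm_apply]
      rfl
    change Ideal.Quotient.liftₐ K s hsK (e.symm (aeval b x)) = s x
    rw [h1]
    rfl
  have h3 : (aeval b).comp s = aeval b := by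
    ext j
    rw [AlgHom.comp_apply]
    change aeval b (aeval p (X j)) = _
    rw [aeval_X, aeval_X]
    have h4 : bar b N (Ideal.Quotient.mk _ (p j)) = b j := by
      have h5 := DFunLike.congr_fun hg2 (b j)
      rw [AlgHom.comp_apply, ← hp2 j] at h5
      exact h5
    exact h4
  refine ⟨i, ?_⟩
  ext x
  obtain ⟨y, rfl⟩ := hs x
  rw [AlgHom.comp_apply, hi]
  exact DFunLike.congr_fun h3 y

end Poly

section Final

open MvPolynomial

variable {A : Type*} [CommRing A] {B : Type*} [CommRing B] [Algebra A B]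
variable (ℬ : ℤ → Submodule A B) [GradedAlgebra ℬ]

lemma exists_gens [hft : Algebra.FiniteType A B] (hneg : ∀ m < 0, ∀ x ∈ ℬ m, x = 0)
    (h0 : ∀ x ∈ ℬ 0, ∃ c, algebraMap A B c = x) :
    ∃ (n : ℕ) (w : Fin n → ℤ) (b : Fin n → B), (∀ i, 0 < w i) ∧ (∀ i, b i ∈ ℬ (w i)) ∧
      Function.Surjective (aeval b : MvPolynomial (Fin n) A →ₐ[A] B) := by
  classical
  obtain ⟨s, hs⟩ := hft.out
  let s' : Finset B := s.biUnion fun a => ((supp ℬ a).filter (0 < ·)).image fun m => pr ℬ m a
  have hs' : ∀ x ∈ s', ∃ m : ℤ, 0 < m ∧ x ∈ ℬ m := by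
    intro x hx
    simp only [s', Finset.mem_biUnion, Finset.mem_image, Finset.mem_filter] at hx
    obtain ⟨a, -, m, ⟨-, hm⟩, rfl⟩ := hx
    exact ⟨m, hm, pr_mem ℬ m a⟩
  let e := s'.equivFin
  choose w hw1 hw2 using fun i : Fin s'.card => hs' (e.symm i) (e.symm i).2
  refine ⟨s'.card, w, fun i => e.symm i, hw1, hw2, ?_⟩
  rw [← AlgHom.range_eq_top, eq_top_iff, ← hs, Algebra.adjoin_le_iff]
  intro a ha
  change a ∈ (aeval fun i => ((e.symm i : s') : B) : MvPolynomial (Fin s'.card) A →ₐ[A] B).range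
  rw [← sum_pr ℬ a]
  refine Subalgebra.sum_mem _ fun m hm => ?_
  rcases lt_trichotomy m 0 with h | h | h
  · rw [hneg m h _ (pr_mem ℬ m a)]
    exact zero_mem _
  · subst h
    obtain ⟨c, hc⟩ := h0 _ (pr_mem ℬ 0 a)
    rw [← hc]
    exact Subalgebra.algebraMap_mem _ c
  · have h1 : pr ℬ m a ∈ s' := by
      simp only [s', Finset.mem_biUnion, Finset.mem_image, Finset.mem_filter]
      exact ⟨a, ha, m, ⟨hm, h⟩, rfl⟩
    refine ⟨X (e ⟨_, h1⟩), ?_⟩
    change aeval _ (X (e ⟨_, h1⟩)) = _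
    rw [aeval_X, Equiv.symm_apply_apply]

/-- A smooth positively graded algebra is a retract of a polynomial algebra. -/
theorem exists_retract [Algebra.FormallySmooth A B] [Algebra.FinitePresentation A B]
    (hneg : ∀ m < 0, ∀ x ∈ ℬ m, x = 0) (h0 : ∀ x ∈ ℬ 0, ∃ c, algebraMap A B c = x)
    (ε : B →ₐ[A] A) (hε : ∀ m > 0, ∀ x ∈ ℬ m, ε x = 0) :
    ∃ (n : ℕ) (i : B →ₐ[A] MvPolynomial (Fin n) A) (r : MvPolynomial (Fin n) A →ₐ[A] B),
      r.comp i = AlgHom.id A B := by
  obtain ⟨n, w, b, hw, hb, hs⟩ := exists_gens ℬ hneg h0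
  obtain ⟨i, hi⟩ := exists_section w ℬ b hw hb hs (by
    intro x hx
    rw [← pow_one (idealOfVars (Fin n) A), mem_pow_idealOfVars_iff]
    intro d hd
    by_contra hd0
    have hd1 : d = 0 := by
      rw [← Finsupp.degree_eq_zero_iff]
      omega
    subst hd1
    rw [mem_support_iff] at hd
    apply hd
    have h1 : ε.comp (aeval b) = aeval (fun _ => (0 : A)) := by
      ext j
      rw [AlgHom.comp_apply, aeval_X, aeval_X]
      exact hε _ (hw j) _ (hb j)
    have h2 := DFunLike.congr_fun h1 x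
    rw [AlgHom.comp_apply, show aeval b x = 0 from hx, map_zero] at h2
    rw [← constantCoeff_eq]
    have h3 : (aeval (fun _ => (0 : A)) : MvPolynomial (Fin n) A →ₐ[A] A) x = constantCoeff x := by
      have h4 := aeval_zero' (S₁ := A) x
      exact h4
    rw [h3] at h2
    exact h2.symm) (Algebra.FinitePresentation.ker_fG_of_surjective _ hs)
  exact ⟨n, i, _, hi⟩

end Final

end Groth.Agent.Sga3B.Parab.Retract
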