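import Groth.Agent.Sga3B.Parab.Retract
import Groth.Agent.Sga3B.Parab.ConjSL
import Groth.Agent.Sga3B.Desc
import Groth.Agent.Books.AffBridge
import Mathlib.Algebra.MvPolynomial.Funext
import Mathlib.RingTheory.Polynomial.Quotient

/-!
# Sections of retracts of affine spaces over semi-local rings

If `A` is semi-local with infinite residue fields and `B` is a retract of a polynomial algebra over
`A`, then there are sections of `Spec B` over `Spec A` through any open subset meeting the closed
fibres.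
-/

set_option autoImplicit false

universe u v

open CategoryTheory MonoidalCategory CartesianMonoidalCategory MonObj GrpObj AlgebraicGeometry
open scoped TensorProduct
open Groth.Agent.Books.AffBridge

namespace Groth.Agent.Sga3B.Parab.SecThrough

section Alg

open MvPolynomial

variable (A : Type u) [CommRing A] (B : Type u) [CommRing B] [Algebra A B]

/-- `B` is a retract of a polynomial algebra in finitely many variables. -/
def IsRetract : Prop :=
  ∃ (σ : Type) (_ : Finite σ) (i : B →ₐ[A] MvPolynomial σ A) (r : MvPolynomial σ A →ₐ[A] B),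
    r.comp i = AlgHom.id A B

variable {A B}

lemma IsRetract.tensor {C : Type u} [CommRing C] [Algebra A C] (hB : IsRetract A B)
    (hC : IsRetract A C) : IsRetract A (B ⊗[A] C) := by
  obtain ⟨σ, _, i, r, hr⟩ := hB
  obtain ⟨τ, _, i', r', hr'⟩ := hC
  let I : B ⊗[A] C →ₐ[A] MvPolynomial (σ ⊕ τ) A :=
    Algebra.TensorProduct.productMap ((rename Sum.inl).comp i) ((rename Sum.inr).comp i')
  let ρ : MvPolynomial (σ ⊕ τ) A →ₐ[A] B ⊗[A] C :=
    aeval (Sum.elim (fun s => r (X s) ⊗ₜ 1) (fun t => 1 ⊗ₜ r' (X t)))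
  have h1 : ρ.comp (rename Sum.inl) =
      (Algebra.TensorProduct.includeLeft : B →ₐ[A] B ⊗[A] C).comp r := by
    ext s
    simp [ρ]
  have h2 : ρ.comp (rename Sum.inr) =
      (Algebra.TensorProduct.includeRight : C →ₐ[A] B ⊗[A] C).comp r' := by
    ext s
    simp [ρ]
  refine ⟨σ ⊕ τ, inferInstance, I, ρ, ?_⟩
  apply Algebra.TensorProduct.ext'
  intro b c
  have h3 : I (b ⊗ₜ c) = rename Sum.inl (i b) * rename Sum.inr (i' c) := by
    simp [I]
  rw [AlgHom.comp_apply, h3, map_mul]
  have h4 : ρ (rename Sum.inl (i b)) = b ⊗ₜ 1 := by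
    have := DFunLike.congr_fun h1 (i b)
    rw [AlgHom.comp_apply, AlgHom.comp_apply] at this
    rw [this]
    have h5 := DFunLike.congr_fun hr b
    rw [AlgHom.comp_apply] at h5
    rw [h5]
    rfl
  have h5 : ρ (rename Sum.inr (i' c)) = 1 ⊗ₜ c := by
    have := DFunLike.congr_fun h2 (i' c)
    rw [AlgHom.comp_apply, AlgHom.comp_apply] at this
    rw [this]
    have h5 := DFunLike.congr_fun hr' c
    rw [AlgHom.comp_apply] at h5
    rw [h5]
    rfl
  rw [h4, h5]
  simp

/-- points of a retract of an affine space over a semi-local ring -/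
theorem exists_algHom_notMem (hA : {m : Ideal A | m.IsMaximal}.Finite)
    (hinf : ∀ m : Ideal A, m.IsMaximal → Infinite (A ⧸ m)) (hB : IsRetract A B)
    (f : Ideal A → B) (hf : ∀ m : Ideal A, m.IsMaximal → f m ∉ m.map (algebraMap A B)) :
    ∃ φ : B →ₐ[A] A, ∀ m : Ideal A, m.IsMaximal → φ (f m) ∉ m := by
  obtain ⟨σ, _, i, r, hr⟩ := hB
  have key : ∀ m : Ideal A, m.IsMaximal → ∃ a : σ → A, aeval a (i (f m)) ∉ m := by
    intro m hm
    let _ : Field (A ⧸ m) := Ideal.Quotient.field m
    have := hinf m hm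
    by_contra hcon
    push Not at hcon
    have h1 : MvPolynomial.map (Ideal.Quotient.mk m) (i (f m)) = 0 := by
      apply MvPolynomial.funext
      intro x
      choose y hy using fun s => Ideal.Quotient.mk_surjective (x s)
      have h2 := hcon y
      rw [map_zero, MvPolynomial.eval_map]
      have h3 : x = fun s => Ideal.Quotient.mk m (y s) := funext fun s => (hy s).symm
      rw [h3]
      have h4 : eval₂ (Ideal.Quotient.mk m) (fun s => Ideal.Quotient.mk m (y s)) (i (f m)) =
          Ideal.Quotient.mk m (aeval y (i (f m))) := by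
        rw [aeval_def, Algebra.algebraMap_self, hom_eval₂, RingHomCompTriple.comp_eq]
      rw [h4, Ideal.Quotient.eq_zero_iff_mem]
      exact h2
    have h2 : i (f m) ∈ m.map (MvPolynomial.C : A →+* MvPolynomial σ A) := by
      rw [MvPolynomial.mem_map_C_iff]
      intro d
      have h3 := congrArg (fun p => p.coeff d) h1
      change coeff d (MvPolynomial.map (Ideal.Quotient.mk m) (i (f m))) = coeff d 0 at h3
      rw [coeff_map, coeff_zero] at h3
      exact Ideal.Quotient.eq_zero_iff_mem.1 h3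
    apply hf m hm
    have h3 := Ideal.mem_map_of_mem r.toRingHom h2
    rw [Ideal.map_map] at h3
    have h4 : r.toRingHom.comp MvPolynomial.C = algebraMap A B := r.comp_algebraMap
    rw [h4] at h3
    have h5 := DFunLike.congr_fun hr (f m)
    rw [← h5.symm.trans (by rfl : _ = r.toRingHom (i (f m)))]  at h3
    exact h3
  choose! a ha using key
  have : Finite {m : Ideal A | m.IsMaximal} := hA
  have hcop : Pairwise (Function.onFun IsCoprime fun m : {m : Ideal A | m.IsMaximal} => m.1) := by
    intro m m' hne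
    rw [Function.onFun, Ideal.isCoprime_iff_sup_eq]
    exact Ideal.IsMaximal.coprime_of_ne m.2 m'.2 fun h => hne (Subtype.ext h)
  choose c hc using fun s : σ =>
    Ideal.exists_forall_sub_mem_ideal hcop fun m : {m : Ideal A | m.IsMaximal} => a m.1 s
  refine ⟨(aeval c).comp i, fun m hm hmem => ha m hm ?_⟩
  rw [AlgHom.comp_apply] at hmem
  rw [← Ideal.Quotient.eq_zero_iff_mem] at hmem ⊢
  rw [← hmem]
  have h6 : ∀ y : σ → A, Ideal.Quotient.mk m (aeval y (i (f m))) =
      eval₂ (Ideal.Quotient.mk m) (fun s => Ideal.Quotient.mk m (y s)) (i (f m)) := by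
    intro y
    rw [aeval_def, Algebra.algebraMap_self, hom_eval₂, RingHomCompTriple.comp_eq]
  rw [h6, h6]
  congr 1
  funext s
  have := hc s ⟨m, hm⟩
  exact (Ideal.Quotient.eq.2 this).symm

end Alg

section Sch

variable {A : Type u} [CommRing A]

/-- `X` is the spectrum of a retract of a polynomial algebra. -/
def IsAffRet (X : Over (Spec (CommRingCat.of A))) : Prop :=
  ∃ (B : Type u) (_ : CommRing B) (_ : Algebra A B), IsRetract A B ∧ Nonempty (X ≅ SpecOver A B)

lemma IsAffRet.tensor {X Y : Over (Spec (CommRingCat.of A))} (hX : IsAffRet X)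
    (hY : IsAffRet Y) : IsAffRet (X ⊗ Y) := by
  obtain ⟨B, _, _, hB, ⟨e⟩⟩ := hX
  obtain ⟨C, _, _, hC, ⟨e'⟩⟩ := hY
  exact ⟨B ⊗[A] C, inferInstance, inferInstance, hB.tensor hC,
    ⟨MonoidalCategory.tensorIso e e' ≪≫ Desc.prodIso (R := CommRingCat.of A) B C⟩⟩

theorem IsAffRet.secThrough (hA : {m : Ideal A | m.IsMaximal}.Finite)
    (hinf : ∀ m : Ideal A, m.IsMaximal → Infinite (A ⧸ m))
    {X : Over (Spec (CommRingCat.of A))} (hX : IsAffRet X) : ConjSL.SecThrough X := by
  intro W hW
  obtain ⟨B, _, _, hB, ⟨e⟩⟩ := hX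
  let W' : (SpecOver A B).left.Opens := e.inv.left ⁻¹ᵁ W
  have key : ∀ m : Ideal A, m.IsMaximal → ∃ f : B, f ∉ m.map (algebraMap A B) ∧
      ∀ x : PrimeSpectrum B, f ∉ x.asIdeal → (show (SpecOver A B).left from x) ∈ W' := by
    intro m hm
    obtain ⟨w, hw, hws⟩ := hW (⟨m, hm.isPrime⟩ : PrimeSpectrum A)
    let w' : PrimeSpectrum B := e.hom.left w
    have hw' : (show (SpecOver A B).left from w') ∈ W' := by
      change e.inv.left (e.hom.left w) ∈ W
      rw [← Scheme.Hom.comp_apply, ← Over.comp_left, e.hom_inv_id]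
      exact hw
    obtain ⟨_, ⟨f, rfl⟩, hf1, hf2⟩ :=
      PrimeSpectrum.isTopologicalBasis_basic_opens.exists_subset_of_mem_open
        (show w' ∈ ((W' : Set (SpecOver A B).left) : Set (PrimeSpectrum B)) from hw') W'.isOpen
    refine ⟨f, fun hf => ?_, fun x hx => hf2 hx⟩
    apply hf1
    have h1 : (SpecOver A B).hom w' = (⟨m, hm.isPrime⟩ : PrimeSpectrum A) := by
      rw [← hws, ← Over.w e.hom, Scheme.Hom.comp_apply]
    have h2 : m.map (algebraMap A B) ≤ w'.asIdeal := by
      rw [Ideal.map_le_iff_le_comap]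
      have h3 : (PrimeSpectrum.comap (algebraMap A B) w').asIdeal = m :=
        congrArg PrimeSpectrum.asIdeal h1
      rw [PrimeSpectrum.comap_asIdeal] at h3
      exact h3.ge
    exact h2 hf
  choose! f hf1 hf2 using key
  obtain ⟨φ, hφ⟩ := exists_algHom_notMem hA hinf hB f hf1
  have hcomp : Spec.map (CommRingCat.ofHom φ.toRingHom) ≫ (SpecOver A B).hom = 𝟙 _ := by
    change Spec.map (CommRingCat.ofHom φ.toRingHom) ≫
      Spec.map (CommRingCat.ofHom (algebraMap A B)) = 𝟙 _
    rw [← Spec.map_comp, ← CommRingCat.ofHom_comp]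
    have : φ.toRingHom.comp (algebraMap A B) = RingHom.id A := φ.comp_algebraMap
    rw [this]
    exact Spec.map_id _
  let a : 𝟙_ (Over (Spec (CommRingCat.of A))) ⟶ SpecOver A B :=
    Over.homMk (Spec.map (CommRingCat.ofHom φ.toRingHom)) hcomp
  refine ⟨a ≫ e.inv, fun s hs => ?_⟩
  have hs' : (show PrimeSpectrum A from s).asIdeal.IsMaximal :=
    (PrimeSpectrum.isClosed_singleton_iff_isMaximal _).1 hs
  have h1 := hf2 _ hs' (PrimeSpectrum.comap φ.toRingHom s) (hφ _ hs')
  rw [Over.comp_left, Scheme.Hom.comp_apply]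
  exact h1

end Sch

end Groth.Agent.Sga3B.Parab.SecThrough
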