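import Groth.Agent.Sga3B.DSRigid
import Groth.Agent.Sga3B.TorusBc
import Groth.Agent.Sga3B.Parab.Cone156

/-!
# The character group of a split torus over a non-empty base is free of finite rank
-/

set_option autoImplicit false
universe u
open CategoryTheory MonoidalCategory CartesianMonoidalCategory MonObj GrpObj AlgebraicGeometry Limits

namespace Groth.Agent.Sga3B.Parab.TorRank156

open InfConj InfConjFam DSPts DSRigid

section

variable {R : Type u} [CommRing R]

lemma univPt_DSmap {M N : Type} [AddCommGroup M] [AddCommGroup N] (φ : N →+ M) :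
    univPt R M ≫ Red.DSmap (Spec (.of R)) φ =
      charPt (C := R) ((MonoidAlgebra.of R (Multiplicative M)).comp (AddMonoidHom.toMultiplicative φ)) := by
  rw [univPt, charPt, dsEquiv_DSmap]
  rfl

lemma DSmap_injective [Nontrivial R] {M N : Type} [AddCommGroup M] [AddCommGroup N] {φ φ' : N →+ M}
    (h : Red.DSmap (Spec (.of R)) φ = Red.DSmap (Spec (.of R)) φ') : φ = φ' := by
  have h1 : univPt R M ≫ Red.DSmap (Spec (.of R)) φ = univPt R M ≫ Red.DSmap (Spec (.of R)) φ' := by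
    rw [h]
  rw [univPt_DSmap, univPt_DSmap] at h1
  have h2 := charPt_injective h1
  ext n
  have h3 := congr($h2 (Multiplicative.ofAdd n))
  have h4 : Function.Injective (MonoidAlgebra.of R (Multiplicative M)) := MonoidAlgebra.of_injective
  exact h4 h3

lemma DSmap_id (S : Scheme.{u}) (M : Type) [AddCommGroup M] : Red.DSmap S (AddMonoidHom.id M) = 𝟙 _ := by
  rw [← Category.id_comp (Red.DSmap S (AddMonoidHom.id M)), ← DSPts.dsEquiv_dsChar (𝟙 (Red.DS S M)),
    dsEquiv_DSmap]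
  rfl

lemma DSmap_comp (S : Scheme.{u}) {M N L : Type} [AddCommGroup M] [AddCommGroup N] [AddCommGroup L]
    (φ : M →+ N) (ψ : N →+ L) : Red.DSmap S (ψ.comp φ) = Red.DSmap S ψ ≫ Red.DSmap S φ := by
  rw [← Category.id_comp (Red.DSmap S (ψ.comp φ)), ← Category.id_comp (Red.DSmap S ψ ≫ _),
    ← DSPts.dsEquiv_dsChar (𝟙 (Red.DS S L)), dsEquiv_DSmap, ← Category.assoc, dsEquiv_DSmap, dsEquiv_DSmap]
  rfl

/-- Two isomorphic diagonalisable groups over a local ring have isomorphic character groups. -/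
theorem nonempty_addEquiv [IsLocalRing R] {M N : Type} [AddCommGroup M] [AddCommGroup N]
    {T : Over (Spec (.of R))} [GrpObj T] (hM : Red.IsSplitTorusWith M T) (hN : Red.IsSplitTorusWith N T) :
    Nonempty (M ≃+ N) := by
  obtain ⟨a⟩ := hM
  obtain ⟨b⟩ := hN
  let f : Grp.mk (Red.DS (Spec (.of R)) M) ≅ Grp.mk (Red.DS (Spec (.of R)) N) := a.symm ≪≫ b
  have h1 : IsMonHom f.hom.hom.hom := inferInstance
  have h2 : IsMonHom f.inv.hom.hom := inferInstance
  obtain ⟨φ, hφ⟩ := exists_eq_DSmap f.hom.hom.hom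
  obtain ⟨ψ, hψ⟩ := exists_eq_DSmap f.inv.hom.hom
  have h3 : f.hom.hom.hom ≫ f.inv.hom.hom = 𝟙 _ := by
    rw [← Grp.comp_hom_hom, f.hom_inv_id]; rfl
  have h4 : f.inv.hom.hom ≫ f.hom.hom.hom = 𝟙 _ := by
    rw [← Grp.comp_hom_hom, f.inv_hom_id]; rfl
  rw [hφ, hψ, ← DSmap_comp, ← DSmap_id] at h3 h4
  have h5 := DSmap_injective h3
  have h6 := DSmap_injective h4
  exact ⟨AddMonoidHom.toAddEquiv ψ φ h5 h6⟩

end

/-- **The character group of a torus over a non-empty base is free of finite rank.** -/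
theorem finite_free {S : Scheme.{u}} [Nonempty S] {Q : Over S} [GrpObj Q] {M : Type} [AddCommGroup M]
    (hQ : Red.IsTorus Q) (h : Red.IsSplitTorusWith M Q) : ∃ r : ℕ, Nonempty (M ≃+ (Fin r → ℤ)) := by
  obtain ⟨s⟩ := ‹Nonempty S›
  have h1 := TorusBc.isTorus_bc (Red.geomPt s) hQ
  obtain ⟨r, hr⟩ := TorusAlgClosed.exists_isSplitTorusWith h1
  exact ⟨r, nonempty_addEquiv (TorusAlgClosed.isSplitTorusWith_bc (Red.geomPt s) h) hr⟩

theorem hasCone {S : Scheme.{u}} [Nonempty S] {Q : Over S} [GrpObj Q] {M : Type} [AddCommGroup M]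
    (hQ : Red.IsTorus Q) (h : Red.IsSplitTorusWith M Q) : Cone156.HasCone M := by
  obtain ⟨r, ⟨e⟩⟩ := finite_free hQ h
  exact (Cone156.hasCone (Fin r → ℤ)).of_equiv e.symm

end Groth.Agent.Sga3B.Parab.TorRank156
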