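import Groth.Agent.Sga3B.Parab.OrbPar156
import Groth.Agent.Sga3B.Parab.TorRank156
import Groth.Agent.Sga3B.Parab.DynBc998
import Groth.Agent.Sga3B.Parab.DynLevi998
import Groth.Agent.Sga3B.Parab.RedCover147

/-!
# SGA 3 XXVI 6.2: assembly
-/

set_option autoImplicit false
set_option linter.unusedSectionVars false

universe u

open CategoryTheory MonoidalCategory CartesianMonoidalCategory MonObj GrpObj AlgebraicGeometry Limits
open Groth.Agent.Sga3B.Parab.DynExist998 Groth.Agent.Sga3B.Parab.DynBc998 Groth.Agent.Sga3B.Parab.DynLevi998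
open Groth.Agent.Sga3B.Parab.RedCover147

namespace Groth.Agent.Sga3B.Parab.OrbM156

variable {S : Scheme.{u}} {G : Over S} [GrpObj G] {M : Type} [AddCommGroup M] {J : Red.DS S M ⟶ G}
  [IsMonHom J]

/-- the local dynamic description of `P_T` -/
lemma isDynP_bc {T : Submonoid (Multiplicative M)} {lam : Red.Gm S ⟶ G} {V : S.Opens}
    (h : ∀ (X : Over S) (_ : Set.range X.hom ⊆ V) (g : X ⟶ G), PtT J T g ↔ PtP lam g)
    {P : Over S} [GrpObj P] {p : P ⟶ G} (h1 : IsMonHom p) (h2 : Mono p)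
    (hp : ∀ (X : Over S) (g : X ⟶ G), (∃ x : X ⟶ P, x ≫ p = g) ↔ PtT J T g) :
    IsDynP (bcLam lam V.ι) ((Over.pullback V.ι).map p) where
  isMonHom := inferInstance
  mono := inferInstance
  iff_ptP X g := by
    rw [exists_bc_iff, hp, ptP_bc_iff]
    refine h _ ?_ _
    rintro _ ⟨x, rfl⟩
    change (X.hom ≫ V.ι) x ∈ V
    exact (X.hom x).2

/-- the local dynamic description of the centralizer -/
lemma isDynZ_bc {T : Submonoid (Multiplicative M)} {lam : Red.Gm S ⟶ G} {V : S.Opens}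
    (h : ∀ (X : Over S) (_ : Set.range X.hom ⊆ V) (g : X ⟶ G), PtT J T g ↔ PtZ lam g)
    {P : Over S} [GrpObj P] {p : P ⟶ G} (h1 : IsMonHom p) (h2 : Mono p)
    (hp : ∀ (X : Over S) (g : X ⟶ G), (∃ x : X ⟶ P, x ≫ p = g) ↔ PtT J T g) :
    IsDynZ (bcLam lam V.ι) ((Over.pullback V.ι).map p) where
  isMonHom := inferInstance
  mono := inferInstance
  iff_ptZ X g := by
    rw [exists_bc_iff, hp, ptZ_bc_iff]
    refine h _ ?_ _
    rintro _ ⟨x, rfl⟩
    change (X.hom ≫ V.ι) x ∈ V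
    exact (X.hom x).2

/-- points commuting with `D(M)` satisfy all the conditions `QT` -/
lemma ptT_of_commutes (T : Submonoid (Multiplicative M)) {X : Over S} {g : X ⟶ G}
    (H : ∀ (X' : Over S) (x : X' ⟶ X) (h : X' ⟶ Red.DS S M), (x ≫ g) * (h ≫ J) = (h ≫ J) * (x ≫ g)) :
    PtT J T g := by
  intro C _ c x
  have h1 := H (mon (Multiplicative M) C c) (mPr _ C c ≫ x) (mPt C c)
  refine ⟨mPr _ C c ≫ x ≫ g, ?_⟩
  rw [toT_mPr_assoc, orbM, ← Category.assoc, ← h1, mul_inv_cancel_right]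

/-- points commuting with a subgroup isomorphic to `D(M)` -/
lemma commutes_iff {Q : Over S} [GrpObj Q] (e : Grp.mk Q ≅ Grp.mk (Red.DS S M)) (j : Q ⟶ G) {X : Over S} (g : X ⟶ G) :
    (∀ (X' : Over S) (x : X' ⟶ X) (h : X' ⟶ Q), (x ≫ g) * (h ≫ j) = (h ≫ j) * (x ≫ g)) ↔
    (∀ (X' : Over S) (x : X' ⟶ X) (h : X' ⟶ Red.DS S M),
      (x ≫ g) * (h ≫ e.inv.hom.hom ≫ j) = (h ≫ e.inv.hom.hom ≫ j) * (x ≫ g)) := by
  have h3 : e.hom.hom.hom ≫ e.inv.hom.hom = 𝟙 _ := by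
    rw [← Grp.comp_hom_hom, e.hom_inv_id]; rfl
  constructor
  · intro H X' x h
    have := H X' x (h ≫ e.inv.hom.hom)
    rwa [Category.assoc] at this
  · intro H X' x h
    have := H X' x (h ≫ e.hom.hom.hom)
    rwa [Category.assoc, reassoc_of% h3] at this

/-- **SGA 3 XXVI 6.2**, from the dynamic method -/
theorem exists_parabolic (PcU : ∀ {S : Scheme.{u}} {G P U Z : Over S} [GrpObj G] [GrpObj P] [GrpObj U] [GrpObj Z]
      (lam : Red.Gm S ⟶ G) [IsMonHom lam] (_ : Red.IsReductive G) (p : P ⟶ G) (_ : IsDynP lam p)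
      (u : U ⟶ P) (_ : IsDynU lam (u ≫ p)) (z : Z ⟶ P) (_ : IsDynZ lam (z ≫ p)),
      Red.IsParabolic p ∧ Par.IsUnipotentRadical u ∧ Par.IsLevi z)
    (LeviLoc : ∀ {S : Scheme.{u}} {G P L : Over S} [GrpObj G] [GrpObj P] [GrpObj L] (_ : Red.IsReductive G)
      (p : P ⟶ G) (_ : Red.IsParabolic p) (l : L ⟶ P) {I : Type u} {S' : I → Scheme.{u}} {f : ∀ i, S' i ⟶ S}
      (_ : IsEtCov f) (_ : IsMonHom l) (_ : Mono l) (_ : ∀ i, Par.IsLevi ((Over.pullback (f i)).map l)), Par.IsLevi l)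
    (G Q Z : Over S) [GrpObj G] [GrpObj Q] [GrpObj Z]
    (hG : Red.IsReductive G) (j : Q ⟶ G) [IsMonHom j] [Mono j] (M : Type) [AddCommGroup M]
    (hQt : Red.IsTorus Q) (hQ : Red.IsSplitTorusWith M Q)
    (z : Z ⟶ G) [IsMonHom z] (hZ : Red.IsCentralizerOf j z) :
    ∃ (P : Over S) (_ : GrpObj P) (p : P ⟶ G) (l : Z ⟶ P), Red.IsParabolic p ∧ l ≫ p = z ∧ Par.IsLevi l := by
  have hGa : IsAffineHom G.hom := hG.1
  have hGs : Smooth G.hom := hG.2.1
  obtain ⟨T, hT⟩ : ∃ T : AddSubmonoid M, Nonempty S → ∀ F : Finset M, ∃ ν : M →+ ℤ,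
      (∀ m ∈ F, m ∈ T ↔ 0 ≤ ν m) ∧ ∀ m ∈ F, ν m = 0 → m = 0 := by
    rcases isEmpty_or_nonempty S with h | h
    · exact ⟨⊤, fun h' => (IsEmpty.false h'.some).elim⟩
    · obtain ⟨T, hT⟩ := TorRank156.hasCone hQt hQ
      exact ⟨T, fun _ => hT⟩
  obtain ⟨e⟩ := hQ
  let J : Red.DS S M ⟶ G := e.inv.hom.hom ≫ j
  have hJ : IsMonHom J := inferInstanceAs (IsMonHom (e.inv.hom.hom ≫ j))
  obtain ⟨P, _, p, hp1, hp2, hp3, hp⟩ := exists_subgroup_T J (AddSubmonoid.toSubmonoid T)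
  obtain ⟨hz1, hz2, hz⟩ := hZ
  have hz' : ∀ (X : Over S) (g : X ⟶ G), (∃ x : X ⟶ Z, x ≫ z = g) ↔ PtT J ⊥ g := by
    intro X g
    rw [hz X g, ← commutes_iff_ptT]
    exact commutes_iff e j g
  obtain ⟨l, hl⟩ := (hp Z z).2 (ptT_of_commutes _ ((commutes_iff e j z).1 ((hz Z z).1 ⟨𝟙 _, Category.id_comp _⟩)))
  have hlm : IsMonHom l := by
    have : IsMonHom (l ≫ p) := by rw [hl]; infer_instance
    exact isMonHom_of_comp_mono (p := p)
  have hlmono : Mono l := by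
    have : Mono (l ≫ p) := by rw [hl]; infer_instance
    exact mono_of_mono l p
  -- the local situation
  have hloc : ∀ s : S, ∃ V : S.Opens, s ∈ V ∧ Red.IsParabolic ((Over.pullback V.ι).map p) ∧
      Par.IsLevi ((Over.pullback V.ι).map l) := by
    intro s
    obtain ⟨V, hsV, ν, hν⟩ := exists_nu (J := J) (hT ⟨s⟩) s
    refine ⟨V, hsV, ?_⟩
    have hP := isDynP_bc (J := J) (V := V) (fun X hX g => (hν X hX g).1) hp1 hp2 hp
    have hZ := isDynZ_bc (J := J) (V := V) (fun X hX g => (hν X hX g).2) hz1 hz2 hz'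
    have hqf : LocallyQuasiFinite V.ι := Desc.LQF.of_etale V.ι
    have hG' := isReductive_bc V.ι hG
    have hGa' : IsAffineHom (Red.bc V.ι G).hom := hG'.1
    obtain ⟨U, _, u', hu', -⟩ := exists_isDynU (bcLam (lamN J ν) V.ι)
    obtain ⟨u, rfl⟩ := exists_uP hP hu'
    have h3 : (Over.pullback V.ι).map z = (Over.pullback V.ι).map l ≫ (Over.pullback V.ι).map p := by
      rw [← Functor.map_comp, hl]
    rw [h3] at hZ
    obtain ⟨h4, -, h5⟩ := PcU (bcLam (lamN J ν) V.ι) hG' _ hP u hu' _ hZ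
    exact ⟨h4, h5⟩
  choose V hV hPar hLevi using hloc
  have hcov : IsEtCov (fun s => (V s).ι) := IsEtCov.of_etale _ (fun s => inferInstance)
    (fun s => ⟨s, ⟨⟨s, hV s⟩, rfl⟩⟩)
  have hpar : Red.IsParabolic p := isParabolic_of_cover hcov hp1 hPar
  exact ⟨P, inferInstance, p, l, hpar, hl, LeviLoc hG p hpar l hcov hlm hlmono hLevi⟩

end Groth.Agent.Sga3B.Parab.OrbM156
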