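import Mathlib.LinearAlgebra.SymmetricAlgebra.Basic
import Mathlib.Algebra.MvPolynomial.Funext
import Mathlib.RingTheory.Ideal.Quotient.Operations
import Mathlib.RingTheory.Finiteness.Projective
import Mathlib.AlgebraicGeometry.AffineScheme
import Groth.Agent.Sga3B.Parab.ConjSL

/-!
# Points of `Spec Sym(E)` over a semilocal ring with infinite residue fields
-/

set_option autoImplicit false

universe u

open MvPolynomial

namespace Groth.Agent.Sga3B.Parab.SymSec635

section Algebra

variable {A : Type*} [CommRing A]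

/-- A polynomial over an infinite domain which is nonzero takes a nonzero value. -/
theorem exists_eval_ne_zero {k : Type*} [CommRing k] [IsDomain k] [Infinite k] {n : ℕ}
    (f : MvPolynomial (Fin n) k) (hf : f ≠ 0) : ∃ a : Fin n → k, eval a f ≠ 0 := by
  by_contra h
  push Not at h
  exact hf (MvPolynomial.funext fun x => by rw [h x, map_zero])

/-- Chinese remainder for the finitely many maximal ideals of a semilocal ring. -/
theorem exists_lift_maximal (hA : {m : Ideal A | m.IsMaximal}.Finite)
    (b : ∀ m : Ideal A, A ⧸ m) : ∃ a : A, ∀ m : Ideal A, m.IsMaximal → Ideal.Quotient.mk m a = b m := by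
  have : Finite {m : Ideal A | m.IsMaximal} := hA
  cases nonempty_fintype {m : Ideal A | m.IsMaximal}
  have hco : Pairwise fun i j : {m : Ideal A | m.IsMaximal} => IsCoprime i.1 j.1 := by
    intro i j hij
    have hi : i.1.IsMaximal := i.2
    have hj : j.1.IsMaximal := j.2
    exact Ideal.isCoprime_of_isMaximal (fun h => hij (Subtype.ext h))
  obtain ⟨a, ha⟩ := Ideal.pi_quotient_surjective hco (fun i => b i.1)
  exact ⟨a, fun m hm => ha ⟨m, hm⟩⟩

/-- Sections of `Spec Sym(E)` over a semilocal ring with infinite residue fields through an open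
subset meeting the closed fibres. -/
theorem exists_algHom {E : Type*} [AddCommGroup E] [Module A E] [Module.Projective A E]
    [Module.Finite A E] (hA : {m : Ideal A | m.IsMaximal}.Finite)
    (hinf : ∀ m : Ideal A, m.IsMaximal → Infinite (A ⧸ m)) (I : Ideal (SymmetricAlgebra A E))
    (hI : ∀ m : Ideal A, m.IsMaximal → ¬ I ≤ m.map (algebraMap A (SymmetricAlgebra A E))) :
    ∃ φ : SymmetricAlgebra A E →ₐ[A] A, I.map φ.toRingHom = ⊤ := by
  classical
  obtain ⟨n, π, hπ⟩ := Module.Finite.exists_fin' A E
  obtain ⟨σ, hσ⟩ := Module.projective_lifting_property π LinearMap.id hπ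
  let Φ : SymmetricAlgebra A E →ₐ[A] MvPolynomial (Fin n) A :=
    SymmetricAlgebra.lift (∑ i, (LinearMap.toSpanSingleton A (MvPolynomial (Fin n) A) (X i)).comp
      ((LinearMap.proj i).comp σ))
  let Θ : MvPolynomial (Fin n) A →ₐ[A] SymmetricAlgebra A E :=
    aeval fun i => SymmetricAlgebra.ι A E (π (Pi.single i 1))
  have hΦ : ∀ e : E, Φ (SymmetricAlgebra.ι A E e) = ∑ i, σ e i • X i := by
    intro e
    simp [Φ]
  have hΘΦ : ∀ f, Θ (Φ f) = f := by
    intro f
    have h : Θ.comp Φ = AlgHom.id A _ := by
      ext e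
      change Θ (Φ (SymmetricAlgebra.ι A E e)) = SymmetricAlgebra.ι A E e
      rw [hΦ, map_sum]
      have h1 : ∀ i, Θ (σ e i • X i) = SymmetricAlgebra.ι A E (π (Pi.single i (σ e i))) := by
        intro i
        rw [map_smul]
        simp only [Θ, aeval_X]
        rw [← map_smul, ← map_smul, ← Pi.single_smul, smul_eq_mul, mul_one]
      rw [Finset.sum_congr rfl fun i _ => h1 i, ← map_sum, ← map_sum]
      congr 1
      rw [Finset.univ_sum_single]
      exact LinearMap.congr_fun hσ e
    exact DFunLike.congr_fun h f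
  -- choose good points of the closed fibres
  have hpt : ∀ m : Ideal A, ∃ (f : SymmetricAlgebra A E) (b : Fin n → A ⧸ m), m.IsMaximal →
      f ∈ I ∧ eval b (MvPolynomial.map (Ideal.Quotient.mk m) (Φ f)) ≠ 0 := by
    intro m
    by_cases hm : m.IsMaximal
    · have := hinf m hm
      have := Ideal.Quotient.isDomain m
      obtain ⟨f, hf, hfm⟩ := Set.not_subset.1 (hI m hm)
      have h1 : MvPolynomial.map (Ideal.Quotient.mk m) (Φ f) ≠ 0 := by
        intro h0
        apply hfm
        have h2 : Φ f ∈ m.map (C : A →+* MvPolynomial (Fin n) A) := by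
          rw [MvPolynomial.mem_map_C_iff]
          intro s
          have := congrArg (coeff s) h0
          rw [coeff_map, coeff_zero, Ideal.Quotient.eq_zero_iff_mem] at this
          exact this
        have h3 := Ideal.mem_map_of_mem Θ.toRingHom h2
        rw [Ideal.map_map] at h3
        have h4 : (Θ.toRingHom.comp (C : A →+* MvPolynomial (Fin n) A)) =
            algebraMap A (SymmetricAlgebra A E) := by
          ext a
          change Θ (C a) = _
          rw [← MvPolynomial.algebraMap_eq, AlgHom.commutes]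
        rw [h4] at h3
        have h5 : Θ.toRingHom (Φ f) = f := hΘΦ f
        rw [h5] at h3
        exact h3
      obtain ⟨b, hb⟩ := exists_eval_ne_zero _ h1
      exact ⟨f, b, fun _ => ⟨hf, hb⟩⟩
    · exact ⟨0, 0, fun h => absurd h hm⟩
  choose f b hfb using hpt
  have hlift : ∀ i : Fin n, ∃ a : A, ∀ m : Ideal A, m.IsMaximal → Ideal.Quotient.mk m a = b m i :=
    fun i => exists_lift_maximal hA fun m => b m i
  choose a ha using hlift
  refine ⟨(aeval a).comp Φ, ?_⟩
  by_contra hne
  obtain ⟨m, hm, hle⟩ := Ideal.exists_le_maximal _ hne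
  obtain ⟨hf, hb⟩ := hfb m hm
  apply hb
  have h1 : aeval a (Φ (f m)) ∈ m := hle (Ideal.mem_map_of_mem ((aeval a).comp Φ).toRingHom hf)
  have h2 : b m = fun i => Ideal.Quotient.mk m (a i) := funext fun i => (ha i m hm).symm
  rw [h2, eval_map]
  rw [← Ideal.Quotient.eq_zero_iff_mem] at h1
  rw [← h1, aeval_def, MvPolynomial.hom_eval₂]
  rfl

end Algebra

section Scheme

open CategoryTheory AlgebraicGeometry

/-- Over a semilocal ring with infinite residue fields, `Spec Sym(E)` has a section through every
open subset meeting all the closed fibres. -/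
theorem exists_section {A : Type u} [CommRing A] {E : Type u} [AddCommGroup E] [Module A E]
    [Module.Projective A E] [Module.Finite A E] (hA : {m : Ideal A | m.IsMaximal}.Finite)
    (hinf : ∀ m : Ideal A, m.IsMaximal → Infinite (A ⧸ m))
    (W : (Spec (CommRingCat.of (SymmetricAlgebra A E))).Opens)
    (hW : ∀ s : Spec (CommRingCat.of A), IsClosed {s} → ∃ w ∈ W,
      Spec.map (CommRingCat.ofHom (algebraMap A (SymmetricAlgebra A E))) w = s) :
    ∃ a : Spec (CommRingCat.of A) ⟶ Spec (CommRingCat.of (SymmetricAlgebra A E)),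
      a ≫ Spec.map (CommRingCat.ofHom (algebraMap A (SymmetricAlgebra A E))) = 𝟙 _ ∧
        ∀ s, a s ∈ W := by
  obtain ⟨I, hI⟩ := (PrimeSpectrum.isClosed_iff_zeroLocus_ideal _).1 W.isOpen.isClosed_compl
  have hmem : ∀ w : Spec (CommRingCat.of (SymmetricAlgebra A E)), w ∈ W ↔
      ¬ I ≤ PrimeSpectrum.asIdeal w := by
    intro w
    have h1 : w ∈ (W : Set (Spec (CommRingCat.of (SymmetricAlgebra A E))))ᶜ ↔
        I ≤ PrimeSpectrum.asIdeal w := by
      rw [hI]
      exact SetLike.coe_subset_coe
    rw [← h1]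
    simp
  obtain ⟨φ, hφ⟩ := exists_algHom hA hinf I (by
    intro m hm hle
    obtain ⟨w, hw, hwm⟩ := hW ⟨m, hm.isPrime⟩
      ((PrimeSpectrum.isClosed_singleton_iff_isMaximal _).2 hm)
    apply (hmem w).1 hw
    refine hle.trans ?_
    rw [Ideal.map_le_iff_le_comap]
    have := congrArg PrimeSpectrum.asIdeal hwm
    exact this.ge)
  refine ⟨Spec.map (CommRingCat.ofHom φ.toRingHom), ?_, ?_⟩
  · rw [← Spec.map_comp, ← CommRingCat.ofHom_comp]
    have : φ.toRingHom.comp (algebraMap A (SymmetricAlgebra A E)) = RingHom.id A :=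
      RingHom.ext fun a => φ.commutes a
    rw [this]
    exact Spec.map_id _
  · intro s
    refine (hmem _).2 ?_
    intro hle
    have h1 : I.map φ.toRingHom ≤ s.asIdeal := Ideal.map_le_iff_le_comap.2 hle
    rw [hφ, top_le_iff] at h1
    exact s.isPrime.ne_top h1

open MonoidalCategory CartesianMonoidalCategory in
/-- A vector bundle over a semilocal ring with infinite residue fields has sections through every
open subset meeting all the fibres. -/
theorem secThrough {A : Type u} [CommRing A] {E : Type u} [AddCommGroup E] [Module A E]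
    [Module.Projective A E] [Module.Finite A E] (hA : {m : Ideal A | m.IsMaximal}.Finite)
    (hinf : ∀ m : Ideal A, m.IsMaximal → Infinite (A ⧸ m)) (U : Over (Spec (CommRingCat.of A)))
    (e : U ≅ Over.mk (Spec.map (CommRingCat.ofHom (algebraMap A (SymmetricAlgebra A E))))) :
    ConjSL.SecThrough U := by
  intro W hW
  obtain ⟨a, ha, haW⟩ := exists_section hA hinf (e.inv.left ⁻¹ᵁ W) (by
    intro s _
    obtain ⟨w, hw, hws⟩ := hW s
    refine ⟨e.hom.left w, ?_, ?_⟩
    · change e.inv.left (e.hom.left w) ∈ W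
      rw [← Scheme.Hom.comp_apply, ← Over.comp_left, e.hom_inv_id]
      exact hw
    · rw [← hws, ← Over.w e.hom, Scheme.Hom.comp_apply]
      rfl)
  let a' : Over.mk (𝟙 (Spec (CommRingCat.of A))) ⟶
      Over.mk (Spec.map (CommRingCat.ofHom (algebraMap A (SymmetricAlgebra A E)))) :=
    Over.homMk a ha
  exact ⟨a' ≫ e.inv, fun s _ => haW s⟩

end Scheme

end Groth.Agent.Sga3B.Parab.SymSec635
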