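import Groth.Agent.Sga3B.Parab.DynExist998
import Groth.Agent.Sga3B.GrDynAlg678
import Groth.Agent.Sga3B.RootOrb
import Groth.Agent.Sga3B.BcPts
import Mathlib.AlgebraicGeometry.Morphisms.Smooth

/-!
# The strict transporter of two cocharacters

`G` smooth affine over `S`, `lam mu : 𝔾_m ⟶ G`: the functor of the points `g` of `G` with
`g lam g⁻¹ = mu` is represented by a closed subscheme of `G` which is smooth over `S`.
-/

set_option autoImplicit false

universe u

open CategoryTheory MonoidalCategory CartesianMonoidalCategory MonObj GrpObj AlgebraicGeometry Limits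
open scoped LaurentPolynomial Polynomial TensorProduct
open WithConv
open Groth.Agent.Books.AffBridge Groth.Agent.Books.DynBasic
open Groth.Agent.Sga3B.Parab.Chart998 Groth.Agent.Sga3B.Parab.AffPts998
open Groth.Agent.Sga3B.Parab.Rep998 Groth.Agent.Sga3B.Parab.Dyn998
open Groth.Agent.Sga3B.Parab.DynExist998 Groth.Agent.Sga3C

namespace Groth.Agent.Sga3B.Parab.Transp

section Alg

variable {R : Type u} [CommRing R] {A : Type u} [CommRing A] [HopfAlgebra R A]
variable {C : Type u} [CommRing C] [Algebra R C]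
variable (l m : A →ₐc[R] R[T;T⁻¹])

/-- The cocharacter with values in the multiplicatively written group algebra. -/
noncomputable def pM : A →ₐc[R] MonoidAlgebra R (Multiplicative ℤ) :=
  (AddMonoidAlgebra.toMultiplicativeBialgEquiv R R ℤ :
    R[T;T⁻¹] →ₐc[R] MonoidAlgebra R (Multiplicative ℤ)).comp l

variable (R C) in
/-- `C[T;T⁻¹]` as a multiplicatively written group algebra. -/
noncomputable def phi : C[T;T⁻¹] ≃ₐ[R] MonoidAlgebra C (Multiplicative ℤ) :=
  AddMonoidAlgebra.toMultiplicativeAlgEquiv R C ℤ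

lemma phi_comp_cst : ((phi R C : C[T;T⁻¹] →ₐ[R] _)).comp (cst R C) = RootOrb.cst R ℤ C := by
  ext c : 1
  change AddMonoidAlgebra.toMultiplicativeAlgEquiv R C ℤ (LaurentPolynomial.C c) = _
  rw [← LaurentPolynomial.single_eq_C, AddMonoidAlgebra.toMultiplicativeAlgEquiv_single]
  rfl

lemma mapPt_lamR : mapPt (phi R C : C[T;T⁻¹] →ₐ[R] _) (toConv (Dyn.lamR R A l C)) =
    RootOrb.torPt (pM l) (RootOrb.tau ℤ C) := by
  apply WithConv.ofConv_injective
  change ((phi R C : C[T;T⁻¹] →ₐ[R] _)).comp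
    ((AddMonoidAlgebra.mapAlgHom ℤ (Algebra.ofId R C)).comp (l : A →ₐ[R] R[T;T⁻¹])) =
    (RootOrb.evT R (RootOrb.tau ℤ C)).comp
      (((AddMonoidAlgebra.toMultiplicativeBialgEquiv R R ℤ :
        R[T;T⁻¹] →ₐc[R] MonoidAlgebra R (Multiplicative ℤ)) : R[T;T⁻¹] →ₐ[R] _).comp
          (l : A →ₐ[R] R[T;T⁻¹]))
  rw [← AlgHom.comp_assoc, ← AlgHom.comp_assoc]
  congr 1
  apply algHom_ext_T
  change AddMonoidAlgebra.toMultiplicativeAlgEquiv R C ℤ
    (AddMonoidAlgebra.mapAlgHom ℤ (Algebra.ofId R C) (LaurentPolynomial.T 1)) =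
    RootOrb.evT R (RootOrb.tau ℤ C)
      (AddMonoidAlgebra.toMultiplicativeBialgEquiv R R ℤ (LaurentPolynomial.T 1))
  rw [LaurentPolynomial.T, AddMonoidAlgebra.mapAlgHom_single, map_one,
    AddMonoidAlgebra.toMultiplicativeAlgEquiv_single,
    AddMonoidAlgebra.toMultiplicativeBialgEquiv_single, RootOrb.evT_single, one_smul]
  rfl

/-- The grading of `A` by twisted conjugation. -/
noncomputable abbrev gr (n : ℤ) : Submodule R A := RootCoact.gr (RootOrb.coact (pM m) (pM l)) n

/-- The ideal of the strict transporter. -/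
noncomputable def J : Ideal A := GrDynAlg678.JS (gr l m) (⊥ : AddSubmonoid ℤ)

lemma tr_iff (g : A →ₐ[R] C) :
    toConv ((cst R C).comp g) * toConv (Dyn.lamR R A l C) =
      toConv (Dyn.lamR R A m C) * toConv ((cst R C).comp g) ↔ ∀ a ∈ J l m, g a = 0 := by
  rw [J, GrDynAlg678.vanish_JS_iff]
  have h1 := RootOrb.fixed_iff (pM m) (pM l) (toConv g)
  have h2 : (∀ n ∉ (⊥ : AddSubmonoid ℤ), ∀ a ∈ gr l m n, g a = 0) ↔
      ∀ n ≠ 0, ∀ a ∈ RootCoact.gr (RootOrb.coact (pM m) (pM l)) n, (toConv g).ofConv a = 0 := by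
    simp only [AddSubmonoid.mem_bot]
  rw [h2, ← h1, RootOrb.orbU, RootOrb.orb, ← mapPt_lamR l, ← mapPt_lamR m, mul_inv_eq_iff_eq_mul]
  have h3 : mapPt (RootOrb.cst R ℤ C) (toConv g) =
      mapPt (phi R C : C[T;T⁻¹] →ₐ[R] _) (toConv ((cst R C).comp g)) := by
    apply WithConv.ofConv_injective
    change (RootOrb.cst R ℤ C).comp g = ((phi R C : C[T;T⁻¹] →ₐ[R] _)).comp ((cst R C).comp g)
    rw [← AlgHom.comp_assoc, phi_comp_cst]
  rw [h3, ← map_mul, ← map_mul]
  constructor
  · intro h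
    rw [h]
  · intro h
    exact (mapPt_injective _ (phi R C).injective h).symm

end Alg

section Charts

variable {S : Scheme.{u}} {G : Over S} [GrpObj G]
variable {Q : ∀ (C : Type u) [CommRing C] (c : Spec (CommRingCat.of C) ⟶ S), (aff C c ⟶ G) → Prop}
variable {P : Over S} (p : P ⟶ G) [Mono p]
variable (hP : ∀ (X : Over S) (g : X ⟶ G), (∃ x : X ⟶ P, x ≫ p = g) ↔ PtQ Q g)
variable {R : Type u} [CommRing R] {r : Spec (CommRingCat.of R) ⟶ S}
variable {A : Type u} [CommRing A] [HopfAlgebra R A] (e : Red.bc r G ≅ SpecOver R A) [IsMonHom e.hom]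

include hP in
/-- In a chart the closed subscheme given by an ideal condition is the spectrum of the quotient. -/
theorem exists_chart_iso [IsAffineHom G.hom] (hQ : IdealCond Q) (J : Ideal A)
    (hJ : ∀ (C : Type u) [CommRing C] [Algebra R C] (c : Spec (CommRingCat.of C) ⟶ S)
      (hc : Spec.map (CommRingCat.ofHom (algebraMap R C)) ≫ r = c) (g : A →ₐ[R] C),
      Q C c (pt e hc g) ↔ ∀ a ∈ J, g a = 0) :
    Nonempty (SpecOver R (A ⧸ J) ≅ Red.bc r P) := by
  -- the universal point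
  let c₀ : Spec (CommRingCat.of (A ⧸ J)) ⟶ S :=
    Spec.map (CommRingCat.ofHom (algebraMap R (A ⧸ J))) ≫ r
  have hq : PtQ Q (pt e (c := c₀) rfl (Ideal.Quotient.mkₐ R J)) := by
    rw [hQ.ptQ_iff, hJ]
    intro a ha
    exact Ideal.Quotient.eq_zero_iff_mem.2 ha
  obtain ⟨x, hx⟩ := (hP _ _).2 hq
  let φ : SpecOver R (A ⧸ J) ⟶ Red.bc r P :=
    BcPts.bcEquiv r (SpecOver R (A ⧸ J)) P ((cmp (c := c₀) rfl).inv ≫ x)
  have hcomp : ∀ {T : Over (Spec (CommRingCat.of R))} (y : (Over.map r).obj T ⟶ P),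
      BcPts.bcEquiv r T P y ≫ (Over.pullback r).map p = DSPts.bcEquiv r T G (y ≫ p) :=
    fun y => (BcPts.bcEquiv_comp r y p).symm
  have hφ : φ ≫ (Over.pullback r).map p = specMap R (Ideal.Quotient.mkₐ R J) ≫ e.inv := by
    rw [hcomp, Category.assoc, hx, pt, Iso.inv_hom_id_assoc, MulEquiv.apply_symm_apply]
  have hφ' : φ ≫ (Over.pullback r).map p ≫ e.hom = specMap R (Ideal.Quotient.mkₐ R J) := by
    rw [← Category.assoc, hφ, Category.assoc, Iso.inv_hom_id, Category.comp_id]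
  have hmono : Mono (specMap R (Ideal.Quotient.mkₐ R J)) := by
    have h1 : IsClosedImmersion (specMap R (Ideal.Quotient.mkₐ R J)).left :=
      IsClosedImmersion.spec_of_surjective _ Ideal.Quotient.mk_surjective
    exact Over.mono_of_mono_left _
  have hφm : Mono φ := by
    rw [← hφ'] at hmono
    exact mono_of_mono φ ((Over.pullback r).map p ≫ e.hom)
  have hpm : Mono ((Over.pullback r).map p) := inferInstance
  have key : ∀ (C : Type u) [CommRing C] [Algebra R C] (y : SpecOver R C ⟶ Red.bc r P),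
      ∃ z : SpecOver R C ⟶ SpecOver R (A ⧸ J), z ≫ φ = y := by
    intro C _ _ y
    let c₁ : Spec (CommRingCat.of C) ⟶ S := Spec.map (CommRingCat.ofHom (algebraMap R C)) ≫ r
    let y' : aff C c₁ ⟶ P := (cmp (c := c₁) rfl).hom ≫ (BcPts.bcEquiv r (SpecOver R C) P).symm y
    have hy' : PtQ Q (y' ≫ p) := (hP _ _).1 ⟨y', rfl⟩
    rw [hQ.ptQ_iff] at hy'
    obtain ⟨g, hg⟩ := (pt_bijective e (c := c₁) rfl).2 (y' ≫ p)
    rw [← hg, hJ] at hy'
    refine ⟨specMap R (Ideal.Quotient.liftₐ J g hy'), ?_⟩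
    rw [← cancel_mono ((Over.pullback r).map p), Category.assoc, hφ, ← Category.assoc,
      ← specMap_comp]
    have h1 : (Ideal.Quotient.liftₐ J g hy').comp (Ideal.Quotient.mkₐ R J) = g := by
      ext a; rfl
    rw [h1]
    have h2 : y = BcPts.bcEquiv r (SpecOver R C) P ((cmp (c := c₁) rfl).inv ≫ y') := by
      rw [Iso.inv_hom_id_assoc, Equiv.apply_symm_apply]
    rw [h2, hcomp, Category.assoc, ← hg, pt, Iso.inv_hom_id_assoc, MulEquiv.apply_symm_apply]
  have hiso : IsIso φ := by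
    apply isIso_of_aff
    intro C _ c
    refine ⟨fun a b h => (cancel_mono φ).1 h, fun y => ?_⟩
    obtain ⟨ψ, rfl⟩ : ∃ ψ : R →+* C, Spec.map (CommRingCat.ofHom ψ) = c :=
      ⟨(Spec.preimage c).hom, Spec.map_preimage c⟩
    let _ : Algebra R C := ψ.toAlgebra
    exact key C y
  exact ⟨asIso φ⟩

lemma smooth_specMap_iff (R A : Type u) [CommRing R] [CommRing A] [Algebra R A] :
    Smooth (SpecOver R A).hom ↔ Algebra.Smooth R A := by
  change Smooth (Spec.map (CommRingCat.ofHom (algebraMap R A))) ↔ _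
  rw [HasRingHomProperty.Spec_iff (P := @Smooth), ← RingHom.smooth_algebraMap]
  rfl

omit [GrpObj G] in
lemma algebra_smooth {R : Type u} [CommRing R] {r : Spec (CommRingCat.of R) ⟶ S}
    {A : Type u} [CommRing A] [Algebra R A] (e : (Over.pullback r).obj G ≅ SpecOver R A)
    [Smooth G.hom] : Algebra.Smooth R A := by
  rw [← smooth_specMap_iff, ← Over.w e.inv]
  have h1 : Smooth ((Over.pullback r).obj G).hom := by
    change Smooth (pullback.snd G.hom r)
    infer_instance
  have h2 : IsIso e.inv.left := (Over.forget _).map_isIso e.inv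
  infer_instance

include hP in
/-- A closed subscheme given by an ideal condition is smooth if it is in charts. -/
theorem smooth_of_charts [IsAffineHom G.hom] [Smooth G.hom] (hQ : IdealCond Q)
    (H : ∀ (R : Type u) [CommRing R] (r : Spec (CommRingCat.of R) ⟶ S)
      (A : Type u) [CommRing A] [HopfAlgebra R A] (e : Red.bc r G ≅ SpecOver R A) [IsMonHom e.hom]
      [Algebra.Smooth R A], ∃ J : Ideal A, Algebra.Smooth R (A ⧸ J) ∧
      ∀ (C : Type u) [CommRing C] [Algebra R C] (c : Spec (CommRingCat.of C) ⟶ S)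
      (hc : Spec.map (CommRingCat.ofHom (algebraMap R C)) ≫ r = c) (g : A →ₐ[R] C),
      Q C c (pt e hc g) ↔ ∀ a ∈ J, g a = 0) : Smooth P.hom := by
  have key : ∀ (R : CommRingCat.{u}) (r : Spec R ⟶ S), Smooth (pullback.snd P.hom r) := by
    intro R r
    obtain ⟨A, _, _, e, _⟩ := exists_chart (G := G) (R := R) r
    have := algebra_smooth e
    obtain ⟨J, hs, hJ⟩ := H R r A e
    obtain ⟨φ⟩ := exists_chart_iso p hP e hQ J hJ
    have h2 : IsIso φ.inv.left := (Over.forget _).map_isIso φ.inv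
    have h3 : Smooth (SpecOver R (A ⧸ J)).hom := (smooth_specMap_iff R _).2 hs
    have h4 : Smooth (Red.bc r P).hom := by
      rw [← Over.w φ.inv]
      infer_instance
    exact h4
  refine IsZariskiLocalAtTarget.of_openCover (P := @Smooth) S.affineCover fun i => ?_
  exact affineCover_ind (X := S) (fun {T} f => Smooth (pullback.snd P.hom f)) (fun R f => key R f) i

end Charts

section Main

variable {S : Scheme.{u}} {G : Over S} [GrpObj G] (lam mu : Red.Gm S ⟶ G)

/-- `g` conjugates `lam` into `mu`, on an affine point. -/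
def TrAff (C : Type u) [CommRing C] (c : Spec (CommRingCat.of C) ⟶ S) (g : aff C c ⟶ G) : Prop :=
  (gmPr C c ≫ g) * (tPt C c ≫ lam) = (tPt C c ≫ mu) * (gmPr C c ≫ g)

/-- `g` conjugates `lam` into `mu`: `g lam g⁻¹ = mu`. -/
def TrPt {X : Over S} (g : X ⟶ G) : Prop :=
  ∀ (Y : Over S) (y : Y ⟶ X) (t : Y ⟶ Red.Gm S),
    (y ≫ g) * (t ≫ lam) * (y ≫ g)⁻¹ = t ≫ mu

variable {lam mu}

lemma TrPt.comp {X X' : Over S} {g : X ⟶ G} (h : TrPt lam mu g) (x : X' ⟶ X) :
    TrPt lam mu (x ≫ g) := by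
  intro Y y t
  rw [← Category.assoc]
  exact h Y (y ≫ x) t

lemma ptQ_tr_iff {X : Over S} (g : X ⟶ G) :
    PtQ (fun C _ c g => TrAff lam mu C c g) g ↔ TrPt lam mu g := by
  constructor
  · intro h Y y t
    apply hom_ext_aff
    intro C _ c x
    have h1 := h C c (x ≫ y)
    obtain ⟨s, hs1, hs2⟩ := exists_section (x ≫ t)
    have h2 := congrArg (fun z => s ≫ z) h1
    simp only [MonObj.comp_mul] at h2
    rw [← Category.assoc, ← Category.assoc s, ← Category.assoc s, hs1, hs2, Category.id_comp] at h2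
    rw [MonObj.comp_mul, MonObj.comp_mul, GrpObj.comp_inv, mul_inv_eq_iff_eq_mul,
      ← Category.assoc x y, ← Category.assoc x t lam, ← Category.assoc x t mu]
    exact h2
  · intro h C _ c x
    have h1 := h (gmo C c) (gmPr C c ≫ x) (tPt C c)
    rw [mul_inv_eq_iff_eq_mul, Category.assoc] at h1
    exact h1

variable (lam mu)
variable [IsMonHom lam] [IsMonHom mu]

lemma trAff_pt_iff {R : Type u} [CommRing R] {r : Spec (CommRingCat.of R) ⟶ S}
    {A : Type u} [CommRing A] [HopfAlgebra R A] (e : Red.bc r G ≅ SpecOver R A) [IsMonHom e.hom]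
    {C : Type u} [CommRing C] [Algebra R C] {c : Spec (CommRingCat.of C) ⟶ S}
    (hc : Spec.map (CommRingCat.ofHom (algebraMap R C)) ≫ r = c) (g : A →ₐ[R] C) :
    TrAff lam mu C c (pt e hc g) ↔ ∀ a ∈ J (lamB lam e) (lamB mu e), g a = 0 := by
  rw [TrAff, gmPr_pt e hc, ← pt_lamR lam e hc, ← pt_lamR mu e hc, ← tr_iff]
  have h1 := pt_mul e (hcL hc) (toConv ((cst R C).comp g)) (toConv (Dyn.lamR R A (lamB lam e) C))
  have h2 := pt_mul e (hcL hc) (toConv (Dyn.lamR R A (lamB mu e) C)) (toConv ((cst R C).comp g))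
  rw [WithConv.ofConv_toConv, WithConv.ofConv_toConv] at h1 h2
  rw [← h1, ← h2]
  constructor
  · intro h
    exact WithConv.ofConv_injective ((pt_bijective e (hcL hc)).1 h)
  · intro h
    rw [h]

lemma idealCond_tr : IdealCond (G := G) (fun C _ c g => TrAff lam mu C c g) :=
  fun _ _ _ _ _ _ e _ => ⟨_, fun _ _ _ _ hc g => trAff_pt_iff lam mu e hc g⟩

/-- **The strict transporter of two cocharacters is a smooth closed subscheme.** -/
theorem exists_transporter [IsAffineHom G.hom] [Smooth G.hom] :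
    ∃ (Z : Over S) (z : Z ⟶ G), IsClosedImmersion z.left ∧ Smooth Z.hom ∧
      ∀ (X : Over S) (g : X ⟶ G), (∃ x : X ⟶ Z, x ≫ z = g) ↔ TrPt lam mu g := by
  obtain ⟨I, hI⟩ := exists_sub (idealCond_tr lam mu)
  refine ⟨_, _, inferInstance, ?_, fun X g => (hI X g).trans (ptQ_tr_iff g)⟩
  refine smooth_of_charts (ClosedSub.subι G I) hI (idealCond_tr lam mu) fun R _ r A _ _ e _ _ =>
    ⟨J (lamB lam e) (lamB mu e), ?_, fun C _ _ c hc g => trAff_pt_iff lam mu e hc g⟩
  exact GrDynAlg678.smooth_JS _ _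

end Main

end Groth.Agent.Sga3B.Parab.Transp
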